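import Mathlib

set_option autoImplicit false
set_option linter.unusedVariables false
set_option linter.unusedSimpArgs false
set_option linter.unusedSectionVars false
set_option linter.style.haveILetI false
set_option linter.flexible false

/-!
Finite rotation groups: a finite group partitioned by subgroups, each of index at most two in its normaliser,
has few classes of large members.
-/

namespace Cfsg.Lib.Classical.OFr

universe u

variable {G : Type u} [Group G]

/-- The conjugate subgroup. -/
def cj (x : G) (C : Subgroup G) : Subgroup G := C.map (MulAut.conj x).toMonoidHom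

theorem mem_cj {x g : G} {C : Subgroup G} : g ∈ cj x C ↔ x⁻¹ * g * x ∈ C := by
  constructor
  · rintro ⟨c, hc, rfl⟩
    simpa [mul_assoc] using hc
  · intro h
    exact ⟨_, h, by simp [mul_assoc]⟩

theorem cj_mul (x y : G) (C : Subgroup G) : cj (x * y) C = cj x (cj y C) := by
  ext g; simp [mem_cj, mul_assoc]

theorem cj_one (C : Subgroup G) : cj 1 C = C := by
  ext g; simp [mem_cj]

/-- A partition into subgroups of small index in their normalisers. -/
structure AxisPartition (G : Type u) [Group G] (S : Set (Subgroup G)) : Prop where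
  cover : ∀ g : G, g ≠ 1 → ∃ C ∈ S, g ∈ C
  ti : ∀ C ∈ S, ∀ D ∈ S, ∀ g : G, g ≠ 1 → g ∈ C → g ∈ D → C = D
  conj : ∀ C ∈ S, ∀ x : G, cj x C ∈ S
  half : ∀ C ∈ S, ∀ x y : G, cj x C = C → cj y C = C → x ∉ C → y ∉ C → x * y ∈ C

variable [Fintype G] {S : Set (Subgroup G)}

open scoped _root_.Classical in
/-- The nontrivial elements of the conjugates. -/
noncomputable def uset (C : Subgroup G) : Finset G :=
  Finset.univ.filter fun g => g ≠ 1 ∧ ∃ x, g ∈ cj x C

theorem mem_uset {C : Subgroup G} {g : G} : g ∈ uset C ↔ g ≠ 1 ∧ ∃ x, g ∈ cj x C := by simp [uset]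

namespace AxisPartition

theorem disjoint_uset (P : AxisPartition G S) {C D : Subgroup G} (hC : C ∈ S) (hD : D ∈ S)
    (hne : ∀ x, cj x C ≠ D) : Disjoint (uset C) (uset D) := by
  rw [Finset.disjoint_left]
  intro g hg hg'
  obtain ⟨h1, x, hx⟩ := mem_uset.mp hg
  obtain ⟨-, y, hy⟩ := mem_uset.mp hg'
  have e := P.ti _ (P.conj C hC x) _ (P.conj D hD y) g h1 hx hy
  refine hne (y⁻¹ * x) ?_
  rw [cj_mul, e, ← cj_mul, inv_mul_cancel, cj_one]

theorem class_card (P : AxisPartition G S) {C : Subgroup G} (hC : C ∈ S) :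
    ∃ c δ : ℕ, (δ = 1 ∨ δ = 2) ∧ ((∃ x, cj x C = C ∧ x ∉ C) → δ = 2) ∧ (uset C).card + c = c * Nat.card C ∧
      c * (δ * Nat.card C) = Fintype.card G ∧ (∀ T : Finset (Subgroup G), (∀ D ∈ T, ∃ x, cj x C = D) → T.card ≤ c) := by
  classical
  set O := Finset.univ.image fun x => cj x C with hO
  have hCc : Nat.card C = (Finset.univ.filter fun g => g ∈ C).card := by
    rw [Nat.card_eq_fintype_card, Fintype.card_subtype]
  have hmemC : ∀ c ∈ C, cj c C = C := fun c hc => by
    ext g; rw [mem_cj]
    exact ⟨fun h => by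
      have := C.mul_mem (C.mul_mem hc h) (C.inv_mem hc)
      simpa [mul_assoc] using this, fun h => C.mul_mem (C.mul_mem (C.inv_mem hc) h) hc⟩
  set N := Finset.univ.filter fun x => cj x C = C with hN
  have hfib : ∀ D ∈ O, (Finset.univ.filter fun x => cj x C = D).card = N.card := by
    intro D hD
    obtain ⟨x₀, -, rfl⟩ := Finset.mem_image.mp hD
    refine Finset.card_nbij' (fun x => x₀⁻¹ * x) (fun x => x₀ * x) ?_ ?_ ?_ ?_
    · intro x hx
      simp only [Finset.coe_filter, Set.mem_setOf_eq, Finset.mem_univ, true_and, hN] at hx ⊢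
      rw [cj_mul, hx, ← cj_mul, inv_mul_cancel, cj_one]
    · intro x hx
      simp only [Finset.coe_filter, Set.mem_setOf_eq, Finset.mem_univ, true_and, hN] at hx ⊢
      rw [cj_mul, hx]
    · intro x _; simp
    · intro x _; simp
  have hsum : O.card * N.card = Fintype.card G := by
    rw [← Finset.card_univ (α := G), Finset.card_eq_sum_card_image (fun x => cj x C) Finset.univ,
      Finset.sum_congr rfl hfib, Finset.sum_const, smul_eq_mul]
  set C0 := Finset.univ.filter fun g => g ∈ C with hC0
  have hsubN : C0 ⊆ N := fun g hg => by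
    simp only [hC0, hN, Finset.mem_filter, Finset.mem_univ, true_and] at hg ⊢
    exact hmemC g hg
  obtain ⟨δ, hδ, hδ2, hNc⟩ : ∃ δ, (δ = 1 ∨ δ = 2) ∧ ((∃ x, cj x C = C ∧ x ∉ C) → δ = 2) ∧
      N.card = δ * Nat.card C := by
    by_cases hx : ∃ x, cj x C = C ∧ x ∉ C
    · obtain ⟨x, hxN, hxC⟩ := hx
      refine ⟨2, Or.inr rfl, fun _ => rfl, ?_⟩
      have h1 : (N \ C0).card = C0.card := by
        refine Finset.card_nbij' (fun y => x * y) (fun c => x⁻¹ * c) ?_ ?_ ?_ ?_
        · intro y hy
          simp only [Finset.coe_sdiff, Set.mem_sdiff, Finset.mem_coe, hN, hC0, Finset.mem_filter, Finset.mem_univ,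
            true_and] at hy ⊢
          exact P.half C hC x y hxN hy.1 hxC hy.2
        · intro c hc
          simp only [Finset.coe_sdiff, Set.mem_sdiff, Finset.mem_coe, hN, hC0, Finset.mem_filter, Finset.mem_univ,
            true_and] at hc ⊢
          refine ⟨?_, fun h => hxC ?_⟩
          · have hxi : cj x⁻¹ C = C := by conv_lhs => rw [← hxN, ← cj_mul, inv_mul_cancel, cj_one]
            rw [cj_mul, hmemC c hc, hxi]
          · have := C.mul_mem hc (C.inv_mem h)
            simpa using this
        · intro y _; simp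
        · intro y _; simp
      have h2 := Finset.card_sdiff_add_card_eq_card hsubN
      rw [h1, ← hCc] at h2
      omega
    · refine ⟨1, Or.inl rfl, fun h => absurd h hx, ?_⟩
      push Not at hx
      rw [one_mul, hCc]
      refine congrArg Finset.card (Finset.Subset.antisymm ?_ hsubN)
      intro g hg
      simp only [hC0, hN, Finset.mem_filter, Finset.mem_univ, true_and] at hg ⊢
      exact hx g hg
  refine ⟨O.card, δ, hδ, hδ2, ?_, by rw [← hNc]; exact hsum, fun T hT => Finset.card_le_card fun D hD => ?_⟩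
  · have hU : uset C = O.biUnion fun D => Finset.univ.filter fun g => g ≠ 1 ∧ g ∈ D := by
      ext g; simp [mem_uset, hO]
    have hd : (O : Set (Subgroup G)).PairwiseDisjoint fun D => Finset.univ.filter fun g => g ≠ 1 ∧ g ∈ D := by
      intro D hD E hE hne
      rw [Function.onFun, Finset.disjoint_left]
      intro g hg hg'
      simp only [Finset.mem_filter, Finset.mem_univ, true_and] at hg hg'
      obtain ⟨x, -, rfl⟩ := Finset.mem_image.mp hD
      obtain ⟨y, -, rfl⟩ := Finset.mem_image.mp hE
      exact hne (P.ti _ (P.conj C hC x) _ (P.conj C hC y) g hg.1 hg.2 hg'.2)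
    have hone : ∀ D ∈ O, (Finset.univ.filter fun g => g ≠ 1 ∧ g ∈ D).card + 1 = Nat.card C := by
      intro D hD
      obtain ⟨x, -, rfl⟩ := Finset.mem_image.mp hD
      have e : Nat.card C = Nat.card (cj x C) := Nat.card_congr
        (C.equivMapOfInjective _ (MulAut.conj x).injective).toEquiv
      rw [e, Nat.card_eq_fintype_card, Fintype.card_subtype]
      have e2 : (Finset.univ.filter fun g => g ≠ 1 ∧ g ∈ cj x C) = (Finset.univ.filter fun g => g ∈ cj x C).erase 1 := by
        ext g; simp
      rw [e2, Finset.card_erase_add_one (by simp [(cj x C).one_mem])]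
    rw [hU, Finset.card_biUnion hd]
    have := Finset.sum_congr rfl hone
    rw [Finset.sum_add_distrib, Finset.sum_const, Finset.sum_const, smul_eq_mul, smul_eq_mul, mul_one] at this
    exact this
  · obtain ⟨x, rfl⟩ := hT D hD
    exact Finset.mem_image.mpr ⟨x, Finset.mem_univ x, rfl⟩

theorem class_bounds (P : AxisPartition G S) {D : Subgroup G} (hD : D ∈ S) {g : G} (hg : g ≠ 1) (hgD : g ∈ D) :
    Fintype.card G ≤ 4 * (uset D).card ∧
      (Fintype.card G = 4 * (uset D).card ∨ Fintype.card G = 2 * (uset D).card ∨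
        (Fintype.card G ≤ 3 * (uset D).card ∧
          (2 * (uset D).card < Fintype.card G ∨ 2 * Fintype.card G ≤ 3 * (uset D).card))) := by
  obtain ⟨c, δ, hδ, -, hU, hN, -⟩ := P.class_card hD
  have h2 : 2 ≤ Nat.card D := by
    haveI : Nontrivial D := ⟨⟨g, hgD⟩, 1, fun h => hg (congrArg Subtype.val h)⟩
    exact Finite.one_lt_card
  have hpos : 0 < Fintype.card G := Fintype.card_pos
  have hc : 1 ≤ c := by
    by_contra h
    have : c = 0 := by omega
    rw [this, zero_mul] at hN
    omega
  rcases hδ with rfl | rfl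
  · rw [one_mul] at hN
    rcases Nat.lt_or_ge (Nat.card D) 3 with h | h
    · have : Nat.card D = 2 := by omega
      rw [this] at hU hN
      omega
    · have := Nat.mul_le_mul_left c h
      omega
  · have hN2 : 2 * (c * Nat.card D) = Fintype.card G := by rw [← hN]; ring
    rcases Nat.lt_or_ge (Nat.card D) 3 with h | h
    · have : Nat.card D = 2 := by omega
      rw [this] at hU hN2
      omega
    · have := Nat.mul_le_mul_left c h
      omega

theorem two_classes_false (P : AxisPartition G S) {A B : Subgroup G} (hA : A ∈ S) (hB : B ∈ S)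
    (hne : ∀ x, cj x A ≠ B) (hA4 : 4 ≤ Nat.card A) (hB4 : 4 ≤ Nat.card B) (hfA : ∃ x, cj x A = A ∧ x ∉ A)
    (hfB : ∃ x, cj x B = B ∧ x ∉ B) : False := by
  classical
  obtain ⟨a, δ, -, hd, hUA, hNA, -⟩ := P.class_card hA
  obtain ⟨b, δ', -, hd', hUB, hNB, -⟩ := P.class_card hB
  rw [hd hfA] at hNA
  rw [hd' hfB] at hNB
  have hA2 : 2 * (a * Nat.card A) = Fintype.card G := by rw [← hNA]; ring
  have hB2 : 2 * (b * Nat.card B) = Fintype.card G := by rw [← hNB]; ring
  have ha := Nat.mul_le_mul_left a hA4
  have hb := Nat.mul_le_mul_left b hB4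
  have hpos : 0 < Fintype.card G := Fintype.card_pos
  have ha1 : 1 ≤ a := by
    by_contra h
    have : a = 0 := by omega
    rw [this, zero_mul] at hA2
    omega
  have hb1 : 1 ≤ b := by
    by_contra h
    have : b = 0 := by omega
    rw [this, zero_mul] at hB2
    omega
  by_cases hout : ∃ g : G, g ≠ 1 ∧ g ∉ uset A ∧ g ∉ uset B
  · obtain ⟨g, hg, hgA, hgB⟩ := hout
    obtain ⟨D, hD, hgD⟩ := P.cover g hg
    have d1 := P.disjoint_uset hA hD fun x hx => hgA (mem_uset.mpr ⟨hg, x, hx ▸ hgD⟩)
    have d2 := P.disjoint_uset hB hD fun x hx => hgB (mem_uset.mpr ⟨hg, x, hx ▸ hgD⟩)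
    have d3 := P.disjoint_uset hA hB hne
    have h := Finset.card_le_card (show (uset A ∪ uset B) ∪ uset D ⊆ Finset.univ.erase 1 from fun y hy => by
      simp only [Finset.mem_union, mem_uset] at hy
      refine Finset.mem_erase.mpr ⟨?_, Finset.mem_univ y⟩
      rcases hy with (hy | hy) | hy <;> exact hy.1)
    rw [Finset.card_union_of_disjoint (Finset.disjoint_union_left.mpr ⟨d1, d2⟩),
      Finset.card_union_of_disjoint d3, Finset.card_erase_of_mem (Finset.mem_univ _), Finset.card_univ] at h
    have := (P.class_bounds hD hg hgD).1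
    omega
  · push Not at hout
    have h := Finset.card_le_card (show Finset.univ.erase 1 ⊆ uset A ∪ uset B from fun y hy => by
      rw [Finset.mem_union]
      by_cases hyA : y ∈ uset A
      · exact Or.inl hyA
      · exact Or.inr (hout y (Finset.mem_erase.mp hy).1 hyA))
    rw [Finset.card_erase_of_mem (Finset.mem_univ _), Finset.card_univ] at h
    have := Finset.card_union_le (uset A) (uset B)
    omega

theorem one_class_false (P : AxisPartition G S) {A : Subgroup G} (hA : A ∈ S) (hA6 : 6 ≤ Nat.card A)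
    (hfA : ∃ x, cj x A = A ∧ x ∉ A) (T : Finset (Subgroup G)) (hT : 2 ≤ T.card) (hTA : ∀ D ∈ T, ∃ x, cj x A = D) :
    False := by
  classical
  obtain ⟨a, δ, -, hd, hUA, hNA, hle⟩ := P.class_card hA
  rw [hd hfA] at hNA
  have hA2 : 2 * (a * Nat.card A) = Fintype.card G := by rw [← hNA]; ring
  have ha := Nat.mul_le_mul_left a hA6
  have ha3 := hle T hTA
  have hU : ∀ {s : Finset (Subgroup G)}, (∀ D ∈ s, D ∈ S) → ∀ y ∈ s.biUnion uset, y ≠ 1 := by
    intro s hs y hy
    obtain ⟨D, -, hyD⟩ := Finset.mem_biUnion.mp hy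
    exact (mem_uset.mp hyD).1
  -- an element outside a family of classes gives a further class
  have more : ∀ V : Finset G, V.card + 1 < Fintype.card G → (∀ y ∈ V, ∃ C ∈ S, y ∈ uset C ∧ uset C ⊆ V) →
      ∃ D ∈ S, ∃ g, g ≠ 1 ∧ g ∈ D ∧ Disjoint V (uset D) := by
    intro V hV hVc
    obtain ⟨g, hg, hgV⟩ := Finset.exists_mem_notMem_of_card_lt_card (s := V) (t := Finset.univ.erase (1 : G)) (by
      rw [Finset.card_erase_of_mem (Finset.mem_univ _), Finset.card_univ]; omega)
    have hg1 := (Finset.mem_erase.mp hg).1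
    obtain ⟨D, hD, hgD⟩ := P.cover g hg1
    refine ⟨D, hD, g, hg1, hgD, ?_⟩
    rw [Finset.disjoint_left]
    intro y hy hyD
    obtain ⟨C, hC, hyC, hCV⟩ := hVc y hy
    by_cases hcd : ∀ x, cj x C ≠ D
    · exact Finset.disjoint_left.mp (P.disjoint_uset hC hD hcd) hyC hyD
    · push Not at hcd
      obtain ⟨x, rfl⟩ := hcd
      exact hgV (hCV (mem_uset.mpr ⟨hg1, x, hgD⟩))
  have bound : ∀ V : Finset G, (∀ y ∈ V, y ≠ 1) → V.card + 1 ≤ Fintype.card G := by
    intro V hV
    have := Finset.card_le_card (show V ⊆ Finset.univ.erase 1 from fun y hy =>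
      Finset.mem_erase.mpr ⟨hV y hy, Finset.mem_univ y⟩)
    rw [Finset.card_erase_of_mem (Finset.mem_univ _), Finset.card_univ] at this
    have hpos : 0 < Fintype.card G := Fintype.card_pos
    omega
  obtain ⟨D, hD, g, hg, hgD, dD⟩ := more (uset A) (by omega) fun y hy => ⟨A, hA, hy, subset_rfl⟩
  obtain ⟨bD, cD⟩ := P.class_bounds hD hg hgD
  have b1 := bound (uset A ∪ uset D) fun y hy => by
    rcases Finset.mem_union.mp hy with h | h <;> exact (mem_uset.mp h).1
  rw [Finset.card_union_of_disjoint dD] at b1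
  obtain ⟨E, hE, g', hg', hgE, dE⟩ := more (uset A ∪ uset D) (by
      rw [Finset.card_union_of_disjoint dD]; omega) (fun y hy => by
      rcases Finset.mem_union.mp hy with h | h
      · exact ⟨A, hA, h, Finset.subset_union_left⟩
      · exact ⟨D, hD, h, Finset.subset_union_right⟩)
  obtain ⟨bE, cE⟩ := P.class_bounds hE hg' hgE
  have b2 := bound (uset A ∪ uset D ∪ uset E) fun y hy => by
    simp only [Finset.mem_union] at hy
    rcases hy with (h | h) | h <;> exact (mem_uset.mp h).1
  rw [Finset.card_union_of_disjoint dE, Finset.card_union_of_disjoint dD] at b2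
  obtain ⟨E', hE', g'', hg'', hgE', dE'⟩ := more (uset A ∪ uset D ∪ uset E) (by
      rw [Finset.card_union_of_disjoint dE, Finset.card_union_of_disjoint dD]; omega) (fun y hy => by
      simp only [Finset.mem_union] at hy
      rcases hy with (h | h) | h
      · exact ⟨A, hA, h, Finset.subset_union_left.trans Finset.subset_union_left⟩
      · exact ⟨D, hD, h, Finset.subset_union_right.trans Finset.subset_union_left⟩
      · exact ⟨E, hE, h, Finset.subset_union_right⟩)
  have bE' := (P.class_bounds hE' hg'' hgE').1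
  have b3 := bound (uset A ∪ uset D ∪ uset E ∪ uset E') fun y hy => by
    simp only [Finset.mem_union] at hy
    rcases hy with ((h | h) | h) | h <;> exact (mem_uset.mp h).1
  rw [Finset.card_union_of_disjoint dE', Finset.card_union_of_disjoint dE, Finset.card_union_of_disjoint dD] at b3
  omega

end AxisPartition

end Cfsg.Lib.Classical.OFr
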