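import Mathlib
import Cfsg.Agent.Classical.Orth.NondegMax

set_option autoImplicit false
set_option linter.unusedVariables false
set_option linter.unusedSimpArgs false
set_option linter.unusedSectionVars false
set_option linter.style.haveILetI false
set_option linter.flexible false

/-! Orthonormal frames of quadratic spaces: coordinates, supports, monomial isometries, reflections. -/

namespace Cfsg.Lib.Classical.OFr

open Matrix Cfsg.Lib.Classical.Refl

universe u w

variable {F : Type u} [Field F] {ι : Type} [Fintype ι] [DecidableEq ι]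

/-- An isometry as a linear map. -/
noncomputable def ap {Q : QuadraticForm F (ι → F)} (g : Cfsg.isometryGroup F (⇑Q)) :
    (ι → F) →ₗ[F] (ι → F) := Matrix.toLin' (mat Q g)

section Ap

variable {Q : QuadraticForm F (ι → F)}

theorem ap_apply (g : Cfsg.isometryGroup F (⇑Q)) (x : ι → F) : ap g x = mat Q g *ᵥ x := Matrix.toLin'_apply _ _

theorem ap_mul (g h : Cfsg.isometryGroup F (⇑Q)) (x : ι → F) : ap (g * h) x = ap g (ap h x) := by
  rw [ap_apply, ap_apply, ap_apply, mat, mulVec_mul]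

theorem ap_one (x : ι → F) : ap (1 : Cfsg.isometryGroup F (⇑Q)) x = x := by
  rw [ap_apply]; exact Matrix.one_mulVec x

theorem ap_inv_ap (g : Cfsg.isometryGroup F (⇑Q)) (x : ι → F) : ap g⁻¹ (ap g x) = x := by
  rw [← ap_mul, inv_mul_cancel, ap_one]

theorem ap_ap_inv (g : Cfsg.isometryGroup F (⇑Q)) (x : ι → F) : ap g (ap g⁻¹ x) = x := by
  rw [← ap_mul, mul_inv_cancel, ap_one]

theorem ap_injective (g : Cfsg.isometryGroup F (⇑Q)) : Function.Injective (ap g) :=
  Function.LeftInverse.injective (ap_inv_ap g)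

theorem ap_ext {g h : Cfsg.isometryGroup F (⇑Q)} (e : ∀ x, ap g x = ap h x) : g = h :=
  ext_mulVec Q fun x => by rw [← ap_apply, ← ap_apply, e]

theorem polar_ap (g : Cfsg.isometryGroup F (⇑Q)) (x y : ι → F) :
    QuadraticMap.polar (⇑Q) (ap g x) (ap g y) = QuadraticMap.polar (⇑Q) x y := by
  rw [ap_apply, ap_apply, polar_act]

open scoped _root_.Classical in
/-- The reflection in `v`, trivial when `v` is singular. -/
noncomputable def rr (Q : QuadraticForm F (ι → F)) (v : ι → F) : Cfsg.isometryGroup F (⇑Q) :=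
  if h : Q v ≠ 0 then refl Q v h else 1

theorem rr_of (v : ι → F) (h : Q v ≠ 0) : rr Q v = refl Q v h := dif_pos h

theorem rr_conj (g : Cfsg.isometryGroup F (⇑Q)) (v : ι → F) : g * rr Q v * g⁻¹ = rr Q (ap g v) := by
  have hv : Q (ap g v) = Q v := by rw [ap_apply]; exact (mem_iff Q).mp g.2 v
  by_cases h : Q v ≠ 0
  · rw [rr_of v h, refl_conj, rr_of _ (by rw [hv]; exact h)]
    simp only [ap_apply]
  · rw [rr, dif_neg h, rr, dif_neg (by rw [hv]; exact h), mul_one, mul_inv_cancel]

theorem rr_mul_self (v : ι → F) : rr Q v * rr Q v = 1 := by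
  by_cases h : Q v ≠ 0
  · rw [rr_of v h, refl_mul_self]
  · rw [rr, dif_neg h, one_mul]

theorem rr_inv (v : ι → F) : (rr Q v)⁻¹ = rr Q v := inv_eq_of_mul_eq_one_left (rr_mul_self v)

theorem rr_smul (v : ι → F) {a : F} (ha : a ≠ 0) : rr Q (a • v) = rr Q v := by
  by_cases h : Q v ≠ 0
  · rw [rr_of v h, rr_of _ (by rw [QuadraticMap.map_smul, smul_eq_mul]; exact mul_ne_zero (mul_ne_zero ha ha) h)]
    exact refl_congr Q h _ rfl
  · rw [rr, dif_neg (by rw [QuadraticMap.map_smul, smul_eq_mul]; simp at h; simp [h]), rr, dif_neg h]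

theorem rr_neg (v : ι → F) : rr Q (-v) = rr Q v := by
  rw [← neg_one_smul F v, rr_smul v (neg_ne_zero.mpr one_ne_zero)]

theorem detHom_rr (v : ι → F) (h : Q v ≠ 0) : detHom Q (rr Q v) = -1 := by rw [rr_of v h, detHom_refl]

end Ap

/-- An orthogonal basis of vectors of one value. -/
structure OFrame (Q : QuadraticForm F (ι → F)) (κ : Type w) [Fintype κ] [DecidableEq κ] where
  b : Module.Basis κ F (ι → F)
  c : F
  two : (2 : F) ≠ 0
  hc : c ≠ 0
  hb : ∀ i j, QuadraticMap.polar (⇑Q) (b i) (b j) = if i = j then 2 * c else 0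

namespace OFrame

variable {Q : QuadraticForm F (ι → F)} {κ : Type w} [Fintype κ] [DecidableEq κ] (B : OFrame Q κ)

/-- Coordinates. -/
noncomputable def co (x : ι → F) (i : κ) : F := B.b.repr x i

theorem co_add (x y : ι → F) (i : κ) : B.co (x + y) i = B.co x i + B.co y i := by simp [co]

theorem co_sub (x y : ι → F) (i : κ) : B.co (x - y) i = B.co x i - B.co y i := by simp [co]

theorem co_smul (a : F) (x : ι → F) (i : κ) : B.co (a • x) i = a * B.co x i := by simp [co]

theorem co_neg (x : ι → F) (i : κ) : B.co (-x) i = -B.co x i := by simp [co]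

theorem co_zero (i : κ) : B.co 0 i = 0 := by simp [co]

theorem co_sum {α : Type*} (s : Finset α) (f : α → ι → F) (i : κ) : B.co (∑ a ∈ s, f a) i = ∑ a ∈ s, B.co (f a) i := by
  simp [co]

theorem co_b (i j : κ) : B.co (B.b i) j = if i = j then 1 else 0 := by
  simp [co, Finsupp.single_apply]

theorem sum_co (x : ι → F) : ∑ i, B.co x i • B.b i = x := B.b.sum_repr x

theorem ext_co {x y : ι → F} (h : ∀ i, B.co x i = B.co y i) : x = y := by
  rw [← B.sum_co x, ← B.sum_co y]; simp only [h]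

/-- The inner product of the frame. -/
noncomputable def ip (x y : ι → F) : F := ∑ i, B.co x i * B.co y i

theorem polar_ip (x y : ι → F) : QuadraticMap.polar (⇑Q) x y = 2 * B.c * B.ip x y := by
  conv_lhs => rw [← B.sum_co x, ← B.sum_co y]
  rw [← QuadraticMap.polarBilin_apply_apply]
  simp only [map_sum, map_smul, LinearMap.sum_apply, LinearMap.smul_apply, QuadraticMap.polarBilin_apply_apply,
    B.hb, smul_eq_mul, mul_ite, mul_zero, Finset.sum_ite_eq', Finset.sum_ite_eq, Finset.mem_univ, if_true, ip,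
    Finset.mul_sum]
  exact Finset.sum_congr rfl fun i _ => by ring

theorem q_ip (x : ι → F) : Q x = B.c * B.ip x x := by
  have h := B.polar_ip x x
  rw [QuadraticMap.polar_self, nsmul_eq_mul, Nat.cast_ofNat, mul_assoc] at h
  exact mul_left_cancel₀ B.two h

theorem q_ne {x : ι → F} (h : B.ip x x ≠ 0) : Q x ≠ 0 := by rw [B.q_ip]; exact mul_ne_zero B.hc h

theorem ip_comm (x y : ι → F) : B.ip x y = B.ip y x := by simp [ip, mul_comm]

theorem ip_add_left (x y z : ι → F) : B.ip (x + y) z = B.ip x z + B.ip y z := by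
  simp [ip, co_add, add_mul, Finset.sum_add_distrib]

theorem ip_sub_left (x y z : ι → F) : B.ip (x - y) z = B.ip x z - B.ip y z := by
  simp [ip, co_sub, sub_mul, Finset.sum_sub_distrib]

theorem ip_smul_left (a : F) (x z : ι → F) : B.ip (a • x) z = a * B.ip x z := by
  simp [ip, co_smul, Finset.mul_sum, mul_assoc]

theorem ip_neg_left (x z : ι → F) : B.ip (-x) z = -B.ip x z := by simp [ip, co_neg]

theorem ip_zero_left (z : ι → F) : B.ip 0 z = 0 := by simp [ip, co_zero]

theorem ip_add_right (x y z : ι → F) : B.ip x (y + z) = B.ip x y + B.ip x z := by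
  rw [ip_comm, ip_add_left, ip_comm, B.ip_comm z]

theorem ip_sub_right (x y z : ι → F) : B.ip x (y - z) = B.ip x y - B.ip x z := by
  rw [ip_comm, ip_sub_left, ip_comm, B.ip_comm z]

theorem ip_smul_right (a : F) (x z : ι → F) : B.ip x (a • z) = a * B.ip x z := by
  rw [ip_comm, ip_smul_left, ip_comm]

theorem ip_neg_right (x z : ι → F) : B.ip x (-z) = -B.ip x z := by rw [ip_comm, ip_neg_left, ip_comm]

theorem ip_zero_right (x : ι → F) : B.ip x 0 = 0 := by rw [ip_comm, ip_zero_left]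

theorem ip_b_right (x : ι → F) (i : κ) : B.ip x (B.b i) = B.co x i := by
  simp [ip, co_b]

theorem ip_b_left (x : ι → F) (i : κ) : B.ip (B.b i) x = B.co x i := by rw [ip_comm, ip_b_right]

theorem ip_bb (i j : κ) : B.ip (B.b i) (B.b j) = if i = j then 1 else 0 := by rw [ip_b_right, co_b]

theorem ip_b_self (i : κ) : B.ip (B.b i) (B.b i) = 1 := by simp [ip_bb]

theorem ip_b_ne {i j : κ} (h : i ≠ j) : B.ip (B.b i) (B.b j) = 0 := by simp [ip_bb, h]

theorem ip_ap (g : Cfsg.isometryGroup F (⇑Q)) (x y : ι → F) : B.ip (ap g x) (ap g y) = B.ip x y := by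
  have h := polar_ap g x y
  rw [B.polar_ip, B.polar_ip] at h
  exact mul_left_cancel₀ (mul_ne_zero B.two B.hc) h

theorem ip_ap_left (g : Cfsg.isometryGroup F (⇑Q)) (x y : ι → F) : B.ip (ap g x) y = B.ip x (ap g⁻¹ y) := by
  conv_lhs => rw [← ap_ap_inv g y, B.ip_ap]

theorem eq_zero_of_ip {x : ι → F} (h : ∀ y, B.ip x y = 0) : x = 0 :=
  B.ext_co fun i => by rw [co_zero, ← B.ip_b_right, h]

theorem rr_apply {v : ι → F} (hv : B.ip v v ≠ 0) (x : ι → F) :
    ap (rr Q v) x = x - (2 * B.ip v x / B.ip v v) • v := by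
  rw [rr_of v (B.q_ne hv), ap_apply]
  change Cfsg.reflectionMatrix (⇑Q) v *ᵥ x = _
  rw [mulVec_eq, B.q_ip, B.polar_ip]
  congr 2
  field_simp [B.hc]

theorem rr_apply_one {v : ι → F} (hv : B.ip v v = 1) (x : ι → F) :
    ap (rr Q v) x = x - (2 * B.ip v x) • v := by
  rw [B.rr_apply (by rw [hv]; exact one_ne_zero), hv, div_one]

theorem rr_fix {v x : ι → F} (hv : B.ip v v ≠ 0) (h : B.ip v x = 0) : ap (rr Q v) x = x := by
  rw [B.rr_apply hv, h, mul_zero, zero_div, zero_smul, sub_zero]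

theorem rr_self {v : ι → F} (hv : B.ip v v ≠ 0) : ap (rr Q v) v = -v := by
  rw [B.rr_apply hv, mul_div_cancel_right₀ _ hv, two_smul]; abel

/-- Reflections in two vectors of one norm give elements of `Ω`. -/
theorem rr_pair_mem (B : OFrame Q κ) (hQ : (QuadraticMap.polarBilin Q).Nondegenerate) {v y : ι → F}
    (h : B.ip v v = B.ip y y) : rr Q y * rr Q v ∈ Cfsg.Omega F (⇑Q) := by
  by_cases hv : B.ip v v = 0
  · have h1 : Q v = 0 := by rw [B.q_ip, hv, mul_zero]
    have h2 : Q y = 0 := by rw [B.q_ip, ← h, hv, mul_zero]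
    rw [rr, dif_neg (not_not.mpr h2), rr, dif_neg (not_not.mpr h1), one_mul]
    exact one_mem _
  · rw [rr_of v (B.q_ne hv), rr_of y (B.q_ne (h ▸ hv))]
    exact refl_pair_mem_omega Q hQ _ _ (by rw [B.q_ip, B.q_ip, h])

include B in
theorem nondeg : (QuadraticMap.polarBilin Q).Nondegenerate := by
  have h1 : ∀ x, (∀ y, QuadraticMap.polar (⇑Q) x y = 0) → x = 0 := fun x hx => B.eq_zero_of_ip fun y => by
    have := hx y
    rw [B.polar_ip] at this
    exact (mul_eq_zero.mp this).resolve_left (mul_ne_zero B.two B.hc)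
  exact ⟨h1, fun x hx => h1 x fun y => by rw [QuadraticMap.polar_comm]; exact hx y⟩

section Supp

variable [DecidableEq F]

/-- The support. -/
noncomputable def supp (x : ι → F) : Finset κ := Finset.univ.filter fun i => B.co x i ≠ 0

theorem mem_supp {x : ι → F} {i : κ} : i ∈ B.supp x ↔ B.co x i ≠ 0 := by simp [supp]

theorem notMem_supp {x : ι → F} {i : κ} : i ∉ B.supp x ↔ B.co x i = 0 := by simp [supp]

theorem supp_b (i : κ) : B.supp (B.b i) = {i} := by
  ext j; simp [mem_supp, co_b, eq_comm]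

theorem co_eq_zero {x : ι → F} {T : Finset κ} (h : B.supp x ⊆ T) {i : κ} (hi : i ∉ T) : B.co x i = 0 :=
  B.notMem_supp.mp fun hh => hi (h hh)

theorem supp_smul {a : F} (ha : a ≠ 0) (x : ι → F) : B.supp (a • x) = B.supp x := by
  ext i; simp [mem_supp, co_smul, ha]

theorem supp_smul_subset (a : F) (x : ι → F) : B.supp (a • x) ⊆ B.supp x := fun i hi => by
  rw [mem_supp, co_smul] at hi
  exact B.mem_supp.mpr (right_ne_zero_of_mul hi)

theorem supp_neg (x : ι → F) : B.supp (-x) = B.supp x := by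
  ext i; simp [mem_supp, co_neg]

theorem supp_add_subset (x y : ι → F) : B.supp (x + y) ⊆ B.supp x ∪ B.supp y := fun i hi => by
  by_contra hc
  rw [Finset.mem_union, not_or, notMem_supp, notMem_supp] at hc
  exact B.mem_supp.mp hi (by rw [co_add, hc.1, hc.2, add_zero])

theorem supp_sub_subset (x y : ι → F) : B.supp (x - y) ⊆ B.supp x ∪ B.supp y := by
  rw [sub_eq_add_neg]; exact (B.supp_add_subset _ _).trans (by rw [B.supp_neg])

theorem supp_eq_empty {x : ι → F} : B.supp x = ∅ ↔ x = 0 := by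
  constructor
  · intro h
    exact B.ext_co fun i => by rw [co_zero]; exact B.notMem_supp.mp (by simp [h])
  · rintro rfl; ext i; simp [mem_supp, co_zero]

theorem supp_nonempty {x : ι → F} (h : x ≠ 0) : (B.supp x).Nonempty := by
  rw [Finset.nonempty_iff_ne_empty, ne_eq, supp_eq_empty]; exact h

theorem b_ne_zero (i : κ) : B.b i ≠ 0 := B.b.ne_zero i

theorem eq_sum_supp {x : ι → F} {T : Finset κ} (h : B.supp x ⊆ T) : x = ∑ i ∈ T, B.co x i • B.b i := by
  conv_lhs => rw [← B.sum_co x]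
  refine (Finset.sum_subset (Finset.subset_univ T) fun i _ hi => ?_).symm
  rw [B.co_eq_zero h hi, zero_smul]

theorem eq_smul_b {x : ι → F} {o : κ} (h : B.supp x ⊆ {o}) : x = B.co x o • B.b o := by
  conv_lhs => rw [B.eq_sum_supp h, Finset.sum_singleton]

theorem ip_supp {x : ι → F} {T : Finset κ} (h : B.supp x ⊆ T) (y : ι → F) :
    B.ip x y = ∑ i ∈ T, B.co x i * B.co y i := by
  refine (Finset.sum_subset (Finset.subset_univ T) fun i _ hi => ?_).symm
  rw [B.co_eq_zero h hi, zero_mul]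

theorem ip_disjoint {x y : ι → F} (h : ∀ i, i ∈ B.supp x → i ∉ B.supp y) : B.ip x y = 0 :=
  Finset.sum_eq_zero fun i _ => by
    by_cases hi : i ∈ B.supp x
    · rw [B.notMem_supp.mp (h i hi), mul_zero]
    · rw [B.notMem_supp.mp hi, zero_mul]

theorem card_le_of_orth {α : Type*} [Fintype α] {w : α → ι → F} (h0 : ∀ a, B.ip (w a) (w a) ≠ 0)
    (ho : ∀ a a', a ≠ a' → B.ip (w a) (w a') = 0) {T : Finset κ} (hT : ∀ a, B.supp (w a) ⊆ T) :
    Fintype.card α ≤ T.card := by
  classical
  let r : α → (T → F) := fun a i => B.co (w a) i.1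
  have hr : LinearIndependent F r := by
    refine Fintype.linearIndependent_iff.mpr fun g hg a => ?_
    have h : B.ip (∑ a', g a' • w a') (w a) = 0 := by
      rw [B.ip_comm, B.ip_supp (hT a)]
      refine Finset.sum_eq_zero fun i hi => ?_
      have := congrFun hg ⟨i, hi⟩
      simp [r] at this
      rw [B.co_sum]
      simp [co_smul, this]
    have hs : B.ip (∑ a', g a' • w a') (w a) = g a * B.ip (w a) (w a) := by
      have : ∀ s : Finset α, B.ip (∑ a' ∈ s, g a' • w a') (w a) = ∑ a' ∈ s, g a' * B.ip (w a') (w a) := fun s => by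
        induction s using Finset.induction with
        | empty => simp [ip_zero_left]
        | insert x s hx ih => rw [Finset.sum_insert hx, Finset.sum_insert hx, ip_add_left, ip_smul_left, ih]
      rw [this, Finset.sum_eq_single a (fun a' _ hne => by rw [ho a' a hne, mul_zero])
        (fun hh => absurd (Finset.mem_univ a) hh)]
    rw [hs] at h
    exact (mul_eq_zero.mp h).resolve_right (h0 a)
  have := hr.fintype_card_le_finrank
  rwa [Module.finrank_fintype_fun_eq_card, Fintype.card_coe] at this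

/-- Monomial isometries. -/
def Mono (g : Cfsg.isometryGroup F (⇑Q)) : Prop := ∀ i, (B.supp (ap g (B.b i))).card ≤ 1

theorem mono_one : B.Mono 1 := fun i => by rw [ap_one, supp_b, Finset.card_singleton]

theorem mono_iff {g : Cfsg.isometryGroup F (⇑Q)} :
    B.Mono g ↔ ∃ (π : Equiv.Perm κ) (l : κ → F), ∀ i, ap g (B.b i) = l i • B.b (π i) ∧ l i ≠ 0 := by
  constructor
  · intro h
    have hex : ∀ i, ∃ j, ap g (B.b i) = B.co (ap g (B.b i)) j • B.b j ∧ B.co (ap g (B.b i)) j ≠ 0 := fun i => by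
      have hne : ap g (B.b i) ≠ 0 := fun h0 => B.b_ne_zero i (ap_injective g (h0.trans (map_zero (ap g)).symm))
      obtain ⟨j, hj⟩ := B.supp_nonempty hne
      exact ⟨j, B.eq_smul_b fun a ha => Finset.mem_singleton.mpr (Finset.card_le_one.mp (h i) a ha j hj),
        B.mem_supp.mp hj⟩
    choose f hf hf0 using hex
    have hinj : Function.Injective f := fun i j hij => by
      by_contra hne
      have := B.ip_ap g (B.b i) (B.b j)
      rw [B.ip_b_ne hne, hf i, hf j, hij, ip_smul_left, ip_smul_right, ip_b_self, mul_one, mul_eq_zero] at this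
      rcases this with h | h
      · exact hf0 i (by simpa [← hij] using h)
      · exact hf0 j h
    exact ⟨Equiv.ofBijective f (Finite.injective_iff_bijective.mp hinj), _, fun i => ⟨hf i, hf0 i⟩⟩
  · rintro ⟨π, l, h⟩ i
    rw [(h i).1, B.supp_smul (h i).2, supp_b, Finset.card_singleton]

theorem mono_mul {g k : Cfsg.isometryGroup F (⇑Q)} (hg : B.Mono g) (hk : B.Mono k) : B.Mono (g * k) := by
  obtain ⟨π, l, h⟩ := B.mono_iff.mp hg
  obtain ⟨π', l', h'⟩ := B.mono_iff.mp hk
  refine B.mono_iff.mpr ⟨π'.trans π, fun i => l' i * l (π' i), fun i => ⟨?_, mul_ne_zero (h' i).2 (h _).2⟩⟩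
  rw [ap_mul, (h' i).1, map_smul, (h _).1, smul_smul]; rfl

theorem mono_inv {g : Cfsg.isometryGroup F (⇑Q)} (hg : B.Mono g) : B.Mono g⁻¹ := by
  obtain ⟨π, l, h⟩ := B.mono_iff.mp hg
  refine B.mono_iff.mpr ⟨π.symm, fun i => (l (π.symm i))⁻¹, fun i => ⟨?_, inv_ne_zero (h _).2⟩⟩
  have := congrArg (ap g⁻¹) (h (π.symm i)).1
  rw [ap_inv_ap, map_smul, Equiv.apply_symm_apply] at this
  rw [this, smul_smul, inv_mul_cancel₀ (h _).2, one_smul]

theorem mono_inv_iff {g : Cfsg.isometryGroup F (⇑Q)} : B.Mono g⁻¹ ↔ B.Mono g :=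
  ⟨fun h => by simpa using B.mono_inv h, B.mono_inv⟩

theorem mono_supp {g : Cfsg.isometryGroup F (⇑Q)} (hg : B.Mono g) :
    ∃ π : Equiv.Perm κ, ∀ x, B.supp (ap g x) = (B.supp x).map π.toEmbedding := by
  obtain ⟨π, l, h⟩ := B.mono_iff.mp hg
  refine ⟨π, fun x => ?_⟩
  have hco : ∀ j, B.co (ap g x) (π j) = B.co x j * l j := fun j => by
    conv_lhs => rw [← B.sum_co x]
    rw [map_sum, co_sum, Finset.sum_eq_single j
      (fun a _ ha => by rw [map_smul, (h a).1, co_smul, co_smul, co_b, if_neg (fun e => ha (π.injective e))]; ring)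
      (fun hh => absurd (Finset.mem_univ j) hh), map_smul, (h j).1, co_smul, co_smul, co_b, if_pos rfl, mul_one]
  ext i
  obtain ⟨j, rfl⟩ := π.surjective i
  rw [mem_supp, hco]
  simp [mem_supp, (h j).2]

theorem mono_supp_eq {g : Cfsg.isometryGroup F (⇑Q)} (hg : B.Mono g) {x y : ι → F} (h : B.supp x = B.supp y) :
    B.supp (ap g x) = B.supp (ap g y) := by
  obtain ⟨π, hπ⟩ := B.mono_supp hg
  rw [hπ, hπ, h]

theorem mono_card {g : Cfsg.isometryGroup F (⇑Q)} (hg : B.Mono g) (x : ι → F) :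
    (B.supp (ap g x)).card = (B.supp x).card := by
  obtain ⟨π, hπ⟩ := B.mono_supp hg
  rw [hπ, Finset.card_map]

/-- The sign change at two places. -/
noncomputable def d (i j : κ) : Cfsg.isometryGroup F (⇑Q) := rr Q (B.b i) * rr Q (B.b j)

theorem rr_b_b (i l : κ) : ap (rr Q (B.b i)) (B.b l) = if l = i then -B.b l else B.b l := by
  split_ifs with h
  · subst h; exact B.rr_self (by rw [ip_b_self]; exact one_ne_zero)
  · exact B.rr_fix (by rw [ip_b_self]; exact one_ne_zero) (B.ip_b_ne (Ne.symm h))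

theorem co_rr_b (i : κ) (x : ι → F) (l : κ) :
    B.co (ap (rr Q (B.b i)) x) l = if l = i then -B.co x l else B.co x l := by
  rw [B.rr_apply_one (B.ip_b_self i), co_sub, co_smul, co_b, ip_b_left]
  split_ifs with h1 h2 h2
  · subst h1; ring
  · exact absurd h1.symm h2
  · exact absurd h2.symm h1
  · ring

theorem co_d {i j : κ} (hij : i ≠ j) (x : ι → F) (l : κ) :
    B.co (ap (B.d i j) x) l = if l = i ∨ l = j then -B.co x l else B.co x l := by
  rw [d, ap_mul, co_rr_b, co_rr_b]
  by_cases h1 : l = i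
  · subst h1; simp [hij]
  · simp [h1]

theorem mono_rr_b (i : κ) : B.Mono (rr Q (B.b i)) := fun l => by
  rw [rr_b_b]; split_ifs <;> simp [supp_neg, supp_b]

theorem mono_d (i j : κ) : B.Mono (B.d i j) := B.mono_mul (B.mono_rr_b i) (B.mono_rr_b j)

theorem d_mem (i j : κ) : B.d i j ∈ Cfsg.Omega F (⇑Q) :=
  B.rr_pair_mem B.nondeg (by rw [ip_b_self, ip_b_self])

theorem ip_root {a b : κ} (hab : a ≠ b) {ε : F} (hε : ε * ε = 1) :
    B.ip (B.b a - ε • B.b b) (B.b a - ε • B.b b) = 2 := by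
  simp [ip_sub_left, ip_sub_right, ip_smul_left, ip_smul_right, ip_bb, hab, hab.symm]
  linear_combination hε

theorem rr_root {a b : κ} (hab : a ≠ b) {ε : F} (hε : ε * ε = 1) (l : κ) :
    ap (rr Q (B.b a - ε • B.b b)) (B.b l) =
      if l = a then ε • B.b b else if l = b then ε • B.b a else B.b l := by
  rw [B.rr_apply (by rw [B.ip_root hab hε]; exact B.two), B.ip_root hab hε, mul_div_cancel_left₀ _ B.two,
    ip_sub_left, ip_smul_left, ip_bb, ip_bb]
  by_cases h1 : l = a
  · subst h1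
    simp [hab, hab.symm, smul_sub, smul_smul, hε]
  by_cases h2 : l = b
  · subst h2
    simp [hab, hab.symm, smul_sub, smul_smul, hε]
  simp [h1, h2, Ne.symm h1, Ne.symm h2]

theorem mono_root {a b : κ} (hab : a ≠ b) {ε : F} (hε : ε * ε = 1) : B.Mono (rr Q (B.b a - ε • B.b b)) := by
  have hε0 : ε ≠ 0 := fun h => by rw [h, mul_zero] at hε; exact zero_ne_one hε
  intro l
  rw [B.rr_root hab hε]
  split_ifs <;> simp [B.supp_smul hε0, supp_b]

theorem root_pair_mem {a b c e : κ} (hab : a ≠ b) (hce : c ≠ e) {ε ε' : F} (hε : ε * ε = 1) (hε' : ε' * ε' = 1) :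
    rr Q (B.b a - ε • B.b b) * rr Q (B.b c - ε' • B.b e) ∈ Cfsg.Omega F (⇑Q) :=
  B.rr_pair_mem B.nondeg (by rw [B.ip_root hab hε, B.ip_root hce hε'])

end Supp

end OFrame

end Cfsg.Lib.Classical.OFr
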