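import Mathlib
import Cfsg.Agent.Classical.Orth.Frame.Basic

set_option autoImplicit false
set_option linter.unusedVariables false
set_option linter.unusedSimpArgs false
set_option linter.unusedSectionVars false
set_option linter.style.haveILetI false
set_option linter.flexible false

/-! Overgroups of monomial orthogonal groups without a line to line map: columns have at most one zero. -/

namespace Cfsg.Lib.Classical.OFr

open Matrix Cfsg.Lib.Classical.Refl

universe u w

namespace OFrame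

variable {F : Type u} [Field F] {ι : Type} [Fintype ι] [DecidableEq ι] {Q : QuadraticForm F (ι → F)}
  {κ : Type w} [Fintype κ] [DecidableEq κ] (B : OFrame Q κ) {K : Subgroup (Cfsg.isometryGroup F (⇑Q))}
  {T : Finset κ}

/-- The isometry fixes the frame vectors outside `T`. -/
def Fix (T : Finset κ) (g : Cfsg.isometryGroup F (⇑Q)) : Prop := ∀ l, l ∉ T → ap g (B.b l) = B.b l

theorem fix_one : B.Fix T 1 := fun l _ => ap_one _

theorem fix_mul {g h : Cfsg.isometryGroup F (⇑Q)} (hg : B.Fix T g) (hh : B.Fix T h) : B.Fix T (g * h) :=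
  fun l hl => by rw [ap_mul, hh l hl, hg l hl]

theorem fix_inv {g : Cfsg.isometryGroup F (⇑Q)} (hg : B.Fix T g) : B.Fix T g⁻¹ := fun l hl => by
  conv_lhs => rw [← hg l hl, ap_inv_ap]

variable [DecidableEq F]

theorem fix_supp {g : Cfsg.isometryGroup F (⇑Q)} (hg : B.Fix T g) {x : ι → F} (hx : B.supp x ⊆ T) :
    B.supp (ap g x) ⊆ T := fun l hl => by
  by_contra hlT
  apply B.mem_supp.mp hl
  rw [← B.ip_b_right, ← hg l hlT, B.ip_ap, B.ip_b_right, B.co_eq_zero hx hlT]

theorem fix_supp_b {g : Cfsg.isometryGroup F (⇑Q)} (hg : B.Fix T g) {i : κ} (hi : i ∈ T) :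
    B.supp (ap g (B.b i)) ⊆ T := B.fix_supp hg (by rw [supp_b]; simpa)

theorem fix_rr {v : ι → F} (hv : B.supp v ⊆ T) : B.Fix T (rr Q v) := fun l hl => by
  by_cases h : B.ip v v = 0
  · rw [rr, dif_neg (by rw [B.q_ip, h, mul_zero]; exact not_not.mpr rfl), ap_one]
  · exact B.rr_fix h (by rw [B.ip_b_right, B.co_eq_zero hv hl])

theorem fix_d {i j : κ} (hi : i ∈ T) (hj : j ∈ T) : B.Fix T (B.d i j) :=
  B.fix_mul (B.fix_rr (by rw [supp_b]; simpa)) (B.fix_rr (by rw [supp_b]; simpa))

theorem supp_root (a b : κ) (ε : F) : B.supp (B.b a - ε • B.b b) ⊆ {a, b} :=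
  (B.supp_sub_subset _ _).trans (Finset.union_subset (by simp [supp_b])
    ((B.supp_smul_subset _ _).trans (by simp [supp_b])))

variable (K T) in
/-- No element of `K` over `T` outside the monomial group maps a frame line to a frame line. -/
def NF : Prop := ∀ g ∈ K, B.Fix T g → ¬ B.Mono g → ∀ i ∈ T, ∀ j, ¬ B.supp (ap g (B.b i)) ⊆ {j}

theorem mono_of_fix (hNF : B.NF K T) {g : Cfsg.isometryGroup F (⇑Q)} (hg : g ∈ K) (hgT : B.Fix T g) {i : κ}
    (hi : i ∈ T) (h : ap g (B.b i) = B.b i) : B.Mono g := by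
  by_contra hm
  exact hNF g hg hgT hm i hi i (by rw [h, supp_b])

/-- The conjugate of a pair of reflections with small support is monomial. -/
theorem mono_conj_pair (hNF : B.NF K T) {g : Cfsg.isometryGroup F (⇑Q)} (hg : g ∈ K) (hgT : B.Fix T g)
    {x y : ι → F} (hK : rr Q x * rr Q y ∈ K) (hT : B.Fix T (rr Q x * rr Q y)) {i : κ} (hi : i ∈ T)
    (hx : B.ip (ap g x) (B.b i) = 0) (hy : B.ip (ap g y) (B.b i) = 0) (hx0 : B.ip x x ≠ 0)
    (hy0 : B.ip y y ≠ 0) : B.Mono (rr Q (ap g x) * rr Q (ap g y)) := by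
  have e : rr Q (ap g x) * rr Q (ap g y) = g * (rr Q x * rr Q y) * g⁻¹ := by
    rw [← rr_conj, ← rr_conj]; group
  refine B.mono_of_fix hNF (e ▸ K.mul_mem (K.mul_mem hg hK) (K.inv_mem hg))
    (e ▸ B.fix_mul (B.fix_mul hgT hT) (B.fix_inv hgT)) hi ?_
  rw [ap_mul, B.rr_fix (by rwa [B.ip_ap]) hy, B.rr_fix (by rwa [B.ip_ap]) hx]

/-- A monomial product of two orthogonal reflections moves at most four frame vectors. -/
theorem mono_pair_supp {u v : ι → F} (hu : B.ip u u ≠ 0) (hv : B.ip v v ≠ 0) (huv : B.ip u v = 0)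
    (hm : B.Mono (rr Q u * rr Q v)) : (B.supp u ∪ B.supp v).card ≤ 4 := by
  classical
  set h := rr Q u * rr Q v with hh
  have happ : ∀ x, x - ap h x = (2 * B.ip u x / B.ip u u) • u + (2 * B.ip v x / B.ip v v) • v := fun x => by
    rw [hh, ap_mul, B.rr_apply hv, map_sub, map_smul, B.rr_fix hu huv, B.rr_apply hu]
    abel
  set M := Finset.univ.filter fun l => ap h (B.b l) ≠ B.b l with hMdef
  have hsub : B.supp u ∪ B.supp v ⊆ M := by
    intro l hl
    rw [hMdef, Finset.mem_filter]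
    refine ⟨Finset.mem_univ l, fun he => ?_⟩
    have h0 := happ (B.b l)
    rw [he, sub_self, B.ip_b_right, B.ip_b_right] at h0
    have h1 := congrArg (fun z => B.ip z u) h0
    have h2 := congrArg (fun z => B.ip z v) h0
    simp only [ip_zero_left, ip_add_left, ip_smul_left, huv, B.ip_comm v u, mul_zero, add_zero, zero_add] at h1 h2
    rw [div_mul_cancel₀ _ hu] at h1
    rw [div_mul_cancel₀ _ hv] at h2
    rw [Finset.mem_union, mem_supp, mem_supp] at hl
    rcases hl with hl | hl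
    · exact hl ((mul_eq_zero.mp h1.symm).resolve_left B.two)
    · exact hl ((mul_eq_zero.mp h2.symm).resolve_left B.two)
  refine (Finset.card_le_card hsub).trans ?_
  by_contra hlt
  have hnz : ∀ l ∈ M, B.co (B.b l - ap h (B.b l)) l ≠ 0 := by
    intro l hl he
    rw [hMdef, Finset.mem_filter] at hl
    apply hl.2
    rw [co_sub, co_b, if_pos rfl, sub_eq_zero] at he
    obtain ⟨o, ho⟩ : ∃ o, B.supp (ap h (B.b l)) ⊆ {o} := by
      haveI : Nonempty κ := ⟨l⟩
      exact Finset.card_le_one_iff_subset_singleton.mp (hm l)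
    have hlo : l = o := Finset.mem_singleton.mp (ho (B.mem_supp.mpr (by rw [← he]; exact one_ne_zero)))
    subst hlo
    rw [B.eq_smul_b ho, ← he, one_smul]
  have hM5 : 5 ≤ M.card := by omega
  obtain ⟨l₁, hl₁⟩ := Finset.card_pos.mp (by omega : 0 < M.card)
  obtain ⟨l₂, hl₂, h2⟩ := Finset.exists_mem_notMem_of_card_lt_card
    (s := insert l₁ (B.supp (ap h (B.b l₁)))) (t := M) (by
      have := Finset.card_insert_le l₁ (B.supp (ap h (B.b l₁)))
      have := hm l₁
      omega)
  obtain ⟨l₃, hl₃, h3⟩ := Finset.exists_mem_notMem_of_card_lt_card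
    (s := insert l₁ (B.supp (ap h (B.b l₁))) ∪ insert l₂ (B.supp (ap h (B.b l₂)))) (t := M) (by
      have := Finset.card_insert_le l₁ (B.supp (ap h (B.b l₁)))
      have := Finset.card_insert_le l₂ (B.supp (ap h (B.b l₂)))
      have := hm l₁
      have := hm l₂
      have := Finset.card_union_le (insert l₁ (B.supp (ap h (B.b l₁)))) (insert l₂ (B.supp (ap h (B.b l₂))))
      omega)
  simp only [Finset.mem_insert, Finset.mem_union, not_or, notMem_supp] at h2 h3
  obtain ⟨⟨h31, h31'⟩, h32, h32'⟩ := h3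
  set w : κ → (ι → F) := fun l => B.b l - ap h (B.b l) with hw
  let p : κ → F × F := fun l => (2 * B.ip u (B.b l) / B.ip u u, 2 * B.ip v (B.b l) / B.ip v v)
  have hwp : ∀ l, w l = (p l).1 • u + (p l).2 • v := fun l => happ _
  -- three vectors in a plane are dependent
  obtain ⟨a₁, a₂, a₃, hne, hrel⟩ : ∃ a₁ a₂ a₃ : F, ¬(a₁ = 0 ∧ a₂ = 0 ∧ a₃ = 0) ∧
      a₁ • p l₁ + a₂ • p l₂ + a₃ • p l₃ = 0 := by
    have : ¬ LinearIndependent F ![p l₁, p l₂, p l₃] := fun hli => by
      have := hli.fintype_card_le_finrank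
      rw [Module.finrank_prod, Module.finrank_self, Fintype.card_fin] at this
      omega
    obtain ⟨g, hg, j, hj⟩ := Fintype.not_linearIndependent_iff.mp this
    refine ⟨g 0, g 1, g 2, fun hz => hj ?_, ?_⟩
    · fin_cases j
      exacts [hz.1, hz.2.1, hz.2.2]
    · simpa [Fin.sum_univ_three] using hg
  have hsum : a₁ • w l₁ + a₂ • w l₂ + a₃ • w l₃ = 0 := by
    rw [hwp, hwp, hwp]
    have e1 := congrArg Prod.fst hrel
    have e2 := congrArg Prod.snd hrel
    simp only [Prod.fst_add, Prod.snd_add, Prod.smul_fst, Prod.smul_snd, smul_eq_mul, Prod.fst_zero,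
      Prod.snd_zero] at e1 e2
    calc _ = (a₁ * (p l₁).1 + a₂ * (p l₂).1 + a₃ * (p l₃).1) • u +
          (a₁ * (p l₁).2 + a₂ * (p l₂).2 + a₃ * (p l₃).2) • v := by module
      _ = 0 := by rw [e1, e2, zero_smul, zero_smul, add_zero]
  have hc : ∀ l, a₁ * B.co (w l₁) l + a₂ * B.co (w l₂) l + a₃ * B.co (w l₃) l = 0 := fun l => by
    rw [← co_smul, ← co_smul, ← co_smul, ← co_add, ← co_add, hsum, co_zero]
  have z13 : B.co (w l₁) l₃ = 0 := by simp [hw, co_sub, co_b, Ne.symm h31, h31']
  have z23 : B.co (w l₂) l₃ = 0 := by simp [hw, co_sub, co_b, Ne.symm h32, h32']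
  have z12 : B.co (w l₁) l₂ = 0 := by simp [hw, co_sub, co_b, Ne.symm h2.1, h2.2]
  have h3' : a₃ = 0 := by
    have := hc l₃
    rw [z13, z23, mul_zero, mul_zero, zero_add, zero_add] at this
    exact (mul_eq_zero.mp this).resolve_right (hnz l₃ hl₃)
  have h2' : a₂ = 0 := by
    have := hc l₂
    rw [z12, h3', mul_zero, zero_mul, zero_add, add_zero] at this
    exact (mul_eq_zero.mp this).resolve_right (hnz l₂ hl₂)
  have h1' : a₁ = 0 := by
    have := hc l₁
    rw [h2', h3', zero_mul, zero_mul, add_zero, add_zero] at this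
    exact (mul_eq_zero.mp this).resolve_right (hnz l₁ hl₁)
  exact hne ⟨h1', h2', h3'⟩

variable (hM : ∀ g ∈ Cfsg.Omega F (⇑Q), B.Mono g → g ∈ K)

include hM in
theorem d_in (i j : κ) : B.d i j ∈ K := hM _ (B.d_mem i j) (B.mono_d i j)

include hM in
theorem root_pair_in {a b c e : κ} (hab : a ≠ b) (hce : c ≠ e) {ε ε' : F} (hε : ε * ε = 1) (hε' : ε' * ε' = 1) :
    rr Q (B.b a - ε • B.b b) * rr Q (B.b c - ε' • B.b e) ∈ K :=
  hM _ (B.root_pair_mem hab hce hε hε') (B.mono_mul (B.mono_root hab hε) (B.mono_root hce hε'))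

include hM in
/-- Every column outside the monomial group has at most one zero in `T`. -/
theorem col_short (hNF : B.NF K T) (hT : 9 ≤ T.card) {g : Cfsg.isometryGroup F (⇑Q)} (hg : g ∈ K)
    (hgT : B.Fix T g) (hgM : ¬ B.Mono g) {j : κ} (hj : j ∈ T)
    (hsh : (B.supp (ap g (B.b j))).card + 2 ≤ T.card) : False := by
  classical
  have hsj := B.fix_supp_b hgT hj
  obtain ⟨p, hp⟩ : (T \ B.supp (ap g (B.b j))).Nonempty := by
    rw [← Finset.card_pos, Finset.card_sdiff_of_subset hsj]; omega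
  obtain ⟨r, hr, hrp⟩ := Finset.exists_mem_ne (s := T \ B.supp (ap g (B.b j)))
    (by rw [Finset.card_sdiff_of_subset hsj]; omega) p
  rw [Finset.mem_sdiff, notMem_supp] at hp hr
  have hgi := K.inv_mem hg
  have hgiT := B.fix_inv hgT
  set up := ap g⁻¹ (B.b p) with hup
  have hne1 : ∀ i, B.ip (B.b i) (B.b i) ≠ 0 := fun i => by rw [ip_b_self]; exact one_ne_zero
  have hcard4 : (B.supp up).card ≤ 4 := by
    refine le_trans (Finset.card_le_card Finset.subset_union_left)
      (B.mono_pair_supp (u := up) (v := ap g⁻¹ (B.b r)) (by rw [hup, B.ip_ap]; exact hne1 p)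
        (by rw [B.ip_ap]; exact hne1 r) (by rw [hup, B.ip_ap]; exact B.ip_b_ne hrp.symm) ?_)
    exact B.mono_conj_pair hNF hgi hgiT (B.d_in hM p r) (B.fix_d hp.1 hr.1) hj
      (by rw [B.ip_ap_left, inv_inv, B.ip_b_left]; exact hp.2)
      (by rw [B.ip_ap_left, inv_inv, B.ip_b_left]; exact hr.2) (hne1 p) (hne1 r)
  set E := T \ B.supp up with hE
  have hupT : B.supp up ⊆ T := B.fix_supp_b hgiT hp.1
  have hE6 : T.card ≤ E.card + 4 := by rw [hE, Finset.card_sdiff_of_subset hupT]; omega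
  have hEz : ∀ e ∈ E, e ∈ T ∧ B.co up e = 0 := fun e he => by
    rw [hE, Finset.mem_sdiff, notMem_supp] at he; exact he
  set ue : κ → (ι → F) := fun e => ap g (B.b e) with hue
  have hip : ∀ e f, B.ip (ue e) (ue f) = if e = f then 1 else 0 := fun e f => by
    rw [hue]; simp only; rw [B.ip_ap, ip_bb]
  have hm : ∀ e ∈ E, ∀ f ∈ E, B.Mono (rr Q (ue e) * rr Q (ue f)) := by
    intro e he f hf
    refine B.mono_conj_pair hNF hg hgT (B.d_in hM e f) (B.fix_d (hEz e he).1 (hEz f hf).1) hp.1 ?_ ?_ (hne1 e)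
      (hne1 f)
    · rw [B.ip_ap_left, B.ip_b_left]; exact (hEz e he).2
    · rw [B.ip_ap_left, B.ip_b_left]; exact (hEz f hf).2
  have hun : ∀ e ∈ E, ∀ f ∈ E, e ≠ f → (B.supp (ue e) ∪ B.supp (ue f)).card ≤ 4 := fun e he f hf hef =>
    B.mono_pair_supp (by rw [hip, if_pos rfl]; exact one_ne_zero) (by rw [hip, if_pos rfl]; exact one_ne_zero)
      (by rw [hip, if_neg hef]) (hm e he f hf)
  have h2 : ∀ e ∈ E, 2 ≤ (B.supp (ue e)).card := by
    intro e he
    by_contra hlt
    haveI : Nonempty κ := ⟨e⟩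
    obtain ⟨o, ho⟩ := Finset.card_le_one_iff_subset_singleton.mp (show (B.supp (ue e)).card ≤ 1 by omega)
    exact hNF g hg hgT hgM e (hEz e he).1 o ho
  have hmeet : ∀ e f, e ≠ f → (B.supp (ue e) ∩ B.supp (ue f)).card ≠ 1 := by
    intro e f hef hc
    obtain ⟨s, hs⟩ := Finset.card_eq_one.mp hc
    have hz : B.ip (ue e) (ue f) = B.co (ue e) s * B.co (ue f) s :=
      Finset.sum_eq_single s (fun a _ ha => by
        by_contra h0
        rw [mul_eq_zero, not_or] at h0
        exact ha (Finset.mem_singleton.mp (hs ▸ Finset.mem_inter.mpr ⟨B.mem_supp.mpr h0.1, B.mem_supp.mpr h0.2⟩)))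
        (fun h => absurd (Finset.mem_univ s) h)
    have hss : s ∈ B.supp (ue e) ∩ B.supp (ue f) := by rw [hs]; exact Finset.mem_singleton_self s
    rw [Finset.mem_inter, mem_supp, mem_supp] at hss
    rw [hip, if_neg hef] at hz
    exact mul_ne_zero hss.1 hss.2 hz.symm
  have horth : ∀ U : Finset κ, (∀ e ∈ E, B.supp (ue e) ⊆ U) → E.card ≤ U.card := fun U hU => by
    have := B.card_le_of_orth (α := E) (w := fun e => ue e.1) (fun e => by rw [hip, if_pos rfl]; exact one_ne_zero)
      (fun e f hef => by rw [hip, if_neg (fun h => hef (Subtype.ext h))]) (T := U) (fun e => hU e.1 e.2)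
    rwa [Fintype.card_coe] at this
  by_cases h4 : ∃ e ∈ E, 4 ≤ (B.supp (ue e)).card
  · obtain ⟨e, he, h4⟩ := h4
    have h44 : (B.supp (ue e)).card ≤ 4 := by
      obtain ⟨f, hf, hfe⟩ := Finset.exists_mem_ne (s := E) (by omega) e
      exact le_trans (Finset.card_le_card Finset.subset_union_left) (hun e he f hf hfe.symm)
    have := horth (B.supp (ue e)) fun f hf => by
      rcases eq_or_ne e f with rfl | hne
      · exact Finset.Subset.refl _
      have h := Finset.eq_of_subset_of_card_le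
        (Finset.subset_union_left (s₁ := B.supp (ue e)) (s₂ := B.supp (ue f)))
        (by have := hun e he f hf hne; omega)
      rw [h]; exact Finset.subset_union_right
    omega
  push Not at h4
  by_cases h3 : ∃ e ∈ E, (B.supp (ue e)).card = 3
  · obtain ⟨e₀, he₀, h30⟩ := h3
    set S := B.supp (ue e₀) with hS
    set F0 := E.filter fun f => ¬ B.supp (ue f) ⊆ S with hF0
    have key : ∀ f ∈ F0, f ∈ E ∧ f ≠ e₀ ∧ ∃ x, x ∉ S ∧ B.supp (ue f) \ S = {x} ∧
        (B.supp (ue f) ∩ S).card = 2 := by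
      intro f hf
      rw [hF0, Finset.mem_filter] at hf
      obtain ⟨hfE, hfS⟩ := hf
      have hne : f ≠ e₀ := fun h => hfS (by rw [h])
      have hu := hun e₀ he₀ f hfE hne.symm
      rw [← hS] at hu
      have hus : (B.supp (ue f) \ S).card + S.card = (S ∪ B.supp (ue f)).card := by
        rw [Finset.card_sdiff_add_card, Finset.union_comm]
      have hpos : 0 < (B.supp (ue f) \ S).card := by
        rw [Finset.card_pos, Finset.sdiff_nonempty]; exact hfS
      have hsd : (B.supp (ue f) \ S).card = 1 := by omega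
      obtain ⟨x, hx⟩ := Finset.card_eq_one.mp hsd
      have hxS : x ∉ S := by
        have : x ∈ B.supp (ue f) \ S := by rw [hx]; exact Finset.mem_singleton_self x
        exact (Finset.mem_sdiff.mp this).2
      have hi := Finset.card_sdiff_add_card_inter (B.supp (ue f)) S
      have hm' := hmeet f e₀ hne
      rw [← hS] at hm'
      have := h2 f hfE
      have := h4 f hfE
      exact ⟨hfE, hne, x, hxS, hx, by omega⟩
    set X := F0.biUnion fun f => B.supp (ue f) \ S with hX
    have hX2 : 1 < X.card := by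
      have := horth (S ∪ X) fun f hf l hl => by
        by_cases hlS : l ∈ S
        · exact Finset.mem_union_left _ hlS
        · refine Finset.mem_union_right _ (Finset.mem_biUnion.mpr ⟨f, ?_, Finset.mem_sdiff.mpr ⟨hl, hlS⟩⟩)
          exact Finset.mem_filter.mpr ⟨hf, fun h => hlS (h hl)⟩
      have := Finset.card_union_le S X
      omega
    obtain ⟨x₁, x₂, hx₁, hx₂, h12⟩ := Finset.one_lt_card_iff.mp hX2
    have getf : ∀ x ∈ X, ∃ f ∈ E, x ∉ S ∧ B.supp (ue f) \ S = {x} ∧ (B.supp (ue f) ∩ S).card = 2 := by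
      intro x hx
      obtain ⟨f, hf, hxf⟩ := Finset.mem_biUnion.mp hx
      obtain ⟨hfE, -, y, hy, he, hc⟩ := key f hf
      rw [he, Finset.mem_singleton] at hxf
      subst hxf
      exact ⟨f, hfE, hy, he, hc⟩
    obtain ⟨f₁, hf₁, hx1S, e₁, c₁⟩ := getf x₁ hx₁
    obtain ⟨f₂, hf₂, hx2S, e₂, c₂⟩ := getf x₂ hx₂
    have samePQ : ∀ f f' (x x' : κ), f ∈ E → f' ∈ E → x ≠ x' → x ∉ S → x' ∉ S → B.supp (ue f) \ S = {x} →
        B.supp (ue f') \ S = {x'} → (B.supp (ue f) ∩ S).card = 2 → (B.supp (ue f') ∩ S).card = 2 →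
        B.supp (ue f) ∩ S = B.supp (ue f') ∩ S ∧ f ≠ f' := by
      intro f f' x x' hf hf' hxx hx hx' he he' hc hc'
      have hff : f ≠ f' := fun h => hxx (Finset.singleton_injective (by rw [← he, ← he', h]))
      refine ⟨?_, hff⟩
      have hu := hun f hf f' hf' hff
      have hd : Disjoint ({x, x'} : Finset κ) (B.supp (ue f) ∩ S ∪ B.supp (ue f') ∩ S) := by
        rw [Finset.disjoint_left]
        intro l hl hl'
        simp only [Finset.mem_union, Finset.mem_inter] at hl'
        simp only [Finset.mem_insert, Finset.mem_singleton] at hl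
        rcases hl with rfl | rfl <;> rcases hl' with h | h <;> first | exact hx h.2 | exact hx' h.2
      have hsub : ({x, x'} : Finset κ) ∪ (B.supp (ue f) ∩ S ∪ B.supp (ue f') ∩ S) ⊆
          B.supp (ue f) ∪ B.supp (ue f') := by
        have e1 : x ∈ B.supp (ue f) := (Finset.mem_sdiff.mp (by rw [he]; exact Finset.mem_singleton_self x : x ∈ _ \ S)).1
        have e2 : x' ∈ B.supp (ue f') :=
          (Finset.mem_sdiff.mp (by rw [he']; exact Finset.mem_singleton_self x' : x' ∈ _ \ S)).1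
        intro l hl
        simp only [Finset.mem_union, Finset.mem_insert, Finset.mem_singleton, Finset.mem_inter] at hl ⊢
        rcases hl with (rfl | rfl) | h | h
        exacts [Or.inl e1, Or.inr e2, Or.inl h.1, Or.inr h.1]
      have hcc := Finset.card_le_card hsub
      rw [Finset.card_union_of_disjoint hd, Finset.card_pair hxx] at hcc
      have e1 := Finset.eq_of_subset_of_card_le
        (Finset.subset_union_left (s₁ := B.supp (ue f) ∩ S) (s₂ := B.supp (ue f') ∩ S)) (by omega)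
      have e2 := Finset.eq_of_subset_of_card_le
        (Finset.subset_union_right (s₁ := B.supp (ue f) ∩ S) (s₂ := B.supp (ue f') ∩ S)) (by omega)
      exact e1.trans e2.symm
    obtain ⟨hP12, hf12⟩ := samePQ f₁ f₂ x₁ x₂ hf₁ hf₂ h12 hx1S hx2S e₁ e₂ c₁ c₂
    obtain ⟨p₁, p₂, hp12, hP⟩ := Finset.card_eq_two.mp c₁
    have hsupp : ∀ {f x}, B.supp (ue f) \ S = {x} → B.supp (ue f) ∩ S = {p₁, p₂} →
        B.supp (ue f) = {p₁, p₂, x} := by
      intro f x he hi
      rw [← Finset.sdiff_union_inter (B.supp (ue f)) S, he, hi]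
      ext l; simp; tauto
    have s1 := hsupp e₁ hP
    have s2 := hsupp e₂ (hP12 ▸ hP)
    have hxp : ∀ {x}, x ∉ S → x ≠ p₁ ∧ x ≠ p₂ := by
      intro x hx
      have hs : p₁ ∈ S ∧ p₂ ∈ S := by
        constructor <;> exact (Finset.mem_inter.mp (by rw [hP]; simp : _ ∈ B.supp (ue f₁) ∩ S)).2
      exact ⟨fun h => hx (h ▸ hs.1), fun h => hx (h ▸ hs.2)⟩
    obtain ⟨hx1a, hx1b⟩ := hxp hx1S
    obtain ⟨hx2a, hx2b⟩ := hxp hx2S
    have eqv : ∀ {f x}, B.supp (ue f) = {p₁, p₂, x} → x ≠ p₁ → x ≠ p₂ →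
        ue f = B.co (ue f) p₁ • B.b p₁ + B.co (ue f) p₂ • B.b p₂ + B.co (ue f) x • B.b x := by
      intro f x hs hxa hxb
      conv_lhs => rw [B.eq_sum_supp hs.subset]
      rw [Finset.sum_insert (by simp [hp12, Ne.symm hxa]), Finset.sum_pair hxb.symm, add_assoc]
    have ipv : ∀ {f f' x x'}, f ≠ f' → x ≠ x' → B.supp (ue f) = {p₁, p₂, x} → B.supp (ue f') = {p₁, p₂, x'} →
        x ≠ p₁ → x ≠ p₂ →
        B.co (ue f) p₁ * B.co (ue f') p₁ + B.co (ue f) p₂ * B.co (ue f') p₂ = 0 := by
      intro f f' x x' hff hxx hs hs' hxa hxb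
      have := hip f f'
      rw [if_neg hff, B.ip_supp hs.subset, Finset.sum_insert (by simp [hp12, Ne.symm hxa]),
        Finset.sum_pair hxb.symm] at this
      have hz : B.co (ue f') x = 0 := B.co_eq_zero hs'.subset (by simp [hxa, hxb, hxx])
      rw [hz, mul_zero, add_zero] at this
      exact this
    have i12 := ipv hf12 h12 s1 s2 hx1a hx1b
    have nz : ∀ {f x}, B.supp (ue f) = {p₁, p₂, x} →
        B.co (ue f) p₁ ≠ 0 ∧ B.co (ue f) p₂ ≠ 0 ∧ B.co (ue f) x ≠ 0 := fun hs =>
      ⟨B.mem_supp.mp (by rw [hs]; simp), B.mem_supp.mp (by rw [hs]; simp), B.mem_supp.mp (by rw [hs]; simp)⟩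
    obtain ⟨a1, a2, al⟩ := nz s1
    obtain ⟨b1, b2, bl⟩ := nz s2
    have hpS : p₁ ∈ S ∧ p₂ ∈ S := by
      constructor <;> exact (Finset.mem_inter.mp (by rw [hP]; simp : _ ∈ B.supp (ue f₁) ∩ S)).2
    -- the vector supported on `S` is orthogonal to both pieces over the common pair
    have ie : ∀ {f x}, f ≠ e₀ → B.supp (ue f) = {p₁, p₂, x} → x ≠ p₁ → x ≠ p₂ → x ∉ S →
        B.co (ue f) p₁ * B.co (ue e₀) p₁ + B.co (ue f) p₂ * B.co (ue e₀) p₂ = 0 := by
      intro f x hfe hs hxa hxb hxS'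
      have := hip f e₀
      rw [if_neg hfe, B.ip_supp hs.subset, Finset.sum_insert (by simp [hp12, Ne.symm hxa]),
        Finset.sum_pair hxb.symm] at this
      rw [B.co_eq_zero (hS.symm.subset) hxS', mul_zero, add_zero] at this
      exact this
    have hf1e : f₁ ≠ e₀ := fun h => hx1S (by
      rw [hS, ← h, s1]; simp)
    have hf2e : f₂ ≠ e₀ := fun h => hx2S (by
      rw [hS, ← h, s2]; simp)
    have ie1 := ie hf1e s1 hx1a hx1b hx1S
    have ie2 := ie hf2e s2 hx2a hx2b hx2S
    have hprop : B.co (ue f₁) p₁ * B.co (ue f₂) p₂ = B.co (ue f₁) p₂ * B.co (ue f₂) p₁ := by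
      have hC : B.co (ue e₀) p₂ ≠ 0 := B.mem_supp.mp (hS.subset hpS.2)
      have : B.co (ue e₀) p₂ * (B.co (ue f₁) p₁ * B.co (ue f₂) p₂ - B.co (ue f₁) p₂ * B.co (ue f₂) p₁) = 0 := by
        linear_combination B.co (ue f₁) p₁ * ie2 - B.co (ue f₂) p₁ * ie1
      exact sub_eq_zero.mp ((mul_eq_zero.mp this).resolve_left hC)
    have hAA : B.co (ue f₁) p₁ * B.co (ue f₁) p₁ + B.co (ue f₁) p₂ * B.co (ue f₁) p₂ = 0 := by
      have : B.co (ue f₂) p₁ * (B.co (ue f₁) p₁ * B.co (ue f₁) p₁ + B.co (ue f₁) p₂ * B.co (ue f₁) p₂) = 0 := by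
        linear_combination B.co (ue f₁) p₁ * i12 - B.co (ue f₁) p₂ * hprop
      exact (mul_eq_zero.mp this).resolve_left b1
    set A := fun f => B.co (ue f) p₁ • B.b p₁ + B.co (ue f) p₂ • B.b p₂ with hA
    set m := rr Q (ue f₁) * rr Q (ue f₂) with hmdef
    have hm12 := hm f₁ hf₁ f₂ hf₂
    rw [← hmdef] at hm12
    have hne' : ∀ f, B.ip (ue f) (ue f) ≠ 0 := fun f => by rw [hip, if_pos rfl]; exact one_ne_zero
    have hu1 : ap m (ue f₁) = -ue f₁ := by
      rw [hmdef, ap_mul, B.rr_fix (v := ue f₂) (x := ue f₁) (hne' f₂) (by rw [hip, if_neg hf12.symm]),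
        B.rr_self (hne' f₁)]
    have hA1 : ap m (A f₁) = A f₁ := by
      rw [hmdef, ap_mul, B.rr_fix (v := ue f₂) (x := A f₁) (hne' f₂) (by
          simp only [hA, ip_add_right, ip_smul_right, ip_b_right]; linear_combination i12),
        B.rr_fix (v := ue f₁) (x := A f₁) (hne' f₁) (by
          simp only [hA, ip_add_right, ip_smul_right, ip_b_right]; linear_combination hAA)]
    have hlam : B.co (ue f₁) x₁ • ap m (B.b x₁) = -(2 : F) • A f₁ - B.co (ue f₁) x₁ • B.b x₁ := by
      have h := hu1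
      rw [eqv s1 hx1a hx1b, map_add, map_smul, show B.co (ue f₁) p₁ • B.b p₁ + B.co (ue f₁) p₂ • B.b p₂ = A f₁ from rfl,
        hA1, ← eq_sub_iff_add_eq'] at h
      rw [h]; module
    have hsub : ({p₁, p₂} : Finset κ) ⊆ B.supp (ap m (B.b x₁)) := by
      intro l hl
      rw [← B.supp_smul al, hlam, mem_supp, co_sub, co_smul, co_smul, co_b]
      simp only [Finset.mem_insert, Finset.mem_singleton] at hl
      rcases hl with rfl | rfl
      · rw [if_neg hx1a, mul_zero, sub_zero, neg_mul, neg_ne_zero]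
        refine mul_ne_zero B.two ?_
        simpa [hA, co_add, co_smul, co_b, hp12.symm] using a1
      · rw [if_neg hx1b, mul_zero, sub_zero, neg_mul, neg_ne_zero]
        refine mul_ne_zero B.two ?_
        simpa [hA, co_add, co_smul, co_b, hp12] using a2
    have := (Finset.card_le_card hsub).trans (hm12 x₁)
    rw [Finset.card_pair hp12] at this
    omega
  push Not at h3
  have hall2 : ∀ e ∈ E, (B.supp (ue e)).card = 2 := fun e he => by
    have := h2 e he; have := h4 e he; have := h3 e he; omega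
  by_cases hsame : ∃ e ∈ E, ∃ f ∈ E, e ≠ f ∧ B.supp (ue e) = B.supp (ue f)
  · obtain ⟨e, he, f, hf, hef, hP⟩ := hsame
    obtain ⟨h, hh, hhP⟩ : ∃ h ∈ E, B.supp (ue h) ≠ B.supp (ue e) := by
      by_contra hc
      push Not at hc
      have := horth (B.supp (ue e)) fun h hh => (hc h hh).subset
      have := hall2 e he
      omega
    have heh : h ≠ e := fun hc => hhP (by rw [hc])
    have hfh : h ≠ f := fun hc => hhP (by rw [hc, hP])
    obtain ⟨k, hk, hk'⟩ := Finset.exists_mem_notMem_of_card_lt_card (s := ({e, f, h} : Finset κ)) (t := E) (by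
      have := Finset.card_le_three (a := e) (b := f) (c := h); omega)
    obtain ⟨l, hl, hl'⟩ := Finset.exists_mem_notMem_of_card_lt_card (s := ({e, f, h, k} : Finset κ)) (t := E) (by
      have h1 := Finset.card_insert_le e ({f, h, k} : Finset κ)
      have := Finset.card_le_three (a := f) (b := h) (c := k)
      omega)
    simp only [Finset.mem_insert, Finset.mem_singleton, not_or] at hk' hl'
    set x := B.b e - (1 : F) • B.b h
    set y := B.b k - (1 : F) • B.b l
    have hxy : ap (rr Q x * rr Q y) (B.b e) = B.b h ∧ ap (rr Q x * rr Q y) (B.b f) = B.b f := by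
      constructor
      · rw [ap_mul, B.rr_root (Ne.symm hl'.2.2.2) (one_mul 1), if_neg (Ne.symm hk'.1), if_neg (Ne.symm hl'.1),
          B.rr_root heh.symm (one_mul 1), if_pos rfl, one_smul]
      · rw [ap_mul, B.rr_root (Ne.symm hl'.2.2.2) (one_mul 1), if_neg (Ne.symm hk'.2.1), if_neg (Ne.symm hl'.2.1),
          B.rr_root heh.symm (one_mul 1), if_neg hef.symm, if_neg hfh.symm]
    have hxT : B.supp x ⊆ T := (B.supp_root _ _ _).trans (by
      simp [Finset.insert_subset_iff, (hEz e he).1, (hEz h hh).1])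
    have hyT : B.supp y ⊆ T := (B.supp_root _ _ _).trans (by
      simp [Finset.insert_subset_iff, (hEz k hk).1, (hEz l hl).1])
    have hgx : B.supp (ap g x) ⊆ B.supp (ue e) ∪ B.supp (ue h) := by
      rw [map_sub, map_smul, one_smul]; exact B.supp_sub_subset _ _
    have hgy : B.supp (ap g y) ⊆ B.supp (ue k) ∪ B.supp (ue l) := by
      rw [map_sub, map_smul, one_smul]; exact B.supp_sub_subset _ _
    obtain ⟨i, hi, hi'⟩ := Finset.exists_mem_notMem_of_card_lt_card
      (s := (B.supp (ue e) ∪ B.supp (ue h)) ∪ (B.supp (ue k) ∪ B.supp (ue l))) (t := T) (by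
        have := Finset.card_union_le (B.supp (ue e) ∪ B.supp (ue h)) (B.supp (ue k) ∪ B.supp (ue l))
        have := Finset.card_union_le (B.supp (ue e)) (B.supp (ue h))
        have := Finset.card_union_le (B.supp (ue k)) (B.supp (ue l))
        rw [hall2 e he, hall2 h hh] at *
        rw [hall2 k hk, hall2 l hl] at *
        omega)
    rw [Finset.mem_union, not_or] at hi'
    have hmono := B.mono_conj_pair hNF hg hgT (x := x) (y := y)
      (B.root_pair_in hM heh.symm (Ne.symm hl'.2.2.2) (one_mul 1) (one_mul 1))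
      (B.fix_mul (B.fix_rr hxT) (B.fix_rr hyT)) hi
      (by rw [B.ip_b_right]; exact B.co_eq_zero hgx hi'.1) (by rw [B.ip_b_right]; exact B.co_eq_zero hgy hi'.2)
      (by rw [B.ip_root heh.symm (one_mul 1)]; exact B.two)
      (by rw [B.ip_root (Ne.symm hl'.2.2.2) (one_mul 1)]; exact B.two)
    have econj : rr Q (ap g x) * rr Q (ap g y) = g * (rr Q x * rr Q y) * g⁻¹ := by
      rw [← rr_conj, ← rr_conj]; group
    have himg : ∀ a b, ap (rr Q x * rr Q y) (B.b a) = B.b b →
        ap (rr Q (ap g x) * rr Q (ap g y)) (ue a) = ue b := fun a b hab => by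
      rw [econj, ap_mul, ap_mul, hue]; simp only; rw [ap_inv_ap, hab]
    apply hhP
    rw [← himg e h hxy.1, hP]
    conv_rhs => rw [← himg f f hxy.2]
    exact B.mono_supp_eq hmono hP
  push Not at hsame
  have hdis : (E : Set κ).PairwiseDisjoint fun e => B.supp (ue e) := by
    intro e he f hf hef
    rw [Function.onFun, Finset.disjoint_iff_inter_eq_empty, ← Finset.card_eq_zero]
    have hle := Finset.card_le_card (Finset.inter_subset_left (s₁ := B.supp (ue e)) (s₂ := B.supp (ue f)))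
    have := hall2 e he
    have := hmeet e f hef
    by_contra h0
    refine hsame e he f hf hef ((Finset.eq_of_subset_of_card_le Finset.inter_subset_left (by omega)).symm.trans
      (Finset.eq_of_subset_of_card_le Finset.inter_subset_right (by rw [hall2 f hf]; omega)))
  have hsub : E.biUnion (fun e => B.supp (ue e)) ⊆ T :=
    Finset.biUnion_subset.mpr fun e he => B.fix_supp_b hgT (hEz e he).1
  have := Finset.card_le_card hsub
  rw [Finset.card_biUnion hdis, Finset.sum_congr rfl hall2, Finset.sum_const, smul_eq_mul] at this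
  omega

include hM in
/-- A vector with two zeros in `T` does not go to a frame line. -/
theorem no_short_line (hNF : B.NF K T) (hT : 9 ≤ T.card) {g : Cfsg.isometryGroup F (⇑Q)} (hg : g ∈ K)
    (hgT : B.Fix T g) (hgM : ¬ B.Mono g) {x : ι → F} (hx : x ≠ 0) (hsh : (B.supp x).card + 2 ≤ T.card)
    {o : κ} (hoT : o ∈ T) (ho : B.supp (ap g x) ⊆ {o}) : False := by
  have he := B.eq_smul_b ho
  have hc : B.co (ap g x) o ≠ 0 := fun h => by
    rw [h, zero_smul] at he
    exact hx (ap_injective g (he.trans (map_zero (ap g)).symm))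
  refine B.col_short hM hNF hT (K.inv_mem hg) (B.fix_inv hgT) (fun h => hgM (B.mono_inv_iff.mp h)) hoT ?_
  have h2 := congrArg (ap g⁻¹) he
  rw [ap_inv_ap, map_smul] at h2
  generalize B.co (ap g x) o = a at hc h2
  rw [show ap g⁻¹ (B.b o) = a⁻¹ • x by rw [h2, smul_smul, inv_mul_cancel₀ hc, one_smul],
    B.supp_smul (inv_ne_zero hc)]
  exact hsh

end OFrame

end Cfsg.Lib.Classical.OFr
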