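import Mathlib
import Cfsg.Agent.Classical.Orth.Frame.Column
import Cfsg.Agent.Classical.Unitary.FrameLineOdd

set_option autoImplicit false
set_option linter.unusedVariables false
set_option linter.unusedSimpArgs false
set_option linter.unusedSectionVars false
set_option linter.style.haveILetI false
set_option linter.flexible false

/-! Overgroups of monomial orthogonal groups contain a non-monomial element fixing all but nine frame vectors. -/

namespace Cfsg.Lib.Classical.OFr

open Matrix Cfsg.Lib.Classical.Refl

universe u w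

namespace OFrame

variable {F : Type u} [Field F] [Fintype F] [DecidableEq F] {ι : Type} [Fintype ι] [DecidableEq ι]
  {Q : QuadraticForm F (ι → F)} {κ : Type w} [Fintype κ] [DecidableEq κ] (B : OFrame Q κ)
  {K : Subgroup (Cfsg.isometryGroup F (⇑Q))} {T : Finset κ}
  (hM : ∀ g ∈ Cfsg.Omega F (⇑Q), B.Mono g → g ∈ K) (hKO : K ≤ Cfsg.Omega F (⇑Q))

theorem sq_one_cases {ε : F} (h : ε * ε = 1) : ε = 1 ∨ ε = -1 := mul_self_eq_one_iff.mp h

theorem supp_root_eq {a b : κ} (hab : a ≠ b) {ε : F} (hε : ε * ε = 1) :
    B.supp (B.b a - ε • B.b b) = {a, b} := by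
  refine Finset.Subset.antisymm (B.supp_root a b ε) ?_
  have hε0 : ε ≠ 0 := fun h => by rw [h, mul_zero] at hε; exact zero_ne_one hε
  intro l hl
  simp only [Finset.mem_insert, Finset.mem_singleton] at hl
  rw [mem_supp, co_sub, co_smul, co_b, co_b]
  rcases hl with rfl | rfl
  · simp [hab.symm]
  · simp [hab, hε0]

include hM in
/-- Of two opposite roots at most one has a short image. -/
theorem exists_long_root (hNF : B.NF K T) (hT : 9 ≤ T.card) {g : Cfsg.isometryGroup F (⇑Q)} (hg : g ∈ K)
    (hgT : B.Fix T g) (hgM : ¬ B.Mono g) {a b : κ} (ha : a ∈ T) (hab : a ≠ b) :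
    ∃ ε : F, ε * ε = 1 ∧ 4 < (B.supp (ap g (B.b a - ε • B.b b))).card := by
  by_contra hc
  push Not at hc
  have h1 := hc 1 (one_mul 1)
  have h2 := hc (-1) (by ring)
  have e : (2 : F) • ap g (B.b a) = ap g (B.b a - (1 : F) • B.b b) + ap g (B.b a - (-1 : F) • B.b b) := by
    rw [← map_add, ← map_smul]; congr 1; module
  have ha8 := Finset.card_le_card (B.supp_add_subset (ap g (B.b a - (1 : F) • B.b b)) (ap g (B.b a - (-1 : F) • B.b b)))
  rw [← e, B.supp_smul B.two] at ha8
  have := Finset.card_union_le (B.supp (ap g (B.b a - (1 : F) • B.b b))) (B.supp (ap g (B.b a - (-1 : F) • B.b b)))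
  set U := B.supp (ap g (B.b a - (1 : F) • B.b b)) ∪ B.supp (ap g (B.b a - (-1 : F) • B.b b)) with hU
  refine B.col_short hM hNF hT hg hgT hgM ha ?_
  by_cases hbT : b ∈ T
  · have haU : B.supp (ap g (B.b a)) ⊆ U := by
      rw [← B.supp_smul B.two (ap g (B.b a)), e]; exact B.supp_add_subset _ _
    have hbU : B.supp (ap g (B.b b)) ⊆ U := by
      have e' : (2 : F) • ap g (B.b b) =
          ap g (B.b a - (-1 : F) • B.b b) - ap g (B.b a - (1 : F) • B.b b) := by
        rw [← map_sub, ← map_smul]; congr 1; module
      rw [← B.supp_smul B.two (ap g (B.b b)), e']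
      exact (B.supp_sub_subset _ _).trans (Finset.union_subset Finset.subset_union_right Finset.subset_union_left)
    obtain ⟨p, hpT, hpU⟩ := Finset.exists_mem_notMem_of_card_lt_card (s := U) (t := T) (by omega)
    have hne1 : ∀ i, B.ip (B.b i) (B.b i) ≠ 0 := fun i => by rw [ip_b_self]; exact one_ne_zero
    have hm := B.mono_conj_pair hNF hg hgT (B.d_in hM a b) (B.fix_d ha hbT) hpT
      (by rw [B.ip_b_right]; exact B.co_eq_zero haU hpU) (by rw [B.ip_b_right]; exact B.co_eq_zero hbU hpU)
      (hne1 a) (hne1 b)
    have h4 := B.mono_pair_supp (by rw [B.ip_ap]; exact hne1 a) (by rw [B.ip_ap]; exact hne1 b)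
      (by rw [B.ip_ap]; exact B.ip_b_ne hab) hm
    have := Finset.card_le_card (Finset.subset_union_left (s₁ := B.supp (ap g (B.b a))) (s₂ := B.supp (ap g (B.b b))))
    omega
  · have hbfix : ap g (B.b b) = B.b b := hgT b hbT
    have hbs : B.supp (ap g (B.b a)) ⊆ T := B.fix_supp_b hgT ha
    have hsup : insert b (B.supp (ap g (B.b a))) ⊆ B.supp (ap g (B.b a - (1 : F) • B.b b)) := by
      intro l hl
      rw [map_sub, map_smul, hbfix, one_smul, mem_supp, co_sub, co_b]
      rcases Finset.mem_insert.mp hl with rfl | hl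
      · rw [if_pos rfl, B.co_eq_zero hbs hbT, zero_sub]; exact neg_ne_zero.mpr one_ne_zero
      · rw [if_neg (fun h : b = l => hbT (h ▸ hbs hl)), sub_zero]; exact B.mem_supp.mp hl
    have := Finset.card_le_card hsup
    have := Finset.card_insert_of_notMem (fun h => hbT (hbs h))
    omega

include hM hKO in
/-- A four element set gives a short vector with a two element image. -/
theorem quad_pair (hNF : B.NF K T) (hT : 9 ≤ T.card) {g : Cfsg.isometryGroup F (⇑Q)} (hg : g ∈ K)
    (hgT : B.Fix T g) (hgM : ¬ B.Mono g) {a b c e : κ} (ha : a ∈ T) (hb : b ∈ T) (hc : c ∈ T) (he : e ∈ T)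
    (hab : a ≠ b) (hac : a ≠ c) (hae : a ≠ e) (hbc : b ≠ c) (hbe : b ≠ e) (hce : c ≠ e) :
    ∃ x P, B.supp x = {a, b, c, e} ∧ P ∈ T.powersetCard 2 ∧ B.supp (ap g x) = P := by
  classical
  obtain ⟨ε, hε, hsl⟩ := B.exists_long_root hM hNF hT hg hgT hgM ha hab
  obtain ⟨ε', hε', htl⟩ := B.exists_long_root hM hNF hT hg hgT hgM hc hce
  set s := B.b a - ε • B.b b with hsdef
  set t := B.b c - ε' • B.b e with htdef
  have hsT : B.supp s ⊆ T := (B.supp_root a b ε).trans (by simp [Finset.insert_subset_iff, ha, hb])
  have htT : B.supp t ⊆ T := (B.supp_root c e ε').trans (by simp [Finset.insert_subset_iff, hc, he])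
  have hss : B.ip s s = 2 := B.ip_root hab hε
  have htt : B.ip t t = 2 := B.ip_root hce hε'
  have hst : B.ip s t = 0 := B.ip_disjoint fun i hi hi' => by
    rw [B.supp_root_eq hab hε] at hi
    rw [B.supp_root_eq hce hε'] at hi'
    simp only [Finset.mem_insert, Finset.mem_singleton] at hi hi'
    rcases hi with rfl | rfl <;> rcases hi' with rfl | rfl <;> contradiction
  set u := ap g s with hu
  set v := ap g t with hv
  have huu : B.ip u u = 2 := by rw [hu, B.ip_ap, hss]
  have hvv : B.ip v v = 2 := by rw [hv, B.ip_ap, htt]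
  have huv : B.ip u v = 0 := by rw [hu, hv, B.ip_ap, hst]
  have hu0 : B.ip u u ≠ 0 := by rw [huu]; exact B.two
  have hv0 : B.ip v v ≠ 0 := by rw [hvv]; exact B.two
  have huT : B.supp u ⊆ T := B.fix_supp hgT hsT
  have hvT : B.supp v ⊆ T := B.fix_supp hgT htT
  have hτK : rr Q s * rr Q t ∈ K := B.root_pair_in hM hab hce hε hε'
  have hτT : B.Fix T (rr Q s * rr Q t) := B.fix_mul (B.fix_rr hsT) (B.fix_rr htT)
  set d' := rr Q u * rr Q v with hd'
  have hd'e : d' = g * (rr Q s * rr Q t) * g⁻¹ := by rw [hd', hu, hv, ← rr_conj, ← rr_conj]; group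
  have hd'K : d' ∈ K := hd'e ▸ K.mul_mem (K.mul_mem hg hτK) (K.inv_mem hg)
  have hd'T : B.Fix T d' := B.fix_mul (B.fix_rr huT) (B.fix_rr hvT)
  have hd'ap : ∀ x, ap d' x = x - B.ip u x • u - B.ip v x • v := fun x => by
    rw [hd', ap_mul, B.rr_apply hv0, map_sub, map_smul, B.rr_fix hu0 huv, B.rr_apply hu0, huu, hvv,
      mul_div_cancel_left₀ _ B.two, mul_div_cancel_left₀ _ B.two]
  have hd'sq : d' * d' = 1 := by
    refine ap_ext fun x => ?_
    rw [ap_mul, ap_one, hd'ap, hd'ap]
    simp only [ip_sub_right, ip_smul_right, huu, hvv, huv, B.ip_comm v u, mul_zero, sub_zero]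
    module
  -- two independent short combinations are impossible
  have hshort2 : ∀ α β α' β' : F, (B.supp (α • u + β • v)).card ≤ 4 → (B.supp (α' • u + β' • v)).card ≤ 4 →
      α * β' = α' * β := by
    intro α β α' β' h1 h2
    by_contra hne
    have hdet : α * β' - α' * β ≠ 0 := sub_ne_zero.mpr hne
    have hU : ∀ z, (∃ p q : F, (α * β' - α' * β) • z = p • (α • u + β • v) + q • (α' • u + β' • v)) →
        B.supp z ⊆ B.supp (α • u + β • v) ∪ B.supp (α' • u + β' • v) := by
      rintro z ⟨p, q, hz⟩
      rw [← B.supp_smul hdet z, hz]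
      exact (B.supp_add_subset _ _).trans (Finset.union_subset_union (B.supp_smul_subset _ _) (B.supp_smul_subset _ _))
    have hu8 := hU u ⟨β', -β, by module⟩
    have hv8 := hU v ⟨-α', α, by module⟩
    obtain ⟨i, hiT, hi⟩ := Finset.exists_mem_notMem_of_card_lt_card
      (s := B.supp (α • u + β • v) ∪ B.supp (α' • u + β' • v)) (t := T) (by
        have := Finset.card_union_le (B.supp (α • u + β • v)) (B.supp (α' • u + β' • v)); omega)
    have hmono := B.mono_conj_pair hNF hg hgT hτK hτT hiT
      (by rw [B.ip_b_right]; exact B.co_eq_zero hu8 hi) (by rw [B.ip_b_right]; exact B.co_eq_zero hv8 hi)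
      (by rw [hss]; exact B.two) (by rw [htt]; exact B.two)
    have h4 := B.mono_pair_supp hu0 hv0 huv hmono
    have := Finset.card_le_card (Finset.subset_union_left (s₁ := B.supp u) (s₂ := B.supp v))
    omega
  have step : ∀ i ∈ B.supp u, ∀ j ∈ T, j ≠ i → ∃ α β : F, α • u + β • v ≠ 0 ∧
      ∃ k k', B.supp (α • u + β • v) ⊆ {i, j, k, k'} := by
    intro i hi j hj hji
    have hiT := huT hi
    set d := B.d i j with hd
    have hdK : d ∈ K := B.d_in hM i j
    have hdT : B.Fix T d := B.fix_d hiT hj
    have hne1 : ∀ l, B.ip (B.b l) (B.b l) ≠ 0 := fun l => by rw [ip_b_self]; exact one_ne_zero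
    have hdsq : d * d = 1 := ap_ext fun x => B.ext_co fun l => by
      rw [ap_mul, ap_one, hd, B.co_d hji.symm, B.co_d hji.symm]; split_ifs <;> ring
    have hdneg : ∀ x, ap d x = -x → B.supp x ⊆ {i, j} := fun x hx l hl => by
      rw [mem_supp] at hl
      have h := congrArg (fun z => B.co z l) hx
      simp only [hd, B.co_d hji.symm, co_neg] at h
      by_contra hlij
      simp only [Finset.mem_insert, Finset.mem_singleton] at hlij
      rw [if_neg hlij] at h
      have : (2 : F) * B.co x l = 0 := by linear_combination h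
      exact hl ((mul_eq_zero.mp this).resolve_left B.two)
    have hdP : ∀ x, B.supp x ⊆ {i, j} → ap d x = -x := fun x hx => B.ext_co fun l => by
      rw [hd, B.co_d hji.symm, co_neg]
      split_ifs with h
      · rfl
      · rw [B.co_eq_zero hx (by simpa using h), neg_zero]
    rcases dihedral_cases hdsq hd'sq with ⟨k₀, hk₀, hkeq⟩ | ⟨z, hz, hz1, hz2, hzd, hzd'⟩
    · exfalso
      have hsubK : Subgroup.closure ({d, d'} : Set (Cfsg.isometryGroup F (⇑Q))) ≤ K := by
        rw [Subgroup.closure_le]; intro x hx; rcases hx with rfl | rfl; exacts [hdK, hd'K]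
      have hk₀T : B.Fix T k₀ := by
        clear hkeq
        induction hk₀ using Subgroup.closure_induction with
        | mem x hx => rcases hx with rfl | rfl; exacts [hdT, hd'T]
        | one => exact B.fix_one
        | mul x y _ _ hx hy => exact B.fix_mul hx hy
        | inv x _ hx => exact B.fix_inv hx
      set k := k₀ * g with hk
      have hkK : k ∈ K := K.mul_mem (hsubK hk₀) hg
      have hkT : B.Fix T k := B.fix_mul hk₀T hgT
      have hneg : ∀ z, ap d' (ap g z) = -ap g z → B.supp (ap k z) ⊆ {i, j} := fun z hz' => hdneg _ (by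
        rw [← hkeq, ap_mul, ap_mul, hk, ap_mul k₀ g, ap_inv_ap, hz', map_neg])
      have hks := hneg s (by rw [← hu, hd'ap, huu, B.ip_comm v u, huv]; module)
      have hkt := hneg t (by rw [← hv, hd'ap, hvv, huv]; module)
      by_cases hkm : B.Mono k
      · have h4 : (B.supp (s + t)).card = 4 := by
          have : B.supp (s + t) = {a, b, c, e} := by
            ext l
            rw [mem_supp, co_add]
            simp only [hsdef, htdef, co_sub, co_smul, co_b, Finset.mem_insert, Finset.mem_singleton]
            have hε0 : ε ≠ 0 := fun h => by rw [h, mul_zero] at hε; exact zero_ne_one hε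
            have hε0' : ε' ≠ 0 := fun h => by rw [h, mul_zero] at hε'; exact zero_ne_one hε'
            by_cases h1 : l = a
            · subst h1; simp [hab.symm, hac.symm, hae.symm]
            by_cases h2 : l = b
            · subst h2; simp [hab, hbc.symm, hbe.symm, hε0]
            by_cases h3 : l = c
            · subst h3; simp [hac, hbc, hce.symm]
            by_cases h4 : l = e
            · subst h4; simp [hae, hbe, hce, hε0']
            simp [h1, h2, h3, h4, Ne.symm h1, Ne.symm h2, Ne.symm h3, Ne.symm h4]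
          rw [this, Finset.card_insert_of_notMem (by simp [hab, hac, hae]),
            Finset.card_insert_of_notMem (by simp [hbc, hbe]), Finset.card_pair hce]
        have h2 := Finset.card_le_card ((B.supp_add_subset _ _).trans (Finset.union_subset hks hkt))
        rw [← map_add, B.mono_card hkm, h4] at h2
        have := (Finset.card_le_two : ({i, j} : Finset κ).card ≤ 2)
        omega
      · obtain ⟨w, hw0, hwsupp, hwz⟩ : ∃ w, w ≠ 0 ∧ B.supp w ⊆ B.supp s ∪ B.supp t ∧
            B.supp (ap k w) ⊆ {i} := by
          have red : ∀ y, B.supp y ⊆ {i, j} → B.co y j = 0 → B.supp y ⊆ {i} := fun y hy h l hl => by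
            have := hy hl
            simp only [Finset.mem_insert, Finset.mem_singleton] at this ⊢
            exact this.resolve_right fun hlj => B.mem_supp.mp hl (hlj ▸ h)
          by_cases h0 : B.co (ap k s) j = 0
          · refine ⟨s, fun h => B.two ?_, Finset.subset_union_left, red _ hks h0⟩
            rw [← hss, h, ip_zero_left]
          · refine ⟨B.co (ap k t) j • s - B.co (ap k s) j • t, fun h => h0 ?_, ?_, red _ ?_ ?_⟩
            · have := congrArg (fun y => B.ip y t) h
              simp only [ip_sub_left, ip_smul_left, hst, htt, ip_zero_left, mul_zero, zero_sub, neg_eq_zero] at this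
              exact (mul_eq_zero.mp this).resolve_right B.two
            · exact (B.supp_sub_subset _ _).trans
                (Finset.union_subset_union (B.supp_smul_subset _ _) (B.supp_smul_subset _ _))
            · rw [map_sub, map_smul, map_smul]
              exact (B.supp_sub_subset _ _).trans (Finset.union_subset ((B.supp_smul_subset _ _).trans hks)
                ((B.supp_smul_subset _ _).trans hkt))
            · rw [map_sub, map_smul, map_smul, co_sub, co_smul, co_smul]; ring
        refine B.no_short_line hM hNF hT hkK hkT hkm hw0 ?_ hiT hwz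
        have := Finset.card_le_card hwsupp
        have := Finset.card_union_le (B.supp s) (B.supp t)
        rw [B.supp_root_eq hab hε, B.supp_root_eq hce hε', Finset.card_pair hab, Finset.card_pair hce] at *
        omega
    · have hzK : z ∈ K ∧ B.Fix T z ∧ ∀ x, ∃ α β : F, B.supp (ap z x - x - (α • u + β • v)) ⊆ {i, j} := by
        clear hz1 hz2 hzd hzd'
        induction hz using Subgroup.closure_induction with
        | mem x hx =>
          rcases hx with rfl | rfl
          · refine ⟨hdK, hdT, fun x => ⟨0, 0, fun l hl => ?_⟩⟩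
            rw [mem_supp] at hl
            simp only [zero_smul, add_zero, sub_zero, co_sub, hd, B.co_d hji.symm] at hl
            by_contra hlij
            simp only [Finset.mem_insert, Finset.mem_singleton] at hlij
            rw [if_neg hlij, sub_self] at hl
            exact hl rfl
          · refine ⟨hd'K, hd'T, fun x => ⟨-B.ip u x, -B.ip v x, ?_⟩⟩
            rw [hd'ap, show x - B.ip u x • u - B.ip v x • v - x - (-B.ip u x • u + -B.ip v x • v) = 0 by module,
              B.supp_eq_empty.mpr rfl]
            exact Finset.empty_subset _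
        | one => exact ⟨K.one_mem, B.fix_one, fun x => ⟨0, 0, by
            rw [ap_one]; simp [B.supp_eq_empty.mpr rfl]⟩⟩
        | mul x y _ _ hx hy =>
          refine ⟨K.mul_mem hx.1 hy.1, B.fix_mul hx.2.1 hy.2.1, fun w => ?_⟩
          obtain ⟨α, β, h1⟩ := hy.2.2 w
          obtain ⟨α', β', h2⟩ := hx.2.2 (ap y w)
          refine ⟨α + α', β + β', ?_⟩
          rw [ap_mul, show ap x (ap y w) - w - ((α + α') • u + (β + β') • v) =
            (ap x (ap y w) - ap y w - (α' • u + β' • v)) + (ap y w - w - (α • u + β • v)) by module]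
          exact (B.supp_add_subset _ _).trans (Finset.union_subset h2 h1)
        | inv x _ hx =>
          refine ⟨K.inv_mem hx.1, B.fix_inv hx.2.1, fun w => ?_⟩
          obtain ⟨α, β, h1⟩ := hx.2.2 (ap x⁻¹ w)
          refine ⟨-α, -β, ?_⟩
          rw [ap_ap_inv] at h1
          rw [show ap x⁻¹ w - w - (-α • u + -β • v) = -(w - ap x⁻¹ w - (α • u + β • v)) by module, B.supp_neg]
          exact h1
      obtain ⟨hzK, hzT, hzW⟩ := hzK
      have hzP : ∀ l, l = i ∨ l = j → B.supp (ap z (B.b l)) ⊆ {i, j} := fun l hl => hdneg _ (by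
        rw [← ap_mul, ← hzd, ap_mul, hdP _ (by rw [supp_b]; simpa using hl), map_neg])
      have hzM : B.Mono z := by
        by_contra hzM
        refine B.col_short hM hNF hT hzK hzT hzM hiT ?_
        have := Finset.card_le_card (hzP i (Or.inl rfl))
        have := (Finset.card_le_two : ({i, j} : Finset κ).card ≤ 2)
        omega
      by_cases hmove : ∃ k, k ≠ i ∧ k ≠ j ∧ ap z (B.b k) ≠ B.b k
      · obtain ⟨k, hki, hkj, hk⟩ := hmove
        haveI : Nonempty κ := ⟨k⟩
        obtain ⟨k', hk'⟩ := Finset.card_le_one_iff_subset_singleton.mp (hzM k)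
        obtain ⟨α, β, hy⟩ := hzW (B.b k)
        refine ⟨α, β, fun h0 => ?_, k, k', fun l hl => ?_⟩
        · rw [h0, sub_zero] at hy
          have hzk : B.co (ap z (B.b k)) k = 1 := by
            have := B.co_eq_zero hy (i := k) (by simp [hki, hkj])
            rwa [co_sub, co_b, if_pos rfl, sub_eq_zero] at this
          have hkk : k = k' := Finset.mem_singleton.mp (hk' (B.mem_supp.mpr (by rw [hzk]; exact one_ne_zero)))
          subst hkk
          exact hk (by rw [B.eq_smul_b hk', hzk, one_smul])
        · by_contra hlS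
          simp only [Finset.mem_insert, Finset.mem_singleton, not_or] at hlS
          apply B.mem_supp.mp hl
          have h := B.co_eq_zero hy (i := l) (by simp [hlS.1, hlS.2.1])
          rw [co_sub, co_sub, co_b, if_neg (Ne.symm hlS.2.2.1),
            B.co_eq_zero hk' (by simpa using hlS.2.2.2)] at h
          linear_combination -h
      · push Not at hmove
        have hzeq : z = d := by
          have hdet : detHom Q z = 1 := hom_eq_one_of_omega Q _ (hKO hzK)
          have hm1 : (-1 : Fˣ) ≠ 1 := fun h => B.two (by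
            have := congrArg Units.val h; simp at this; linear_combination -this)
          haveI : Nonempty κ := ⟨i⟩
          have cls : ∀ l, l = i ∨ l = j → ∃ (σ : F) (o : κ), σ * σ = 1 ∧ (o = i ∨ o = j) ∧ ap z (B.b l) = σ • B.b o := by
            intro l hl
            obtain ⟨o, ho⟩ := Finset.card_le_one_iff_subset_singleton.mp (hzM l)
            have he := B.eq_smul_b ho
            refine ⟨_, o, ?_, ?_, he⟩
            · have := B.ip_ap z (B.b l) (B.b l)
              rw [he, ip_smul_left, ip_smul_right, ip_b_self, mul_one] at this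
              rw [this, ip_b_self]
            · have hne : ap z (B.b l) ≠ 0 := fun h0 =>
                B.b_ne_zero l (ap_injective z (h0.trans (map_zero (ap z)).symm))
              obtain ⟨o', ho'⟩ := B.supp_nonempty hne
              have h1 := hzP l hl ho'
              rw [Finset.mem_singleton.mp (ho ho')] at h1
              simpa using h1
          have hext : ∀ r, ap z (B.b i) = ap r (B.b i) → ap z (B.b j) = ap r (B.b j) →
              (∀ l, l ≠ i → l ≠ j → ap r (B.b l) = B.b l) → z = r := fun r h1 h2 h3 => ap_ext fun x => by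
            have : ap z = ap r := B.b.ext fun l => by
              by_cases hli : l = i
              · subst hli; exact h1
              by_cases hlj : l = j
              · subst hlj; exact h2
              rw [hmove l hli hlj, h3 l hli hlj]
            rw [this]
          obtain ⟨σ, o, hσ, ho, hzi⟩ := cls i (Or.inl rfl)
          obtain ⟨σ', o', hσ', ho', hzj⟩ := cls j (Or.inr rfl)
          have hoo : o ≠ o' := fun h => by
            have := B.ip_ap z (B.b i) (B.b j)
            rw [hzi, hzj, h, ip_smul_left, ip_smul_right, ip_b_self, B.ip_b_ne hji.symm, mul_one] at this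
            rcases mul_eq_zero.mp this with h | h
            · rw [h, mul_zero] at hσ; exact zero_ne_one hσ
            · rw [h, mul_zero] at hσ'; exact zero_ne_one hσ'
          rcases ho with rfl | rfl
          · obtain rfl : o' = j := ho'.resolve_left (Ne.symm hoo)
            rcases sq_one_cases hσ with rfl | rfl <;> rcases sq_one_cases hσ' with rfl | rfl
            · exact absurd (hext 1 (by rw [hzi, ap_one, one_smul]) (by rw [hzj, ap_one, one_smul])
                (fun l _ _ => ap_one _)) hz1
            · exfalso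
              rw [hext (rr Q (B.b o')) (by rw [hzi, B.rr_b_b, if_neg hji.symm, one_smul])
                (by rw [hzj, B.rr_b_b, if_pos rfl, neg_one_smul]) (fun l _ hl => by rw [B.rr_b_b, if_neg hl]),
                detHom_rr _ (B.q_ne (hne1 _))] at hdet
              exact hm1 hdet
            · exfalso
              rw [hext (rr Q (B.b o)) (by rw [hzi, B.rr_b_b, if_pos rfl, neg_one_smul])
                (by rw [hzj, B.rr_b_b, if_neg hji, one_smul]) (fun l hl _ => by rw [B.rr_b_b, if_neg hl]),
                detHom_rr _ (B.q_ne (hne1 _))] at hdet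
              exact hm1 hdet
            · refine hext d ?_ ?_ fun l hli hlj => ?_
              · rw [hzi, hdP _ (by rw [supp_b]; simp), neg_one_smul]
              · rw [hzj, hdP _ (by rw [supp_b]; simp), neg_one_smul]
              · exact B.ext_co fun m => by
                  rw [hd, B.co_d hji.symm, co_b]
                  split_ifs with h1 h2 <;> first | simp | skip
                  subst h2
                  exact absurd h1 (by simp [hli, hlj])
          · obtain rfl : o' = i := ho'.resolve_right (Ne.symm hoo)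
            exfalso
            have hz' : σ' = σ := by
              have h := congrArg (fun w => ap w (B.b o')) hz2
              simp only [ap_mul, ap_one, hzi, map_smul, hzj, smul_smul] at h
              have := congrArg (fun w => B.co w o') h
              simp only [co_smul, co_b, ↓reduceIte, mul_one] at this
              linear_combination σ * this - σ' * hσ
            rw [hz'] at hzj
            rw [hext (rr Q (B.b o' - σ • B.b o)) (by rw [hzi, B.rr_root hji.symm hσ, if_pos rfl])
                (by rw [hzj, B.rr_root hji.symm hσ, if_neg hji, if_pos rfl])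
                (fun l hli hlj => by rw [B.rr_root hji.symm hσ, if_neg hli, if_neg hlj]),
              detHom_rr _ (B.q_ne (by rw [B.ip_root hji.symm hσ]; exact B.two))] at hdet
            exact hm1 hdet
        rw [hzeq] at hzd'
        have hP : B.supp (ap d' (B.b i)) ⊆ {i, j} := hdneg _ (by
          rw [← ap_mul, hzd', ap_mul, hdP _ (by rw [supp_b]; simp), map_neg])
        refine ⟨B.ip u (B.b i), B.ip v (B.b i), fun h0 => ?_, i, i, fun l hl => ?_⟩
        · have h1 := congrArg (fun w => B.ip w u) h0
          simp only [ip_add_left, ip_smul_left, huu, B.ip_comm v u, huv, mul_zero, add_zero, ip_zero_left] at h1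
          rw [B.ip_b_right] at h1
          exact B.mem_supp.mp hi ((mul_eq_zero.mp h1).resolve_right B.two)
        · by_contra hlS
          simp only [Finset.mem_insert, Finset.mem_singleton, not_or] at hlS
          apply B.mem_supp.mp hl
          have h := B.co_eq_zero hP (i := l) (by simp [hlS.1, hlS.2.1])
          rw [hd'ap, co_sub, co_sub, co_b, if_neg (Ne.symm hlS.1)] at h
          rw [co_add]
          linear_combination -h
  have hcard4 : ∀ {i j k k' : κ} {y : ι → F}, B.supp y ⊆ {i, j, k, k'} → (B.supp y).card ≤ 4 := fun h =>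
    (Finset.card_le_card h).trans ((Finset.card_insert_le _ _).trans (Nat.add_le_add_right Finset.card_le_three 1))
  obtain ⟨i₀, hi₀⟩ := Finset.card_pos.mp (by omega : 0 < (B.supp u).card)
  obtain ⟨j₀, hj₀, hj₀i⟩ := Finset.exists_mem_ne (s := T) (by omega) i₀
  obtain ⟨α, β, hy0, k₀, k₀', hy⟩ := step i₀ hi₀ j₀ hj₀ hj₀i
  set Y := B.supp (α • u + β • v) with hY
  have hY4 : Y.card ≤ 4 := hcard4 hy
  obtain ⟨i, hi, hiY⟩ := Finset.exists_mem_notMem_of_card_lt_card (s := Y) (t := B.supp u) (by omega)
  obtain ⟨j, hj, hjY⟩ := Finset.exists_mem_notMem_of_card_lt_card (s := insert i Y) (t := T) (by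
    have := Finset.card_insert_le i Y; omega)
  rw [Finset.mem_insert, not_or] at hjY
  obtain ⟨α', β', hy0', k, k', hy'⟩ := step i hi j hj hjY.1
  have hdep := hshort2 α β α' β' hY4 (hcard4 hy')
  have hY2 : Y.card ≤ 2 := by
    refine (Finset.card_le_card fun l hl => ?_).trans (Finset.card_le_two (a := k) (b := k'))
    have hl' : l ∈ B.supp (α' • u + β' • v) := by
      rw [mem_supp]
      intro h0
      have hl2 := B.mem_supp.mp hl
      simp only [co_add, co_smul] at h0 hl2
      rcases eq_or_ne α' 0 with ha0 | ha0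
      · have hb' : β' ≠ 0 := fun h => hy0' (by rw [h, ha0]; simp)
        rw [ha0, zero_mul] at hdep
        have ha : α = 0 := (mul_eq_zero.mp hdep).resolve_right hb'
        rw [ha0, zero_mul, zero_add] at h0
        rw [ha, zero_mul, zero_add, (mul_eq_zero.mp h0).resolve_left hb', mul_zero] at hl2
        exact hl2 rfl
      · apply hl2
        have : α' * (α * B.co u l + β * B.co v l) = 0 := by linear_combination α * h0 - B.co v l * hdep
        exact (mul_eq_zero.mp this).resolve_left ha0
    have h1 := hy' hl'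
    simp only [Finset.mem_insert, Finset.mem_singleton] at h1 ⊢
    rcases h1 with rfl | rfl | h | h
    · exact absurd hl hiY
    · exact absurd hl hjY.2
    · exact Or.inl h
    · exact Or.inr h
  have hyT : Y ⊆ T := (B.supp_add_subset _ _).trans
    (Finset.union_subset ((B.supp_smul_subset _ _).trans huT) ((B.supp_smul_subset _ _).trans hvT))
  have hα : α ≠ 0 := fun h => by
    have hb : β ≠ 0 := fun hb => hy0 (by rw [h, hb]; simp)
    rw [hY, h, zero_smul, zero_add, B.supp_smul hb] at hY4
    omega
  have hβ : β ≠ 0 := fun h => by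
    rw [hY, h, zero_smul, add_zero, B.supp_smul hα] at hY4
    omega
  refine ⟨α • s + β • t, Y, ?_, ?_, ?_⟩
  · have hε0 : ε ≠ 0 := fun h => by rw [h, mul_zero] at hε; exact zero_ne_one hε
    have hε0' : ε' ≠ 0 := fun h => by rw [h, mul_zero] at hε'; exact zero_ne_one hε'
    ext l
    rw [mem_supp]
    simp only [hsdef, htdef, co_add, co_smul, co_sub, co_b, Finset.mem_insert, Finset.mem_singleton]
    by_cases h1 : l = a
    · subst h1; simp [hab.symm, hac.symm, hae.symm, hα]
    by_cases h2 : l = b
    · subst h2; simp [hab, hbc.symm, hbe.symm, hε0, hα]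
    by_cases h3 : l = c
    · subst h3; simp [hac, hbc, hce.symm, hβ]
    by_cases h4 : l = e
    · subst h4; simp [hae, hbe, hce, hε0', hβ]
    simp [h1, h2, h3, h4, Ne.symm h1, Ne.symm h2, Ne.symm h3, Ne.symm h4]
  · rw [Finset.mem_powersetCard]
    refine ⟨hyT, ?_⟩
    by_contra hne
    have hY1 : Y.card ≤ 1 := by omega
    haveI : Nonempty κ := ⟨a⟩
    obtain ⟨o, ho⟩ := B.supp_nonempty hy0
    refine B.no_short_line hM hNF hT hg hgT hgM (x := α • s + β • t) ?_ ?_ (hyT ho) ?_
    · intro h
      apply hy0
      rw [hu, hv, ← map_smul, ← map_smul, ← map_add, h, map_zero]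
    · have := Finset.card_le_card ((B.supp_add_subset (α • s) (β • t)).trans
        (Finset.union_subset_union (B.supp_smul_subset _ _) (B.supp_smul_subset _ _)))
      have := Finset.card_union_le (B.supp s) (B.supp t)
      rw [B.supp_root_eq hab hε, B.supp_root_eq hce hε', Finset.card_pair hab, Finset.card_pair hce] at *
      omega
    · rw [map_add, map_smul, map_smul]
      exact fun l hl => Finset.mem_singleton.mpr (Finset.card_le_one.mp hY1 l hl o ho)
  · rw [map_add, map_smul, map_smul]

include hM hKO in
/-- Some element of `K` outside the monomial group maps a frame line to a frame line. -/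
theorem not_NF (hT : 9 ≤ T.card) {g : Cfsg.isometryGroup F (⇑Q)} (hg : g ∈ K) (hgT : B.Fix T g)
    (hgM : ¬ B.Mono g) : ¬ B.NF K T := by
  classical
  intro hNF
  have hex : ∀ A ∈ T.powersetCard 4, ∃ x P, B.supp x = A ∧ P ∈ T.powersetCard 2 ∧ B.supp (ap g x) = P := by
    intro A hA
    rw [Finset.mem_powersetCard] at hA
    obtain ⟨a, A', ha, rfl, hA'⟩ := Finset.card_eq_succ.mp hA.2
    obtain ⟨b, c, e, hbc, hbe, hce, rfl⟩ := Finset.card_eq_three.mp hA'
    simp only [Finset.mem_insert, Finset.mem_singleton, not_or] at ha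
    have h := hA.1
    simp only [Finset.insert_subset_iff, Finset.singleton_subset_iff] at h
    exact B.quad_pair hM hKO hNF hT hg hgT hgM h.1 h.2.1 h.2.2.1 h.2.2.2 ha.1 ha.2.1 ha.2.2 hbc hbe hce
  choose! x P hxA hPm hxP using hex
  have hlt : (T.powersetCard 2).card * 2 < (T.powersetCard 4).card := by
    rw [Finset.card_powersetCard, Finset.card_powersetCard]
    have h := Nat.choose_mul (n := T.card) (k := 4) (s := 2) (by norm_num)
    have h7 : Nat.choose 7 2 ≤ (T.card - 2).choose (4 - 2) := Nat.choose_le_choose 2 (by omega)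
    have h21 : Nat.choose 7 2 = 21 := by decide
    have h42 : Nat.choose 4 2 = 6 := by decide
    have hpos : 0 < T.card.choose 2 := Nat.choose_pos (by omega)
    rw [h42] at h
    nlinarith
  obtain ⟨P₀, -, hP₀⟩ :=
    Finset.exists_lt_card_fiber_of_mul_lt_card_of_maps_to (f := P) (fun A hA => hPm A hA) hlt
  obtain ⟨A₁, A₂, A₃, hA₁, hA₂, hA₃, h12, h13, h23⟩ := Finset.two_lt_card_iff.mp hP₀
  simp only [Finset.mem_filter] at hA₁ hA₂ hA₃
  -- two of three four element sets meet, unless `T` is large
  obtain ⟨A, hA, A', hA', hne, hPP, hUcard⟩ : ∃ A ∈ T.powersetCard 4, ∃ A' ∈ T.powersetCard 4,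
      A ≠ A' ∧ P A = P A' ∧ (A ∪ A').card + 2 ≤ T.card := by
    have c4 : ∀ {A : Finset κ}, A ∈ T.powersetCard 4 → A ⊆ T ∧ A.card = 4 := fun h => Finset.mem_powersetCard.mp h
    by_contra hc
    push Not at hc
    have d12 := hc A₁ hA₁.1 A₂ hA₂.1 h12 (hA₁.2.trans hA₂.2.symm)
    have d13 := hc A₁ hA₁.1 A₃ hA₃.1 h13 (hA₁.2.trans hA₃.2.symm)
    have d23 := hc A₂ hA₂.1 A₃ hA₃.1 h23 (hA₂.2.trans hA₃.2.symm)
    have u12 := Finset.card_union_add_card_inter A₁ A₂
    have u13 := Finset.card_union_add_card_inter A₁ A₃
    have u23 := Finset.card_union_add_card_inter A₂ A₃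
    have := Finset.card_le_card (Finset.union_subset (Finset.union_subset (c4 hA₁.1).1 (c4 hA₂.1).1) (c4 hA₃.1).1)
    have u123 := Finset.card_union_add_card_inter (A₁ ∪ A₂) A₃
    have := Finset.card_le_card (show (A₁ ∪ A₂) ∩ A₃ ⊆ A₁ ∩ A₃ ∪ A₂ ∩ A₃ by rw [Finset.union_inter_distrib_right])
    have := Finset.card_union_le (A₁ ∩ A₃) (A₂ ∩ A₃)
    have := (c4 hA₁.1).2
    have := (c4 hA₂.1).2
    have := (c4 hA₃.1).2
    omega
  obtain ⟨p, r, hpr, hP⟩ := Finset.card_eq_two.mp (Finset.mem_powersetCard.mp (hPm A hA)).2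
  have hpT : p ∈ T := (Finset.mem_powersetCard.mp (hPm A hA)).1 (by rw [hP]; simp)
  have s1 : B.supp (ap g (x A)) = {p, r} := (hxP A hA).trans hP
  have s2 : B.supp (ap g (x A')) = {p, r} := by rw [hxP A' hA', ← hPP, hP]
  set a1 := B.co (ap g (x A)) r
  set a2 := B.co (ap g (x A')) r
  have ha1 : a1 ≠ 0 := B.mem_supp.mp (by rw [s1]; simp)
  have ha2 : a2 ≠ 0 := B.mem_supp.mp (by rw [s2]; simp)
  set w := a2 • x A - a1 • x A' with hw
  have hw0 : w ≠ 0 := fun h => by
    apply hne
    have h' : a2 • x A = a1 • x A' := sub_eq_zero.mp h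
    rw [← hxA A hA, ← hxA A' hA', ← B.supp_smul ha2 (x A), h', B.supp_smul ha1]
  refine B.no_short_line hM hNF hT hg hgT hgM hw0 ?_ hpT ?_
  · have := Finset.card_le_card ((B.supp_sub_subset (a2 • x A) (a1 • x A')).trans
      (Finset.union_subset_union (B.supp_smul_subset _ _) (B.supp_smul_subset _ _)))
    have := Finset.card_union_le (B.supp (x A)) (B.supp (x A'))
    rw [← hw, hxA A hA, hxA A' hA'] at *
    omega
  · intro l hl
    rw [hw, map_sub, map_smul, map_smul, mem_supp, co_sub, co_smul, co_smul] at hl
    rw [Finset.mem_singleton]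
    by_contra hlp
    apply hl
    rcases eq_or_ne l r with rfl | hlr
    · simp only [a1, a2]; ring
    · rw [B.co_eq_zero s1.subset (by simp [hlp, hlr]), B.co_eq_zero s2.subset (by simp [hlp, hlr])]; ring

include hM hKO in
/-- Some element of `K` outside the monomial group fixes all but at most eight frame vectors. -/
theorem descend : ∀ (T : Finset κ), ∀ g ∈ K, B.Fix T g → ¬ B.Mono g →
    ∃ T' : Finset κ, T'.card ≤ 8 ∧ ∃ g' ∈ K, B.Fix T' g' ∧ ¬ B.Mono g' := by
  intro T
  induction hn : T.card using Nat.strong_induction_on generalizing T with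
  | _ n ih =>
  intro g hg hgT hgM
  by_cases h9 : n ≤ 8
  · exact ⟨T, hn ▸ h9, g, hg, hgT, hgM⟩
  have hnot := B.not_NF hM hKO (T := T) (by omega) hg hgT hgM
  unfold NF at hnot
  push Not at hnot
  obtain ⟨k, hk, hkT, hkM, i, hi, j, hj⟩ := hnot
  have hkb : B.supp (ap k (B.b i)) ⊆ T := B.fix_supp_b hkT hi
  have he := B.eq_smul_b hj
  set σ := B.co (ap k (B.b i)) j with hσdef
  have hσ : σ * σ = 1 := by
    have := B.ip_ap k (B.b i) (B.b i)
    rw [he, ip_smul_left, ip_smul_right, ip_b_self, mul_one] at this
    rw [this, ip_b_self]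
  have hjT : j ∈ T := hkb (B.mem_supp.mpr (fun h => by
    rw [← hσdef] at h; rw [h, mul_zero] at hσ; exact zero_ne_one hσ))
  obtain ⟨c, hc, hc'⟩ := Finset.exists_mem_notMem_of_card_lt_card (s := ({i, j} : Finset κ)) (t := T) (by
    have := (Finset.card_le_two : ({i, j} : Finset κ).card ≤ 2); omega)
  obtain ⟨e, he', he''⟩ := Finset.exists_mem_notMem_of_card_lt_card (s := ({i, j, c} : Finset κ)) (t := T) (by
    have := Finset.card_le_three (a := i) (b := j) (c := c); omega)
  simp only [Finset.mem_insert, Finset.mem_singleton, not_or] at hc' he''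
  obtain ⟨m, hmK, hmT, hmM, hmj⟩ : ∃ m ∈ K, B.Fix T m ∧ B.Mono m ∧ ap m (σ • B.b j) = B.b i := by
    by_cases hij : i = j
    · subst hij
      rcases sq_one_cases hσ with h | h
      · exact ⟨1, K.one_mem, B.fix_one, B.mono_one, by rw [ap_one, h, one_smul]⟩
      · refine ⟨B.d i c, B.d_in hM i c, B.fix_d hi hc, B.mono_d i c, ?_⟩
        rw [map_smul, h, neg_one_smul, OFrame.d, ap_mul, B.rr_b_b, if_neg (Ne.symm hc'.1), B.rr_b_b, if_pos rfl,
          neg_neg]
    · refine ⟨rr Q (B.b i - σ • B.b j) * rr Q (B.b c - (1 : F) • B.b e),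
        B.root_pair_in hM hij (Ne.symm he''.2.2) hσ (one_mul 1),
        B.fix_mul (B.fix_rr ((B.supp_root _ _ _).trans (by simp [Finset.insert_subset_iff, hi, hjT])))
          (B.fix_rr ((B.supp_root _ _ _).trans (by simp [Finset.insert_subset_iff, hc, he']))),
        B.mono_mul (B.mono_root hij hσ) (B.mono_root (Ne.symm he''.2.2) (one_mul 1)), ?_⟩
      rw [map_smul, ap_mul, B.rr_root (Ne.symm he''.2.2) (one_mul 1), if_neg (Ne.symm hc'.2),
        if_neg (Ne.symm he''.2.1), B.rr_root hij hσ, if_neg (Ne.symm hij), if_pos rfl, smul_smul, hσ, one_smul]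
  refine ih (T.erase i).card (by rw [← hn]; exact Finset.card_erase_lt_of_mem hi) (T.erase i) rfl (m * k)
    (K.mul_mem hmK hk) (fun l hl => ?_) fun h => hkM ?_
  · rcases eq_or_ne l i with rfl | hne
    · rw [ap_mul, he, hmj]
    · exact B.fix_mul hmT hkT l fun hlT => hl (Finset.mem_erase.mpr ⟨hne, hlT⟩)
  · have := B.mono_mul (B.mono_inv hmM) h
    rwa [← mul_assoc, inv_mul_cancel, one_mul] at this

end OFrame

end Cfsg.Lib.Classical.OFr
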