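import Mathlib
import Cfsg.Agent.Classical.Orth.Frame.Line
import Cfsg.Agent.Classical.Orth.SingPairMax

set_option autoImplicit false
set_option linter.unusedVariables false
set_option linter.unusedSimpArgs false
set_option linter.unusedSectionVars false
set_option linter.style.haveILetI false
set_option linter.flexible false

/-! Unit vectors whose reflection pairs lie in an overgroup, and lines of them. -/

namespace Cfsg.Lib.Classical.OFr

open Matrix Cfsg.Lib.Classical.Refl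

universe u w

theorem natCast_surj {F : Type u} [Field F] [Fintype F] (hp : (Fintype.card F).Prime) (t : F) :
    ∃ m : ℕ, (m : F) = t := by
  haveI := Fact.mk hp
  haveI : CharP F (Fintype.card F) := charP_of_card_eq_prime rfl
  exact ⟨((ZMod.ringEquiv F rfl).symm t).val, by
    conv_rhs => rw [← (ZMod.ringEquiv F rfl).apply_symm_apply t]
    rw [← map_natCast (ZMod.ringEquiv F rfl), ZMod.natCast_zmod_val]⟩

namespace OFrame

variable {F : Type u} [Field F] [Fintype F] [DecidableEq F] {ι : Type} [Fintype ι] [DecidableEq ι]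
  {Q : QuadraticForm F (ι → F)} {κ : Type w} [Fintype κ] [DecidableEq κ] (B : OFrame Q κ)
  {K : Subgroup (Cfsg.isometryGroup F (⇑Q))} {o : κ}

variable (K o) in
/-- The unit vectors paired with `o` in `K`. -/
def Rs : Set (ι → F) := {v | B.ip v v = 1 ∧ rr Q v * rr Q (B.b o) ∈ K}

theorem rs_unit {v : ι → F} (h : v ∈ B.Rs K o) : B.ip v v = 1 := h.1

theorem rs_ne {v : ι → F} (h : v ∈ B.Rs K o) : B.ip v v ≠ 0 := by rw [B.rs_unit h]; exact one_ne_zero

theorem rs_pair {v x : ι → F} (hv : v ∈ B.Rs K o) (hx : x ∈ B.Rs K o) : rr Q v * rr Q x ∈ K := by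
  have h := K.mul_mem hv.2 (K.inv_mem hx.2)
  rw [_root_.mul_inv_rev, rr_inv, rr_inv] at h
  rwa [show rr Q v * rr Q (B.b o) * (rr Q (B.b o) * rr Q x) = rr Q v * rr Q x by
    rw [mul_assoc, ← mul_assoc (rr Q (B.b o)), rr_mul_self, one_mul]] at h

theorem rs_neg {v : ι → F} (hv : v ∈ B.Rs K o) : -v ∈ B.Rs K o :=
  ⟨by rw [ip_neg_left, ip_neg_right, neg_neg, B.rs_unit hv], by rw [rr_neg]; exact hv.2⟩

theorem rs_of_neg {v : ι → F} (hv : -v ∈ B.Rs K o) : v ∈ B.Rs K o := by simpa using B.rs_neg hv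

theorem rs_refl {v x : ι → F} (hv : v ∈ B.Rs K o) (hx : x ∈ B.Rs K o) : ap (rr Q v) x ∈ B.Rs K o := by
  refine ⟨by rw [B.ip_ap, B.rs_unit hx], ?_⟩
  rw [← rr_conj, rr_inv]
  have := K.mul_mem (B.rs_pair hv hx) hv.2
  rwa [mul_assoc (rr Q v * rr Q x)]

theorem rs_refl_iff {v x : ι → F} (hv : v ∈ B.Rs K o) : ap (rr Q v) x ∈ B.Rs K o ↔ x ∈ B.Rs K o :=
  ⟨fun h => by simpa [← ap_mul, rr_mul_self, ap_one] using B.rs_refl hv h, B.rs_refl hv⟩

theorem rs_map {g : Cfsg.isometryGroup F (⇑Q)} (hg : g ∈ K) (hgo : ap g (B.b o) ∈ B.Rs K o) {x : ι → F}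
    (hx : x ∈ B.Rs K o) : ap g x ∈ B.Rs K o := by
  refine ⟨by rw [B.ip_ap, B.rs_unit hx], ?_⟩
  have h := K.mul_mem (K.mul_mem (K.mul_mem hg hx.2) (K.inv_mem hg)) hgo.2
  rw [show g * (rr Q x * rr Q (B.b o)) * g⁻¹ = rr Q (ap g x) * rr Q (ap g (B.b o)) by
    rw [← rr_conj, ← rr_conj]; group] at h
  rwa [show rr Q (ap g x) * rr Q (ap g (B.b o)) * (rr Q (ap g (B.b o)) * rr Q (B.b o)) =
    rr Q (ap g x) * rr Q (B.b o) by rw [mul_assoc, ← mul_assoc (rr Q (ap g (B.b o))), rr_mul_self, one_mul]] at h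

theorem co_self_sq {v : ι → F} {l : κ} (h : B.supp v ⊆ {l}) (hv : B.ip v v = 1) : B.co v l * B.co v l = 1 := by
  rw [B.ip_supp h, Finset.sum_singleton] at hv; exact hv

variable (hM : ∀ g ∈ Cfsg.Omega F (⇑Q), B.Mono g → g ∈ K)

include hM in
theorem rs_b (l : κ) : B.b l ∈ B.Rs K o := ⟨B.ip_b_self l, B.d_in hM l o⟩

include hM in
theorem rs_line {v : ι → F} (hv : B.ip v v = 1) {l : κ} (h : B.supp v ⊆ {l}) : v ∈ B.Rs K o := by
  rw [B.eq_smul_b h]
  rcases mul_self_eq_one_iff.mp (B.co_self_sq h hv) with e | e <;> rw [e]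
  · rw [one_smul]; exact B.rs_b hM l
  · rw [neg_one_smul]; exact B.rs_neg (B.rs_b hM l)

include hM in
theorem rs_mono {g : Cfsg.isometryGroup F (⇑Q)} (hg : g ∈ K) (hgm : B.Mono g) {x : ι → F}
    (hx : x ∈ B.Rs K o) : ap g x ∈ B.Rs K o := by
  refine B.rs_map hg ?_ hx
  haveI : Nonempty κ := ⟨o⟩
  obtain ⟨l, hl⟩ := Finset.card_le_one_iff_subset_singleton.mp (hgm o)
  exact B.rs_line hM (by rw [B.ip_ap, ip_b_self]) hl

variable (K o) in
/-- A singular vector with a unit vector of `Rs` carrying a line of them. -/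
structure RPair (v x : ι → F) : Prop where
  sing : B.ip v v = 0
  perp : B.ip v x = 0
  line : ∀ t : F, x + t • v ∈ B.Rs K o

theorem rpair_mem {v x : ι → F} (h : B.RPair K o v x) : x ∈ B.Rs K o := by simpa using h.line 0

theorem rpair_map {v x : ι → F} {g : Cfsg.isometryGroup F (⇑Q)}
    (hR : ∀ y ∈ B.Rs K o, ap g y ∈ B.Rs K o) (h : B.RPair K o v x) : B.RPair K o (ap g v) (ap g x) :=
  ⟨by rw [B.ip_ap, h.sing], by rw [B.ip_ap, h.perp], fun t => by
    rw [← map_smul, ← map_add]; exact hR _ (h.line t)⟩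

theorem rpair_of (hp : (Fintype.card F).Prime) {v x : ι → F} (hv : B.ip v v = 0) (hvx : B.ip v x = 0)
    (hx : x ∈ B.Rs K o) (hxv : x + v ∈ B.Rs K o) : B.RPair K o v x := by
  refine ⟨hv, hvx, fun t => ?_⟩
  obtain ⟨m, rfl⟩ := natCast_surj hp t
  have key : ∀ a c : F, x + a • v ∈ B.Rs K o → x + c • v ∈ B.Rs K o → x + (2 * a - c) • v ∈ B.Rs K o := by
    intro a c ha hc
    have h := B.rs_neg (B.rs_refl ha hc)
    rw [B.rr_apply_one (B.rs_unit ha)] at h
    have e : B.ip (x + a • v) (x + c • v) = 1 := by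
      simp only [ip_add_left, ip_add_right, ip_smul_left, ip_smul_right, hv, hvx, B.ip_comm x v, B.rs_unit hx]
      ring
    rw [e] at h
    convert h using 1
    module
  induction m using Nat.strong_induction_on with
  | _ m ih =>
  match m with
  | 0 => simpa using hx
  | 1 => simpa using hxv
  | m + 2 =>
    rcases Nat.even_or_odd' m with ⟨k, rfl | rfl⟩
    · have := key _ 0 (ih (k + 1) (by omega)) (by simpa using hx)
      convert this using 3
      push_cast; ring
    · have := key _ 1 (ih (k + 2) (by omega)) (by simpa using hxv)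
      convert this using 3
      push_cast; ring

theorem siegelMap_ip (v z y : ι → F) :
    siegelMap Q v z y = y + (2 * B.c * B.ip v y) • z +
      (-(2 * B.c * B.ip z y) - B.c * B.ip z z * (2 * B.c * B.ip v y)) • v := by
  rw [siegelMap, B.polar_ip, B.polar_ip, B.q_ip]

theorem ap_siegelG {v z : ι → F} (hv : Q v = 0) (hvz : QuadraticMap.polar (⇑Q) v z = 0) (y : ι → F) :
    ap (siegelG Q hv hvz) y = y + (2 * B.c * B.ip v y) • z +
      (-(2 * B.c * B.ip z y) - B.c * B.ip z z * (2 * B.c * B.ip v y)) • v := by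
  rw [ap_apply, mat_siegelG, B.siegelMap_ip]

/-- The Siegel elements of a pair are pairs of reflections. -/
theorem rpair_siegel {v x : ι → F} (h : B.RPair K o v x) (a : F) (hv : Q v = 0)
    (hvx : QuadraticMap.polar (⇑Q) v (a • x) = 0) :
    siegelG Q hv hvx = rr Q x * rr Q (x + (a * Q x) • v) := by
  have hx := B.rpair_mem h
  have hQx : Q x ≠ 0 := B.q_ne (B.rs_ne hx)
  have hvx' : QuadraticMap.polar (⇑Q) v x = 0 := by rw [B.polar_ip, h.perp, mul_zero]
  refine ap_ext fun y => ?_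
  rw [ap_mul, rr_of _ (B.q_ne (B.rs_ne (h.line _))), rr_of x hQx, ap_apply, ap_apply, ap_apply, mat_siegelG]
  refine ((pair_eq Q hv hvx' hQx (a * Q x) y).trans ?_).symm
  rw [mul_assoc, mul_inv_cancel₀ hQx, mul_one]

theorem rpair_zset {v x : ι → F} (h : B.RPair K o v x) : x ∈ zset Q K v := by
  refine ⟨by rw [B.polar_ip, h.perp, mul_zero], fun hv a ha => ?_⟩
  rw [B.rpair_siegel h a hv ha]
  exact B.rs_pair (B.rpair_mem h) (h.line _)

/-- A vector of `Rs` seeing a pair carries a line. -/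
theorem rpair_other {v x y : ι → F} (h : B.RPair K o v x) (hy : y ∈ B.Rs K o) (hvy : B.ip v y = 0)
    (hxy : B.ip x y ≠ 0) : B.RPair K o v y := by
  refine ⟨h.sing, hvy, fun t => ?_⟩
  have hv : Q v = 0 := by rw [B.q_ip, h.sing, mul_zero]
  set a := -t / (2 * B.c * B.ip x y) with ha
  have hvx : QuadraticMap.polar (⇑Q) v (a • x) = 0 := by
    rw [QuadraticMap.polar_smul_right, B.polar_ip, h.perp, mul_zero, smul_zero]
  have hd : (2 * B.c * B.ip x y) ≠ 0 := mul_ne_zero (mul_ne_zero B.two B.hc) hxy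
  have e : ap (siegelG Q hv hvx) y = y + t • v := by
    rw [B.ap_siegelG, hvy, ip_smul_left]
    have : -(2 * B.c * (a * B.ip x y)) = t := by
      rw [ha, show 2 * B.c * (-t / (2 * B.c * B.ip x y) * B.ip x y) = -t by field_simp [B.hc, B.two, hxy], neg_neg]
    simp only [mul_zero, zero_smul, add_zero, sub_zero, this]
  rw [← e, B.rpair_siegel h a hv hvx, ap_mul]
  exact B.rs_refl (B.rpair_mem h) (B.rs_refl (h.line _) hy)

end OFrame

end Cfsg.Lib.Classical.OFr
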