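import Mathlib
import Cfsg.Agent.Classical.Orth.Frame.RSet
import Cfsg.Agent.Known.OmegaRank

set_option autoImplicit false
set_option linter.unusedVariables false
set_option linter.unusedSimpArgs false
set_option linter.unusedSectionVars false
set_option linter.style.haveILetI false
set_option linter.flexible false

/-! The isometries of a three-space keeping the unit vectors of an overgroup. -/

namespace Cfsg.Lib.Classical.OFr

open Matrix Cfsg.Lib.Classical.Refl

universe u w

variable {F : Type u} [Field F] [Fintype F] [DecidableEq F] {ι : Type} [Fintype ι] [DecidableEq ι]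
  {Q : QuadraticForm F (ι → F)} {κ : Type w} [Fintype κ] [DecidableEq κ] (B : OFrame Q κ)

/-- Two frame vectors and a third vector orthogonal to them. -/
structure Tri where
  a : κ
  b : κ
  u : ι → F
  hab : a ≠ b
  hu : B.ip u u = 1
  ha : 1 - B.co u a * B.co u a - B.co u b * B.co u b ≠ 0

namespace Tri

variable {B} (E : Tri B)

/-- The coordinate. -/
noncomputable def α : F := B.co E.u E.a

/-- The second coordinate. -/
noncomputable def β : F := B.co E.u E.b

/-- The norm of the third vector. -/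
noncomputable def D : F := 1 - E.α * E.α - E.β * E.β

/-- The third vector. -/
noncomputable def e' : ι → F := E.u - E.α • B.b E.a - E.β • B.b E.b

theorem hD : E.D ≠ 0 := E.ha

/-- The vectors of the space. -/
noncomputable def vec (p q r : F) : ι → F := p • B.b E.a + q • B.b E.b + r • E.e'

theorem co_e'_a : B.co E.e' E.a = 0 := by
  simp only [e', α, β, OFrame.co_sub, OFrame.co_smul, OFrame.co_b, E.hab.symm, ↓reduceIte]; ring

theorem co_e'_b : B.co E.e' E.b = 0 := by
  simp only [e', α, β, OFrame.co_sub, OFrame.co_smul, OFrame.co_b, E.hab, ↓reduceIte]; ring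

theorem ip_e' : B.ip E.e' E.e' = E.D := by
  simp only [e', D, α, β, OFrame.ip_sub_left, OFrame.ip_sub_right, OFrame.ip_smul_left, OFrame.ip_smul_right, E.hu,
    OFrame.ip_b_left, OFrame.ip_b_right, OFrame.co_sub, OFrame.co_smul, OFrame.co_b, E.hab, E.hab.symm, ↓reduceIte]
  ring

theorem co_vec_a (p q r : F) : B.co (E.vec p q r) E.a = p := by
  simp [vec, OFrame.co_add, OFrame.co_smul, OFrame.co_b, E.co_e'_a, E.hab.symm]

theorem co_vec_b (p q r : F) : B.co (E.vec p q r) E.b = q := by
  simp [vec, OFrame.co_add, OFrame.co_smul, OFrame.co_b, E.co_e'_b, E.hab]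

theorem co_vec (p q r : F) {l : κ} (hla : l ≠ E.a) (hlb : l ≠ E.b) : B.co (E.vec p q r) l = r * B.co E.u l := by
  simp [vec, e', OFrame.co_add, OFrame.co_sub, OFrame.co_smul, OFrame.co_b, hla.symm, hlb.symm]

theorem ip_e'_vec (p q r : F) : B.ip E.e' (E.vec p q r) = E.D * r := by
  simp only [vec, OFrame.ip_add_right, OFrame.ip_smul_right, OFrame.ip_b_right, E.co_e'_a, E.co_e'_b, E.ip_e']
  ring

theorem ip_vec (p q r : F) (y : ι → F) :
    B.ip (E.vec p q r) y = p * B.co y E.a + q * B.co y E.b + r * B.ip E.e' y := by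
  simp only [vec, OFrame.ip_add_left, OFrame.ip_smul_left, OFrame.ip_b_left]

theorem ip_vec_vec (p q r p' q' r' : F) :
    B.ip (E.vec p q r) (E.vec p' q' r') = p * p' + q * q' + E.D * (r * r') := by
  rw [E.ip_vec, E.co_vec_a, E.co_vec_b, E.ip_e'_vec]; ring

theorem vec_add (p q r p' q' r' : F) : E.vec p q r + E.vec p' q' r' = E.vec (p + p') (q + q') (r + r') := by
  simp only [vec]; module

theorem vec_sub (p q r p' q' r' : F) : E.vec p q r - E.vec p' q' r' = E.vec (p - p') (q - q') (r - r') := by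
  simp only [vec]; module

theorem vec_smul (t p q r : F) : t • E.vec p q r = E.vec (t * p) (t * q) (t * r) := by
  simp only [vec]; module

theorem vec_neg (p q r : F) : -E.vec p q r = E.vec (-p) (-q) (-r) := by
  simp only [vec]; module

theorem vec_zero : E.vec 0 0 0 = 0 := by simp [vec]

theorem vec_a : B.b E.a = E.vec 1 0 0 := by simp [vec]

theorem vec_b : B.b E.b = E.vec 0 1 0 := by simp [vec]

theorem vec_e' : E.e' = E.vec 0 0 1 := by simp [vec]

theorem vec_u : E.u = E.vec E.α E.β 1 := by simp only [vec, e']; module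

theorem vec_inj {p q r p' q' r' : F} (h : E.vec p q r = E.vec p' q' r') : p = p' ∧ q = q' ∧ r = r' := by
  refine ⟨?_, ?_, ?_⟩
  · rw [← E.co_vec_a p q r, h, E.co_vec_a]
  · rw [← E.co_vec_b p q r, h, E.co_vec_b]
  · have := E.ip_e'_vec p q r
    rw [h, E.ip_e'_vec] at this
    exact (mul_left_cancel₀ E.hD this).symm

/-- Membership. -/
def InE (x : ι → F) : Prop := ∃ p q r, x = E.vec p q r

theorem inE_vec (p q r : F) : E.InE (E.vec p q r) := ⟨p, q, r, rfl⟩

theorem inE_add {x y : ι → F} (hx : E.InE x) (hy : E.InE y) : E.InE (x + y) := by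
  obtain ⟨p, q, r, rfl⟩ := hx; obtain ⟨p', q', r', rfl⟩ := hy; rw [E.vec_add]; exact E.inE_vec _ _ _

theorem inE_smul (t : F) {x : ι → F} (hx : E.InE x) : E.InE (t • x) := by
  obtain ⟨p, q, r, rfl⟩ := hx; rw [E.vec_smul]; exact E.inE_vec _ _ _

theorem inE_sub {x y : ι → F} (hx : E.InE x) (hy : E.InE y) : E.InE (x - y) := by
  obtain ⟨p, q, r, rfl⟩ := hx; obtain ⟨p', q', r', rfl⟩ := hy; rw [E.vec_sub]; exact E.inE_vec _ _ _

theorem inE_u : E.InE E.u := ⟨_, _, _, E.vec_u⟩

theorem inE_a : E.InE (B.b E.a) := ⟨_, _, _, E.vec_a⟩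

theorem inE_b : E.InE (B.b E.b) := ⟨_, _, _, E.vec_b⟩

theorem inE_e' : E.InE E.e' := ⟨_, _, _, E.vec_e'⟩

/-- Orthogonal to the space. -/
def Perp (y : ι → F) : Prop := B.co y E.a = 0 ∧ B.co y E.b = 0 ∧ B.ip E.e' y = 0

theorem perp_ip {x y : ι → F} (hx : E.InE x) (hy : E.Perp y) : B.ip x y = 0 := by
  obtain ⟨p, q, r, rfl⟩ := hx
  rw [E.ip_vec, hy.1, hy.2.1, hy.2.2]; ring

/-- The projection. -/
noncomputable def proj (x : ι → F) : ι → F := E.vec (B.co x E.a) (B.co x E.b) (B.ip E.e' x / E.D)

theorem sub_proj (x : ι → F) : E.Perp (x - E.proj x) := by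
  refine ⟨?_, ?_, ?_⟩
  · rw [OFrame.co_sub, proj, E.co_vec_a, sub_self]
  · rw [OFrame.co_sub, proj, E.co_vec_b, sub_self]
  · rw [OFrame.ip_sub_right, proj, E.ip_e'_vec, mul_div_cancel₀ _ E.hD, sub_self]

theorem inE_proj (x : ι → F) : E.InE (E.proj x) := E.inE_vec _ _ _

/-- Fixing the orthogonal complement. -/
def Fixes (g : Cfsg.isometryGroup F (⇑Q)) : Prop := ∀ y, E.Perp y → ap g y = y

theorem fixes_mul {g h : Cfsg.isometryGroup F (⇑Q)} (hg : E.Fixes g) (hh : E.Fixes h) : E.Fixes (g * h) :=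
  fun y hy => by rw [ap_mul, hh y hy, hg y hy]

theorem fixes_one : E.Fixes 1 := fun y _ => ap_one y

theorem fixes_inv {g : Cfsg.isometryGroup F (⇑Q)} (hg : E.Fixes g) : E.Fixes g⁻¹ := fun y hy => by
  conv_lhs => rw [← hg y hy, ap_inv_ap]

theorem fixes_inE {g : Cfsg.isometryGroup F (⇑Q)} (hg : E.Fixes g) {x : ι → F} (hx : E.InE x) :
    E.InE (ap g x) := by
  have h0 : ap g x - E.proj (ap g x) = 0 := B.eq_zero_of_ip fun y => by
    rw [show y = E.proj y + (y - E.proj y) by abel, OFrame.ip_add_right,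
      B.ip_comm _ (E.proj y), E.perp_ip (E.inE_proj y) (E.sub_proj _), zero_add, OFrame.ip_sub_left,
      E.perp_ip (E.inE_proj _) (E.sub_proj y), sub_zero, ← hg _ (E.sub_proj y), B.ip_ap]
    exact E.perp_ip hx (E.sub_proj y)
  rw [sub_eq_zero.mp h0]; exact E.inE_proj _

theorem fixes_ext {g h : Cfsg.isometryGroup F (⇑Q)} (hg : E.Fixes g) (hh : E.Fixes h)
    (e : ∀ x, E.InE x → ap g x = ap h x) : g = h := ap_ext fun y => by
  rw [show y = E.proj y + (y - E.proj y) by abel, map_add, map_add, hg _ (E.sub_proj y), hh _ (E.sub_proj y),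
    e _ (E.inE_proj y)]

theorem fixes_rr {v : ι → F} (hv : E.InE v) : E.Fixes (rr Q v) := fun y hy => by
  by_cases h : B.ip v v = 0
  · rw [rr, dif_neg (by rw [B.q_ip, h, mul_zero]; exact not_not.mpr rfl), ap_one]
  · exact B.rr_fix h (E.perp_ip hv hy)

theorem range_inE {g : Cfsg.isometryGroup F (⇑Q)} (hg : E.Fixes g) (y : ι → F) : E.InE (ap g y - y) := by
  have e : ap g y - y = ap g (E.proj y) - E.proj y := by
    conv_lhs => rw [show y = E.proj y + (y - E.proj y) by abel, map_add, hg _ (E.sub_proj y)]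
    abel
  rw [e]; exact E.inE_sub (E.fixes_inE hg (E.inE_proj y)) (E.inE_proj y)

/-- The cross product. -/
noncomputable def cross (p q r p' q' r' : F) : ι → F :=
  E.vec (E.D * (q * r' - r * q')) (E.D * (r * p' - p * r')) (p * q' - q * p')

theorem ip_cross (p q r p' q' r' : F) :
    B.ip (E.cross p q r p' q' r') (E.vec p q r) = 0 ∧ B.ip (E.cross p q r p' q' r') (E.vec p' q' r') = 0 ∧
    B.ip (E.cross p q r p' q' r') (E.cross p q r p' q' r') =
      E.D * (B.ip (E.vec p q r) (E.vec p q r) * B.ip (E.vec p' q' r') (E.vec p' q' r') -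
        B.ip (E.vec p q r) (E.vec p' q' r') * B.ip (E.vec p q r) (E.vec p' q' r')) := by
  simp only [cross, E.ip_vec_vec]
  refine ⟨?_, ?_, ?_⟩ <;> ring

/-- Two independent vectors have a common orthogonal line. -/
theorem eq_cross {p q r p' q' r' : F} (hN : E.cross p q r p' q' r' ≠ 0) {y : ι → F} (hy : E.InE y)
    (h1 : B.ip (E.vec p q r) y = 0) (h2 : B.ip (E.vec p' q' r') y = 0) :
    ∃ t : F, y = t • E.cross p q r p' q' r' := by
  obtain ⟨x, z, w, rfl⟩ := hy
  rw [E.ip_vec_vec] at h1 h2
  by_cases h3 : p * q' - q * p' ≠ 0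
  · refine ⟨w / (p * q' - q * p'), ?_⟩
    simp only [cross, E.vec_smul]
    have ex : x * (p * q' - q * p') = w * (E.D * (q * r' - r * q')) := by linear_combination q' * h1 - q * h2
    have ez : z * (p * q' - q * p') = w * (E.D * (r * p' - p * r')) := by linear_combination -p' * h1 + p * h2
    congr 1
    · field_simp; linear_combination ex
    · field_simp; linear_combination ez
    · field_simp
  push Not at h3
  by_cases h4 : q * r' - r * q' ≠ 0
  · refine ⟨x / (E.D * (q * r' - r * q')), ?_⟩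
    have hd := E.hD
    simp only [cross, E.vec_smul, h3, mul_zero]
    have ez : z * (q * r' - r * q') = x * (r * p' - p * r') := by linear_combination r' * h1 - r * h2
    have ew : E.D * (w * (q * r' - r * q')) = 0 := by linear_combination q * h2 - q' * h1 + x * h3
    congr 1
    · field_simp
    · field_simp; linear_combination ez
    · exact (mul_eq_zero.mp ((mul_eq_zero.mp ew).resolve_left hd)).resolve_right h4
  push Not at h4
  have h5 : r * p' - p * r' ≠ 0 := fun h5 => hN (by simp [cross, h3, h4, h5, E.vec_zero])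
  refine ⟨z / (E.D * (r * p' - p * r')), ?_⟩
  have hd := E.hD
  simp only [cross, E.vec_smul, h3, h4, mul_zero]
  have ex : x * (r * p' - p * r') = 0 := by linear_combination r * h2 - r' * h1 + z * h4
  have ew : E.D * (w * (r * p' - p * r')) = 0 := by linear_combination p' * h1 - p * h2 + z * h3
  congr 1
  · exact (mul_eq_zero.mp ex).resolve_right h5
  · field_simp
  · exact (mul_eq_zero.mp ((mul_eq_zero.mp ew).resolve_left hd)).resolve_right h5

theorem cross_zero {p q r p' q' r' : F} (hN : E.cross p q r p' q' r' = 0) (hv : E.vec p q r ≠ 0) :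
    ∃ t : F, E.vec p' q' r' = t • E.vec p q r := by
  rw [cross, ← E.vec_zero] at hN
  obtain ⟨h1, h2, h3⟩ := E.vec_inj hN
  have h1' := (mul_eq_zero.mp h1).resolve_left E.hD
  have h2' := (mul_eq_zero.mp h2).resolve_left E.hD
  by_cases hp : p ≠ 0
  · refine ⟨p' / p, ?_⟩
    rw [E.vec_smul]; congr 1
    · field_simp
    · field_simp; linear_combination h3
    · field_simp; linear_combination -h2'
  push Not at hp
  by_cases hq : q ≠ 0
  · refine ⟨q' / q, ?_⟩
    rw [E.vec_smul]; congr 1
    · field_simp; linear_combination -h3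
    · field_simp
    · field_simp; linear_combination h1'
  push Not at hq
  have hr : r ≠ 0 := fun hr => hv (by rw [hp, hq, hr, E.vec_zero])
  refine ⟨r' / r, ?_⟩
  rw [E.vec_smul]; congr 1
  · field_simp; linear_combination h2'
  · field_simp; linear_combination -h1'
  · field_simp

include E in
theorem one_ne_neg_one : (-1 : F) ≠ 1 := fun h => B.two (by linear_combination -h)

include E in
theorem rank_even {g : Cfsg.isometryGroup F (⇑Q)} (hdet : detHom Q g = 1) :
    Even (Module.finrank F (LinearMap.range (ap g - LinearMap.id))) := by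
  have h1 := Cfsg.Lib.OmegaCls.det_dickson B.two B.nondeg g
  have hd : ((g : Matrix.GeneralLinearGroup ι F) : Matrix ι ι F).det = 1 := congrArg Units.val hdet
  rw [hd] at h1
  have h2 : dickson Q B.nondeg g = 1 := by
    rcases Int.units_eq_one_or (dickson Q B.nondeg g) with h | h
    · exact h
    · rw [h] at h1; simp at h1; exact absurd h1.symm E.one_ne_neg_one
  have h3 := (Cfsg.Lib.OmegaCls.dickson_rank B.nondeg g).mp h2
  rw [Matrix.rank, ← Matrix.toLin'_apply', map_sub, Matrix.toLin'_one] at h3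
  exact h3

/-- An element of determinant one fixes a vector. -/
theorem exists_fixed {g : Cfsg.isometryGroup F (⇑Q)} (hg : E.Fixes g) (hdet : detHom Q g = 1) :
    ∃ x, E.InE x ∧ x ≠ 0 ∧ ap g x = x := by
  by_contra hc
  push Not at hc
  let L : (F × F × F) →ₗ[F] (ι → F) :=
    { toFun := fun x => E.vec x.1 x.2.1 x.2.2
      map_add' := fun x y => (E.vec_add _ _ _ _ _ _).symm
      map_smul' := fun t x => (E.vec_smul t _ _ _).symm }
  let φ := (ap g - LinearMap.id).comp L
  have hinj : Function.Injective φ := by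
    rw [← LinearMap.ker_eq_bot, LinearMap.ker_eq_bot']
    intro x hx
    simp [φ, L] at hx
    rw [sub_eq_zero] at hx
    by_contra hne
    refine hc _ (E.inE_vec _ _ _) (fun h0 => hne ?_) hx
    rw [← E.vec_zero] at h0
    obtain ⟨h1, h2, h3⟩ := E.vec_inj h0
    exact Prod.ext h1 (Prod.ext h2 h3)
  have hrange : LinearMap.range φ = LinearMap.range (ap g - LinearMap.id) := by
    refine le_antisymm (LinearMap.range_comp_le_range _ _) ?_
    rintro _ ⟨y, rfl⟩
    refine ⟨(B.co y E.a, B.co y E.b, B.ip E.e' y / E.D), ?_⟩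
    have h := hg _ (E.sub_proj y)
    rw [map_sub] at h
    simp only [φ, L, LinearMap.comp_apply, LinearMap.coe_mk, AddHom.coe_mk, LinearMap.sub_apply, LinearMap.id_apply]
    change ap g (E.proj y) - E.proj y = ap g y - y
    linear_combination (norm := module) -h
  have h3 := E.rank_even hdet
  rw [← hrange, LinearMap.finrank_range_of_inj hinj, Module.finrank_prod, Module.finrank_prod,
    Module.finrank_self] at h3
  exact absurd h3 (by decide)

/-- An element of determinant one fixing two independent vectors is trivial. -/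
theorem eq_one_of_two {g : Cfsg.isometryGroup F (⇑Q)} (hg : E.Fixes g) (hdet : detHom Q g = 1) {p q r p' q' r' : F}
    (hN : E.cross p q r p' q' r' ≠ 0) (h1 : ap g (E.vec p q r) = E.vec p q r)
    (h2 : ap g (E.vec p' q' r') = E.vec p' q' r') : g = 1 := by
  have hle : LinearMap.range (ap g - LinearMap.id) ≤ Submodule.span F {E.cross p q r p' q' r'} := by
    rintro _ ⟨y, rfl⟩
    rw [LinearMap.sub_apply, LinearMap.id_apply]
    obtain ⟨t, ht⟩ := E.eq_cross hN (E.range_inE hg y)
      (by rw [OFrame.ip_sub_right]; conv_lhs => arg 1; rw [← h1, B.ip_ap]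
          rw [sub_self])
      (by rw [OFrame.ip_sub_right]; conv_lhs => arg 1; rw [← h2, B.ip_ap]
          rw [sub_self])
    exact Submodule.mem_span_singleton.mpr ⟨t, ht.symm⟩
  have h3 := E.rank_even hdet
  have h4 := Submodule.finrank_mono hle
  rw [finrank_span_singleton hN] at h4
  have h5 : Module.finrank F (LinearMap.range (ap g - LinearMap.id)) = 0 := by
    rcases h3 with ⟨k, hk⟩; omega
  rw [Submodule.finrank_eq_zero, LinearMap.range_eq_bot, sub_eq_zero] at h5
  exact ap_ext fun y => by rw [h5, ap_one]; rfl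

variable {K : Subgroup (Cfsg.isometryGroup F (⇑Q))} {o : κ}

variable (K o) in
/-- The isometries of the space keeping its unit vectors of `Rs`. -/
def G3 : Subgroup (Cfsg.isometryGroup F (⇑Q)) where
  carrier := {g | E.Fixes g ∧ ∀ x, E.InE x → (ap g x ∈ B.Rs K o ↔ x ∈ B.Rs K o)}
  mul_mem' := fun {g h} hg hh => ⟨E.fixes_mul hg.1 hh.1, fun x hx => by
    rw [ap_mul, hg.2 _ (E.fixes_inE hh.1 hx), hh.2 x hx]⟩
  one_mem' := ⟨E.fixes_one, fun x _ => by rw [ap_one]⟩
  inv_mem' := fun {g} hg => ⟨E.fixes_inv hg.1, fun x hx => by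
    rw [← hg.2 _ (E.fixes_inE (E.fixes_inv hg.1) hx), ap_ap_inv]⟩

theorem rr_mem_G3 {v : ι → F} (hv : v ∈ B.Rs K o) (hvE : E.InE v) : rr Q v ∈ E.G3 K o :=
  ⟨E.fixes_rr hvE, fun x _ => B.rs_refl_iff hv⟩

end Tri

end Cfsg.Lib.Classical.OFr
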