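import Mathlib
import Cfsg.Agent.Classical.Orth.Frame.Tri
import Cfsg.Agent.Classical.Orth.Frame.Count

set_option autoImplicit false
set_option linter.unusedVariables false
set_option linter.unusedSimpArgs false
set_option linter.unusedSectionVars false
set_option linter.style.haveILetI false
set_option linter.flexible false

/-!
Outside the octahedral case the isometries of a three-space keeping the unit vectors of an overgroup contain
Siegel elements along two opposite singular lines.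
-/

namespace Cfsg.Lib.Classical.OFr

open Matrix Cfsg.Lib.Classical.Refl

universe u w

variable {F : Type u} [Field F] [Fintype F] [DecidableEq F] {ι : Type} [Fintype ι] [DecidableEq ι]
  {Q : QuadraticForm F (ι → F)} {κ : Type w} [Fintype κ] [DecidableEq κ] {B : OFrame Q κ}
  {K : Subgroup (Cfsg.isometryGroup F (⇑Q))} {o : κ}

namespace Tri

variable (E : Tri B)

theorem cross_ne {p q r p' q' r' : F} (h : B.ip (E.vec p q r) (E.vec p q r) * B.ip (E.vec p' q' r') (E.vec p' q' r') -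
    B.ip (E.vec p q r) (E.vec p' q' r') * B.ip (E.vec p q r) (E.vec p' q' r') ≠ 0) :
    E.cross p q r p' q' r' ≠ 0 := fun h0 => by
  have := (E.ip_cross p q r p' q' r').2.2
  rw [h0, B.ip_zero_left] at this
  exact h ((mul_eq_zero.mp this.symm).resolve_left E.hD)

/-- A vector orthogonal to a singular pair and their common orthogonal vector vanishes. -/
theorem eq_zero_of_three {v x z : ι → F} (hv : E.InE v) (hw : E.InE x) (hz : E.InE z) (hvv : B.ip v v = 0)
    (hvw : B.ip v x = 1) (hvz : B.ip v z = 0) (hwz : B.ip x z = 0) (hzz : B.ip z z ≠ 0) {y : ι → F}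
    (hy : E.InE y) (h1 : B.ip v y = 0) (h2 : B.ip x y = 0) (h3 : B.ip z y = 0) : y = 0 := by
  obtain ⟨p, q, r, rfl⟩ := hv
  obtain ⟨p', q', r', rfl⟩ := hw
  have hN : E.cross p q r p' q' r' ≠ 0 := E.cross_ne (by rw [hvv, hvw]; ring_nf; exact neg_ne_zero.mpr one_ne_zero)
  obtain ⟨t, rfl⟩ := E.eq_cross hN hy h1 h2
  obtain ⟨s, rfl⟩ := E.eq_cross hN hz hvz hwz
  have hne : B.ip (E.cross p q r p' q' r') (E.cross p q r p' q' r') ≠ 0 := by
    intro h0; apply hzz; rw [B.ip_smul_left, B.ip_smul_right, h0, mul_zero, mul_zero]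
  have hs : s ≠ 0 := fun hs => hzz (by rw [hs, zero_smul, B.ip_zero_left])
  rw [B.ip_smul_left, B.ip_smul_right] at h3
  rw [(mul_eq_zero.mp ((mul_eq_zero.mp h3).resolve_left hs)).resolve_right hne, zero_smul]

theorem decomp {v x z : ι → F} (hv : E.InE v) (hw : E.InE x) (hz : E.InE z) (hvv : B.ip v v = 0)
    (hww : B.ip x x = 0) (hvw : B.ip v x = 1) (hvz : B.ip v z = 0) (hwz : B.ip x z = 0) (hzz : B.ip z z ≠ 0)
    {y : ι → F} (hy : E.InE y) : y = B.ip x y • v + B.ip v y • x + (B.ip z y / B.ip z z) • z := by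
  refine sub_eq_zero.mp (E.eq_zero_of_three hv hw hz hvv hvw hvz hwz hzz
    (E.inE_sub hy (E.inE_add (E.inE_add (E.inE_smul _ hv) (E.inE_smul _ hw)) (E.inE_smul _ hz))) ?_ ?_ ?_) <;>
  simp only [OFrame.ip_sub_right, OFrame.ip_add_right, OFrame.ip_smul_right, hvv, hww, hvw, hvz, hwz,
    B.ip_comm x v, B.ip_comm z v, B.ip_comm z x, div_mul_cancel₀ _ hzz] <;> ring

/-- An element fixing a singular vector is a Siegel element, and so are all multiples. -/
theorem root_group (hp : (Fintype.card F).Prime) (hn : 5 ≤ Fintype.card ι) {v x z : ι → F} (hv : E.InE v)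
    (hw : E.InE x) (hz : E.InE z) (hvv : B.ip v v = 0) (hww : B.ip x x = 0) (hvw : B.ip v x = 1)
    (hvz : B.ip v z = 0) (hwz : B.ip x z = 0) (hzz : B.ip z z ≠ 0) {g : Cfsg.isometryGroup F (⇑Q)}
    (hg : g ∈ E.G3 K o) (hdet : detHom Q g = 1) (hg1 : g ≠ 1) (hgv : ap g v = v) :
    ∀ t : F, ∀ (hQv : Q v = 0) (h : QuadraticMap.polar (⇑Q) v (t • z) = 0), siegelG Q hQv h ∈ E.G3 K o := by
  have hpol : ∀ t : F, QuadraticMap.polar (⇑Q) v (t • z) = 0 := fun t => by
    rw [QuadraticMap.polar_smul_right, B.polar_ip, hvz, mul_zero, smul_zero]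
  have hQv : Q v = 0 := by rw [B.q_ip, hvv, mul_zero]
  have hgw := E.fixes_inE hg.1 hw
  have e1 : B.ip v (ap g x) = 1 := by conv_lhs => rw [← hgv]
                                      rw [B.ip_ap, hvw]
  have hd := E.decomp hv hw hz hvv hww hvw hvz hwz hzz hgw
  rw [e1, one_smul] at hd
  set δ := B.ip x (ap g x) with hδ
  set ρ' := B.ip z (ap g x) / B.ip z z with hρ'
  have hδe : 2 * δ + ρ' * ρ' * B.ip z z = 0 := by
    have h := B.ip_ap g x x
    rw [hd] at h
    simp only [OFrame.ip_add_left, OFrame.ip_add_right, OFrame.ip_smul_left, OFrame.ip_smul_right, hvv, hww, hvw,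
      hvz, hwz, B.ip_comm x v, B.ip_comm z v, B.ip_comm z x] at h
    linear_combination h
  set ρ := ρ' / (2 * B.c) with hρ
  have hS : ∀ t : F, E.Fixes (siegelG Q hQv (hpol t)) := fun t y hy => by
    rw [B.ap_siegelG, E.perp_ip hv hy, B.ip_smul_left, E.perp_ip hz hy]
    simp
  have hSw : ap (siegelG Q hQv (hpol ρ)) x = ap g x := by
    rw [B.ap_siegelG, hd, hvw, B.ip_smul_left, B.ip_comm z x, hwz, B.ip_smul_left, B.ip_smul_right, mul_zero,
      mul_zero, neg_zero, zero_sub, mul_one, smul_smul]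
    have hc := B.hc
    have h2 := B.two
    have a1 : 2 * B.c * ρ = ρ' := by rw [hρ]; field_simp
    have a2 : -(B.c * (ρ * (ρ * B.ip z z)) * (2 * B.c)) = δ := by
      have : 2 * (-(B.c * (ρ * (ρ * B.ip z z)) * (2 * B.c))) = 2 * δ := by
        linear_combination -hδe - (2 * B.c * ρ * B.ip z z + ρ' * B.ip z z) * a1
      exact mul_left_cancel₀ h2 this
    rw [a1, a2]; abel
  have hSv : ap (siegelG Q hQv (hpol ρ)) v = v := by
    rw [B.ap_siegelG, hvv, B.ip_smul_left, B.ip_comm z v, hvz]; simp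
  have hSdet : detHom Q (siegelG Q hQv (hpol ρ)) = 1 :=
    hom_eq_one_of_omega Q _ (siegelG_mem_omega Q B.nondeg hn hQv (hpol ρ))
  have hgS : g = siegelG Q hQv (hpol ρ) := by
    obtain ⟨p, q, r, hvp⟩ := id hv
    obtain ⟨p', q', r', hwp⟩ := id hw
    have hh := E.eq_one_of_two (g := (siegelG Q hQv (hpol ρ))⁻¹ * g)
      (E.fixes_mul (E.fixes_inv (hS ρ)) hg.1) (by rw [map_mul, map_inv, hSdet, hdet, inv_one, one_mul])
      (p := p) (q := q) (r := r) (p' := p') (q' := q') (r' := r')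
      (E.cross_ne (by rw [← hvp, ← hwp, hvv, hvw]; ring_nf; exact neg_ne_zero.mpr one_ne_zero))
      (by rw [← hvp, ap_mul, hgv]
          have h := congrArg (ap (siegelG Q hQv (hpol ρ))⁻¹) hSv
          rw [ap_inv_ap] at h
          exact h.symm)
      (by rw [← hwp, ap_mul, ← hSw, ap_inv_ap])
    exact (inv_mul_eq_one.mp hh).symm
  have hρ0 : ρ ≠ 0 := fun h0 => hg1 (by
    rw [hgS]
    refine ap_ext fun y => ?_
    rw [B.ap_siegelG, ap_one, h0, zero_smul, B.ip_zero_left, B.ip_zero_left]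
    simp)
  have hpow : ∀ m : ℕ, siegelG Q hQv (hpol ((m : F) * ρ)) ∈ E.G3 K o := by
    intro m
    induction m with
    | zero =>
      convert (E.G3 K o).one_mem
      refine ap_ext fun y => ?_
      rw [B.ap_siegelG, ap_one, Nat.cast_zero, zero_mul, zero_smul, B.ip_zero_left, B.ip_zero_left]
      simp
    | succ m ih =>
      have h := (E.G3 K o).mul_mem ih hg
      rw [hgS, siegelG_mul] at h
      convert h using 2
      rw [← add_smul]; congr 1; push_cast; ring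
  intro t hQv' h
  obtain ⟨m, hm⟩ := natCast_surj hp (t / ρ)
  have := hpow m
  simp only [hm, div_mul_cancel₀ _ hρ0] at this
  exact this

variable (K o) in
/-- Siegel elements along two opposite singular lines of the space. -/
structure Roots (v x z : ι → F) : Prop where
  mv : E.InE v
  mw : E.InE x
  mz : E.InE z
  vv : B.ip v v = 0
  ww : B.ip x x = 0
  vw : B.ip v x = 1
  vz : B.ip v z = 0
  wz : B.ip x z = 0
  zz : B.ip z z ≠ 0
  rv : ∀ t : F, ∀ (hQv : Q v = 0) (h : QuadraticMap.polar (⇑Q) v (t • z) = 0), siegelG Q hQv h ∈ E.G3 K o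
  rw' : ∀ t : F, ∀ (hQw : Q x = 0) (h : QuadraticMap.polar (⇑Q) x (t • z) = 0), siegelG Q hQw h ∈ E.G3 K o

variable (hM : ∀ g ∈ Cfsg.Omega F (⇑Q), B.Mono g → g ∈ K) (huR : E.u ∈ B.Rs K o)

include hM huR in
theorem gens_mem : rr Q (B.b E.a) ∈ E.G3 K o ∧ rr Q (B.b E.b) ∈ E.G3 K o ∧ rr Q E.u ∈ E.G3 K o ∧
    rr Q E.e' ∈ E.G3 K o := by
  have ha := E.rr_mem_G3 (B.rs_b hM E.a : B.b E.a ∈ B.Rs K o) E.inE_a
  have hb := E.rr_mem_G3 (B.rs_b hM E.b : B.b E.b ∈ B.Rs K o) E.inE_b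
  refine ⟨ha, hb, E.rr_mem_G3 huR E.inE_u, E.fixes_rr E.inE_e', fun x hx => ?_⟩
  have e : ap (rr Q E.e') x = -ap (rr Q (B.b E.a)) (ap (rr Q (B.b E.b)) x) := by
    obtain ⟨p, q, r, rfl⟩ := hx
    rw [B.rr_apply (by rw [E.ip_e']; exact E.hD), E.ip_e'_vec, E.ip_e', B.rr_apply_one (B.ip_b_self E.b),
      B.rr_apply_one (B.ip_b_self E.a), B.ip_b_left, B.ip_b_left, B.co_sub, B.co_smul, B.co_b, E.co_vec_a,
      E.co_vec_b, if_neg E.hab.symm, mul_div_assoc, mul_div_cancel_left₀ _ E.hD]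
    simp only [vec]; module
  have hmem := (E.G3 K o).mul_mem ha hb
  have h2 := hmem.2 x hx
  rw [ap_mul] at h2
  rw [e]
  exact ⟨fun h => h2.mp (B.rs_of_neg h), fun h => B.rs_neg (h2.mpr h)⟩

include hM in
theorem swap_mem {c e : κ} (hce : c ≠ e) (hca : c ≠ E.a) (hcb : c ≠ E.b) (hea : e ≠ E.a) (heb : e ≠ E.b)
    (hc : B.co E.u c = 0) (he : B.co E.u e = 0) : rr Q (B.b E.a - (1 : F) • B.b E.b) ∈ E.G3 K o := by
  set x := B.b E.a - (1 : F) • B.b E.b
  set y := B.b c - (1 : F) • B.b e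
  have hxE : E.InE x := E.inE_sub E.inE_a (E.inE_smul _ E.inE_b)
  have hy0 : ∀ z, E.InE z → B.ip y z = 0 := by
    rintro z ⟨p, q, r, rfl⟩
    rw [B.ip_sub_left, B.ip_smul_left, B.ip_b_left, B.ip_b_left, E.co_vec _ _ _ hca hcb, E.co_vec _ _ _ hea heb,
      hc, he]
    ring
  set m := rr Q x * rr Q y with hm
  have hmK : m ∈ K := B.root_pair_in hM E.hab hce (one_mul 1) (one_mul 1)
  have hmm : B.Mono m := B.mono_mul (B.mono_root E.hab (one_mul 1)) (B.mono_root hce (one_mul 1))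
  have hmE : ∀ z, E.InE z → ap m z = ap (rr Q x) z := fun z hz => by
    rw [hm, ap_mul, B.rr_fix (by rw [B.ip_root hce (one_mul 1)]; exact B.two) (hy0 z hz)]
  refine ⟨E.fixes_rr hxE, fun z hz => ?_⟩
  rw [← hmE z hz]
  refine ⟨fun h => ?_, B.rs_mono hM hmK hmm⟩
  have := B.rs_mono hM (K.inv_mem hmK) (B.mono_inv hmm) h
  rwa [ap_inv_ap] at this

include hM huR in
/-- Outside the octahedral case there are two opposite root groups. -/
theorem exists_roots (hp : (Fintype.card F).Prime) (hn : 5 ≤ Fintype.card ι) {c e : κ} (hce : c ≠ e)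
    (hca : c ≠ E.a) (hcb : c ≠ E.b) (hea : e ≠ E.a) (heb : e ≠ E.b) (hc : B.co E.u c = 0) (he : B.co E.u e = 0)
    (hβ : B.co E.u E.b = 0) (hα0 : E.α ≠ 0) (hα2 : 2 * (E.α * E.α) ≠ 1) : ∃ v x z, E.Roots K o v x z := by
  classical
  obtain ⟨ha, hb, hu, he'⟩ := E.gens_mem hM huR
  have hsw := E.swap_mem (o := o) hM hce hca hcb hea heb hc he
  have hdrr : ∀ y, B.ip y y ≠ 0 → detHom Q (rr Q y) = -1 := fun y hy => detHom_rr y (B.q_ne hy)
  have hne1 : ∀ i, B.ip (B.b i) (B.b i) ≠ 0 := fun i => by rw [B.ip_b_self]; exact one_ne_zero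
  by_cases hU : ∃ g ∈ E.G3 K o, detHom Q g = 1 ∧ g ≠ 1 ∧ ∃ v, E.InE v ∧ v ≠ 0 ∧ B.ip v v = 0 ∧ ap g v = v
  · obtain ⟨g, hg, hdet, hg1, v, hvE, hv0, hvv, hgv⟩ := hU
    obtain ⟨p, q, r, rfl⟩ := id hvE
    obtain ⟨σ, hσ, hσdet, hσne⟩ : ∃ σ ∈ E.G3 K o, detHom Q σ = -1 ∧ B.ip (E.vec p q r) (ap σ (E.vec p q r)) ≠ 0 := by
      have key : ∀ y, B.ip y y ≠ 0 → B.ip (E.vec p q r) (ap (rr Q y) (E.vec p q r)) =
          -(2 * (B.ip y (E.vec p q r) * B.ip y (E.vec p q r)) / B.ip y y) := fun y hy => by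
        rw [B.rr_apply hy, B.ip_sub_right, hvv, B.ip_smul_right, B.ip_comm (E.vec p q r) y]
        field_simp
        ring
      have nzy : ∀ y, B.ip y y ≠ 0 → B.ip y (E.vec p q r) ≠ 0 →
          B.ip (E.vec p q r) (ap (rr Q y) (E.vec p q r)) ≠ 0 := fun y hy h => by
        rw [key y hy, neg_ne_zero]
        exact div_ne_zero (mul_ne_zero B.two (mul_ne_zero h h)) hy
      by_cases hp0 : p = 0
      · by_cases hq0 : q = 0
        · refine ⟨_, he', hdrr _ (by rw [E.ip_e']; exact E.hD), nzy _ (by rw [E.ip_e']; exact E.hD) ?_⟩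
          rw [E.ip_e'_vec]
          exact mul_ne_zero E.hD fun hr => hv0 (by rw [hp0, hq0, hr, E.vec_zero])
        · exact ⟨_, hb, hdrr _ (hne1 _), nzy _ (hne1 _) (by rw [B.ip_b_left, E.co_vec_b]; exact hq0)⟩
      · exact ⟨_, ha, hdrr _ (hne1 _), nzy _ (hne1 _) (by rw [B.ip_b_left, E.co_vec_a]; exact hp0)⟩
    set β := B.ip (E.vec p q r) (ap σ (E.vec p q r)) with hβ
    set x := β⁻¹ • ap σ (E.vec p q r) with hx
    have hxE : E.InE x := E.inE_smul _ (E.fixes_inE hσ.1 hvE)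
    have hww : B.ip x x = 0 := by rw [hx, B.ip_smul_left, B.ip_smul_right, B.ip_ap, hvv]; ring
    have hvw : B.ip (E.vec p q r) x = 1 := by rw [hx, B.ip_smul_right, ← hβ, inv_mul_cancel₀ hσne]
    obtain ⟨p', q', r', hxv⟩ := id hxE
    set z := E.cross p q r p' q' r' with hz
    obtain ⟨hz1, hz2, hz3⟩ := E.ip_cross p q r p' q' r'
    rw [← hxv, ← hz] at hz2 hz3
    rw [← hz] at hz1
    rw [hvv, hww, hvw] at hz3
    have hzz : B.ip z z ≠ 0 := by
      rw [hz3, zero_mul, zero_sub, one_mul, mul_neg, mul_one, neg_ne_zero]; exact E.hD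
    rw [B.ip_comm] at hz1 hz2
    have hzE : E.InE z := E.inE_vec _ _ _
    refine ⟨E.vec p q r, x, z, hvE, hxE, hzE, hvv, hww, hvw, hz1, hz2, hzz,
      E.root_group hp hn hvE hxE hzE hvv hww hvw hz1 hz2 hzz hg hdet hg1 hgv,
      E.root_group hp hn hxE hvE hzE hww hvv (by rw [B.ip_comm]; exact hvw) hz2 hz1 hzz
        ((E.G3 K o).mul_mem ((E.G3 K o).mul_mem hσ hg) ((E.G3 K o).inv_mem hσ))
        (by rw [map_mul, map_mul, map_inv, hdet, mul_one, mul_inv_cancel])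
        (fun h => hg1 (by
          have := congrArg (fun y => σ⁻¹ * y * σ) h
          simpa [mul_assoc] using this)) ?_⟩
    rw [hx, map_smul, ap_mul, ap_mul, ap_inv_ap, hgv]
  exfalso
  push Not at hU
  let H : Subgroup (Cfsg.isometryGroup F (⇑Q)) := E.G3 K o ⊓ (detHom Q).ker
  have hHfix : ∀ g : H, E.Fixes g.1 := fun g => g.2.1.1
  have hHdet : ∀ g : H, detHom Q g.1 = 1 := fun g => g.2.2
  let C : (ι → F) → Subgroup H := fun v =>
    { carrier := {g | ap g.1 v = v}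
      mul_mem' := fun {g h} (hg : ap g.1 v = v) (hh : ap h.1 v = v) => by
        show ap (g.1 * h.1) v = v
        rw [ap_mul, hh, hg]
      one_mem' := by show ap (1 : Cfsg.isometryGroup F (⇑Q)) v = v; exact ap_one v
      inv_mem' := fun {g} (hg : ap g.1 v = v) => by
        show ap g.1⁻¹ v = v
        conv_lhs => rw [← hg, ap_inv_ap] }
  have hCmem : ∀ (v : ι → F) (g : H), g ∈ C v ↔ ap g.1 v = v := fun v g => Iff.rfl
  have hprop : ∀ {g : H}, g ≠ 1 → ∀ {v y : ι → F}, E.InE v → v ≠ 0 → E.InE y → ap g.1 v = v → ap g.1 y = y →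
      ∃ t : F, y = t • v := by
    intro g hg v y hv hv0 hy hgv hgy
    obtain ⟨p, q, r, rfl⟩ := hv
    obtain ⟨p', q', r', rfl⟩ := hy
    by_cases hN : E.cross p q r p' q' r' = 0
    · exact E.cross_zero hN hv0
    · exact absurd (Subtype.ext (E.eq_one_of_two (hHfix g) (hHdet g) hN hgv hgy)) hg
  have hCsmul : ∀ (v : ι → F) (t : F), t ≠ 0 → C (t • v) = C v := fun v t ht => by
    ext g
    rw [hCmem, hCmem, map_smul]
    exact (smul_right_injective _ ht).eq_iff
  have hcj : ∀ (x : H) (v : ι → F), cj x (C v) = C (ap x.1 v) := fun x v => by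
    ext g
    rw [mem_cj, hCmem, hCmem]
    show ap (x.1⁻¹ * g.1 * x.1) v = v ↔ _
    rw [ap_mul, ap_mul]
    exact ⟨fun h => by
      have h' := congrArg (ap x.1) h
      rwa [ap_ap_inv] at h', fun h => by rw [h, ap_inv_ap]⟩
  set S : Set (Subgroup H) := {A | ∃ v, E.InE v ∧ B.ip v v ≠ 0 ∧ A = C v ∧ A ≠ ⊥} with hSdef
  have hP : AxisPartition H S := by
    refine ⟨fun g hg => ?_, ?_, ?_, ?_⟩
    · obtain ⟨v, hvE, hv0, hgv⟩ := E.exists_fixed (hHfix g) (hHdet g)
      have hvv : B.ip v v ≠ 0 := fun h => hU g.1 g.2.1 (hHdet g) (fun h1 => hg (Subtype.ext h1)) v hvE hv0 h hgv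
      exact ⟨C v, ⟨v, hvE, hvv, rfl, fun h => hg (Subgroup.mem_bot.mp (h ▸ hgv))⟩, hgv⟩
    · rintro _ ⟨v, hvE, hvv, rfl, -⟩ _ ⟨y, hyE, hyy, rfl, -⟩ g hg hgv hgy
      obtain ⟨t, rfl⟩ := hprop hg hvE (fun h => hvv (by rw [h, B.ip_zero_left])) hyE hgv hgy
      exact (hCsmul v t fun ht => hyy (by rw [ht, zero_smul, B.ip_zero_left])).symm
    · rintro _ ⟨v, hvE, hvv, rfl, hne⟩ x
      refine ⟨ap x.1 v, E.fixes_inE (hHfix x) hvE, by rwa [B.ip_ap], hcj x v, fun h => hne ?_⟩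
      have := congrArg (cj x⁻¹) h
      rw [← cj_mul, inv_mul_cancel, cj_one] at this
      rw [this]; exact Subgroup.map_bot _
    · rintro _ ⟨v, hvE, hvv, rfl, hne⟩ x y hx hy hxn hyn
      obtain ⟨g, hg, hg1⟩ := (Subgroup.ne_bot_iff_exists_ne_one.mp hne : ∃ a : C v, a ≠ 1) |> fun ⟨a, ha⟩ =>
        (⟨a.1, a.2, fun h => ha (Subtype.ext h)⟩ : ∃ a : H, a ∈ C v ∧ a ≠ 1)
      have key : ∀ x : H, cj x (C v) = C v → x ∉ C v → ap x.1 v = -v := by
        intro x hx hxn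
        rw [hcj] at hx
        have hgx : ap g.1 (ap x.1 v) = ap x.1 v := by
          have : g ∈ C (ap x.1 v) := by rw [hx]; exact hg
          exact this
        obtain ⟨t, ht⟩ := hprop hg1 hvE (fun h => hvv (by rw [h, B.ip_zero_left]))
          (E.fixes_inE (hHfix x) hvE) hg hgx
        have h2 := B.ip_ap x.1 v v
        rw [ht, B.ip_smul_left, B.ip_smul_right, ← mul_assoc] at h2
        rcases mul_self_eq_one_iff.mp ((mul_eq_right₀ hvv).mp h2) with h | h
        · exact absurd (show ap x.1 v = v by rw [ht, h, one_smul]) hxn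
        · rw [ht, h, neg_one_smul]
      show ap (x.1 * y.1) v = v
      rw [ap_mul, key y hy hyn, map_neg, key x hx hxn, neg_neg]
  have hH : ∀ {y y' : ι → F}, rr Q y ∈ E.G3 K o → rr Q y' ∈ E.G3 K o → B.ip y y ≠ 0 → B.ip y' y' ≠ 0 →
      rr Q y * rr Q y' ∈ H := fun {y y'} h h' hn' hn'' => Subgroup.mem_inf.mpr ⟨(E.G3 K o).mul_mem h h', by
    rw [MonoidHom.mem_ker, map_mul, hdrr y hn', hdrr y' hn'', neg_mul_neg, one_mul]⟩
  have he'0 : B.ip E.e' E.e' ≠ 0 := by rw [E.ip_e']; exact E.hD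
  have hr0 : B.ip (B.b E.a - (1 : F) • B.b E.b) (B.b E.a - (1 : F) • B.b E.b) ≠ 0 := by
    rw [B.ip_root E.hab (one_mul 1)]; exact B.two
  have hu0 : B.ip E.u E.u ≠ 0 := by rw [E.hu]; exact one_ne_zero
  have fixa : ∀ y, B.co y E.a = 0 → ap (rr Q (B.b E.a)) y = y := fun y h =>
    B.rr_fix (hne1 _) (by rw [B.ip_b_left]; exact h)
  have fixe : ∀ y, B.ip E.e' y = 0 → ap (rr Q E.e') y = y := fun y h => B.rr_fix he'0 h
  have nega : ap (rr Q (B.b E.a)) (B.b E.a) = -B.b E.a := B.rr_self (hne1 _)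
  have coab : B.co (B.b E.b) E.a = 0 := by rw [B.co_b, if_neg E.hab.symm]
  have coba : B.co (B.b E.a) E.b = 0 := by rw [B.co_b, if_neg E.hab]
  set ρ : H := ⟨_, hH hsw ha hr0 (hne1 _)⟩ with hρ
  set J : H := ⟨_, hH ha he' (hne1 _) he'0⟩ with hJ
  set R : H := ⟨_, hH ha hu (hne1 _) hu0⟩ with hR
  set fl : H := ⟨_, hH ha hb (hne1 _) (hne1 _)⟩ with hfl
  have ρe : ap ρ.1 E.e' = E.e' := by
    show ap (rr Q _ * rr Q _) E.e' = E.e'
    rw [ap_mul, fixa _ E.co_e'_a, B.rr_fix hr0 (by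
      rw [B.ip_sub_left, B.ip_smul_left, B.ip_b_left, B.ip_b_left, E.co_e'_a, E.co_e'_b]; ring)]
  have ρa : ap ρ.1 (B.b E.a) = -B.b E.b := by
    show ap (rr Q _ * rr Q _) (B.b E.a) = _
    rw [ap_mul, nega, map_neg, B.rr_root E.hab (one_mul 1), if_pos rfl, one_smul]
  have ρb : ap ρ.1 (B.b E.b) = B.b E.a := by
    show ap (rr Q _ * rr Q _) (B.b E.b) = _
    rw [ap_mul, fixa _ coab, B.rr_root E.hab (one_mul 1), if_neg E.hab.symm, if_pos rfl, one_smul]
  have Jb : ap J.1 (B.b E.b) = B.b E.b := by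
    show ap (rr Q _ * rr Q _) (B.b E.b) = _
    rw [ap_mul, fixe _ (by rw [B.ip_b_right]; exact E.co_e'_b), fixa _ coab]
  have Ja : ap J.1 (B.b E.a) = -B.b E.a := by
    show ap (rr Q _ * rr Q _) (B.b E.a) = _
    rw [ap_mul, fixe _ (by rw [B.ip_b_right]; exact E.co_e'_a), nega]
  have Je : ap J.1 E.e' = -E.e' := by
    show ap (rr Q _ * rr Q _) E.e' = _
    rw [ap_mul, B.rr_self he'0, map_neg, fixa _ E.co_e'_a]
  have hba0 : B.b E.a ≠ 0 := B.b_ne_zero _
  have neq_neg : ∀ {y : ι → F}, y ≠ 0 → -y ≠ y := fun {y} hy h => hy (by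
    have : (2 : F) • y = 0 := by
      rw [two_smul]; nth_rewrite 1 [← h]; exact neg_add_cancel y
    exact (smul_eq_zero.mp this).resolve_left B.two)
  have neq_e : -E.e' ≠ E.e' := neq_neg fun h => he'0 (by rw [h, B.ip_zero_left])
  set A := C E.e' with hA
  set Bb := C (B.b E.b) with hBb
  set Ba := C (B.b E.a) with hBa
  have hAS : A ∈ S := ⟨_, E.inE_e', he'0, rfl, fun h => by
    have h1 : ρ = 1 := Subgroup.mem_bot.mp (h ▸ (show ρ ∈ A from ρe))
    rw [h1] at ρb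
    exact E.hab (by
      have := congrArg (fun y => B.co y E.a) ((ap_one (B.b E.b)).symm.trans ρb)
      simp [B.co_b, E.hab.symm] at this)⟩
  have hBS : Bb ∈ S := ⟨_, E.inE_b, hne1 _, rfl, fun h => by
    have h1 : J = 1 := Subgroup.mem_bot.mp (h ▸ (show J ∈ Bb from Jb))
    rw [h1] at Ja
    exact neq_neg hba0 (Ja.symm.trans (ap_one _))⟩
  have hfA : ∃ x, cj x A = A ∧ x ∉ A := ⟨J, by rw [hA, hcj, Je, ← neg_one_smul F E.e',
    hCsmul _ _ (neg_ne_zero.mpr one_ne_zero)], fun h => neq_e (Je.symm.trans h)⟩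
  have hfB : ∃ x, cj x Bb = Bb ∧ x ∉ Bb := by
    have hb' : ap fl.1 (B.b E.b) = -B.b E.b := by
      show ap (rr Q _ * rr Q _) (B.b E.b) = _
      rw [ap_mul, B.rr_self (hne1 _), map_neg, fixa _ coab]
    refine ⟨fl, ?_, fun h => neq_neg (B.b_ne_zero E.b) (hb'.symm.trans h)⟩
    rw [hBb, hcj, hb', ← neg_one_smul F (B.b E.b), hCsmul _ _ (neg_ne_zero.mpr one_ne_zero)]
  -- orders
  haveI : Fintype H := Fintype.ofFinite H
  have hA4 : 4 ∣ Nat.card A := by
    have h2 : ap (ρ ^ 2).1 (B.b E.a) = -B.b E.a := by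
      rw [pow_two]; show ap (ρ.1 * ρ.1) _ = _
      rw [ap_mul, ρa, map_neg, ρb]
    have hord : orderOf ρ = 4 := by
      refine orderOf_eq_prime_pow (p := 2) (n := 1) ?_ ?_
      · intro h
        rw [pow_one] at h
        rw [h] at h2
        exact neq_neg hba0 (h2.symm.trans (ap_one _))
      · refine Subtype.ext (E.fixes_ext (hHfix _) E.fixes_one fun y hy => ?_)
        obtain ⟨p, q, r, rfl⟩ := hy
        have e4 : ((ρ ^ 2 ^ (1 + 1) : H) : Cfsg.isometryGroup F (⇑Q)) = ρ.1 * ρ.1 * (ρ.1 * ρ.1) := by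
          rw [SubgroupClass.coe_pow]; norm_num [pow_succ, mul_assoc]
        rw [e4, OneMemClass.coe_one, ap_one]
        simp only [vec, map_add, map_smul, ap_mul, ρa, ρb, ρe, map_neg, neg_neg]
    rw [← hord]
    have : orderOf (⟨ρ, ρe⟩ : A) ∣ Nat.card A := orderOf_dvd_natCard _
    rwa [← Subgroup.orderOf_coe] at this
  have hBev : 2 ∣ Nat.card Bb := by
    have hord : orderOf J = 2 := by
      refine orderOf_eq_prime ?_ (fun h => ?_)
      · refine Subtype.ext (E.fixes_ext (hHfix _) E.fixes_one fun y hy => ?_)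
        obtain ⟨p, q, r, rfl⟩ := hy
        rw [SubgroupClass.coe_pow, pow_two, OneMemClass.coe_one, ap_one]
        simp only [vec, map_add, map_smul, ap_mul, Ja, Jb, Je, map_neg, neg_neg]
      · rw [h] at Ja; exact neq_neg hba0 (Ja.symm.trans (ap_one _))
    rw [← hord]
    have : orderOf (⟨J, Jb⟩ : Bb) ∣ Nat.card Bb := orderOf_dvd_natCard _
    rwa [← Subgroup.orderOf_coe] at this
  have ru : ap R.1 E.u = (-1 : F) • E.u + (2 * E.α) • B.b E.a := by
    show ap (rr Q _ * rr Q _) E.u = _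
    rw [ap_mul, B.rr_self hu0, map_neg, B.rr_apply_one (B.ip_b_self _), B.ip_b_left]
    simp only [α]; module
  have ra : ap R.1 (B.b E.a) = (4 * (E.α * E.α) - 1) • B.b E.a + (-2 * E.α) • E.u := by
    show ap (rr Q _ * rr Q _) (B.b E.a) = _
    rw [ap_mul, B.rr_apply_one E.hu, map_sub, map_smul, nega, B.rr_apply_one (B.ip_b_self _), B.ip_b_left,
      B.ip_b_right]
    simp only [α]; module
  have hRb : R ∈ Bb := by
    show ap (rr Q _ * rr Q _) (B.b E.b) = B.b E.b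
    rw [ap_mul, B.rr_fix hu0 (by rw [B.ip_b_right]; exact hβ), fixa _ coab]
  have indep : ∀ s t : F, s • B.b E.a + t • E.u = 0 → s = 0 ∧ t = 0 := by
    intro s t h
    have e : E.vec (s + t * E.α) (t * E.β) t = s • B.b E.a + t • E.u := by simp only [vec, e']; module
    rw [h, ← E.vec_zero] at e
    obtain ⟨h1, -, h3⟩ := E.vec_inj e
    exact ⟨by rw [h3] at h1; linear_combination h1, h3⟩
  have hR1 : R ≠ 1 ∧ R ≠ J := by
    constructor <;> intro h <;> rw [h] at ra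
    · have hone : ap (1 : H).1 (B.b E.a) = B.b E.a := ap_one _
      rw [hone] at ra
      have := (indep (4 * (E.α * E.α) - 2) (-2 * E.α) (by linear_combination (norm := module) -ra)).2
      exact mul_ne_zero (neg_ne_zero.mpr B.two) hα0 this
    · rw [Ja] at ra
      have := (indep (4 * (E.α * E.α)) (-2 * E.α) (by linear_combination (norm := module) -ra)).2
      exact mul_ne_zero (neg_ne_zero.mpr B.two) hα0 this
  have hJ1 : J ≠ 1 := fun h => by rw [h] at Ja; exact neq_neg hba0 (Ja.symm.trans (ap_one _))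
  have hB4 : 4 ≤ Nat.card Bb := by
    have h3 : ({1, J, R} : Finset H).card ≤ (Finset.univ.filter fun g => g ∈ Bb).card := by
      refine Finset.card_le_card fun g hg => ?_
      simp only [Finset.mem_insert, Finset.mem_singleton] at hg
      simp only [Finset.mem_filter, Finset.mem_univ, true_and]
      rcases hg with rfl | rfl | rfl
      exacts [Bb.one_mem, Jb, hRb]
    rw [Finset.card_insert_of_notMem (by simp [hJ1.symm, Ne.symm hR1.1]), Finset.card_pair (Ne.symm hR1.2),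
      ← Fintype.card_subtype, ← Nat.card_eq_fintype_card] at h3
    omega
  by_cases hAB : ∀ x, cj x A ≠ Bb
  · exact hP.two_classes_false hAS hBS hAB (by
      have := Nat.card_pos (α := A)
      obtain ⟨k, hk⟩ := hA4; omega) hB4 hfA hfB
  push Not at hAB
  obtain ⟨x₀, hx₀⟩ := hAB
  by_cases hA8 : 8 ≤ Nat.card A
  · refine hP.one_class_false hAS (by omega) hfA {A, Bb, Ba} ?_ ?_
    · have n1 : A ≠ Bb := fun h => neq_e (Je.symm.trans (h ▸ (show J ∈ Bb from Jb) : J ∈ A))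
      have n2 : A ≠ Ba := fun h => by
        have h1 : ρ ∈ Ba := h ▸ (show ρ ∈ A from ρe)
        have := congrArg (fun y => B.co y E.a) (ρa.symm.trans h1)
        simp [B.co_neg, B.co_b, E.hab.symm] at this
      have n3 : Bb ≠ Ba := fun h => neq_neg hba0 (Ja.symm.trans (h ▸ (show J ∈ Bb from Jb) : J ∈ Ba))
      rw [Finset.card_insert_of_notMem (by simp [n1, n2]), Finset.card_pair n3]
      omega
    · intro D hD
      simp only [Finset.mem_insert, Finset.mem_singleton] at hD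
      rcases hD with rfl | rfl | rfl
      · exact ⟨1, cj_one _⟩
      · exact ⟨x₀, hx₀⟩
      · exact ⟨ρ * x₀, by rw [cj_mul, hx₀, hBb, hcj, ρb]⟩
  have hcard : Nat.card Bb = 4 := by
    rw [← hx₀, show Nat.card (cj x₀ A) = Nat.card A from
      (Nat.card_congr (A.equivMapOfInjective _ (MulAut.conj x₀).injective).toEquiv).symm]
    have := Nat.card_pos (α := A)
    obtain ⟨k, hk⟩ := hA4; omega
  have hR4 : R ^ 4 = 1 := by
    have := congrArg Subtype.val (pow_card_eq_one' (G := Bb) (x := ⟨R, hRb⟩))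
    rw [hcard] at this
    simpa using this
  have h4 : ap R.1 (ap R.1 (ap R.1 (ap R.1 (B.b E.a)))) = B.b E.a := by
    have h := congrArg (fun g : H => ap g.1 (B.b E.a)) hR4
    simp only [SubgroupClass.coe_pow, pow_succ, pow_zero, one_mul, Subgroup.coe_mul, ap_mul, OneMemClass.coe_one, ap_one] at h
    exact h
  set τ := 4 * (E.α * E.α) - 2 with hτ
  have hτ0 : τ ≠ 0 := fun h => hα2 (mul_left_cancel₀ B.two (by rw [hτ] at h; linear_combination h))
  have hr2 : ap R.1 (ap R.1 (B.b E.a)) = τ • ap R.1 (B.b E.a) - B.b E.a := by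
    rw [ra, map_add, map_smul, map_smul, ra, ru, hτ]; module
  rw [hr2] at h4
  simp only [map_sub, map_smul, hr2, smul_sub, smul_smul] at h4
  rw [ra] at h4
  obtain ⟨e1, e2⟩ := indep ((τ * τ * τ - 2 * τ) * (4 * (E.α * E.α) - 1) - τ * τ)
    ((τ * τ * τ - 2 * τ) * (-2 * E.α)) (by linear_combination (norm := module) h4)
  have hz : τ * τ * τ - 2 * τ = 0 :=
    (mul_eq_zero.mp e2).resolve_right (mul_ne_zero (neg_ne_zero.mpr B.two) hα0)
  rw [hz, zero_mul, zero_sub, neg_eq_zero] at e1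
  exact hτ0 (mul_self_eq_zero.mp e1)

include hM huR in
/-- Two opposite root groups when the third vector meets both frame vectors and the space has their transposition. -/
theorem exists_roots_sw (hp : (Fintype.card F).Prime) (hn : 5 ≤ Fintype.card ι)
    (hsw : rr Q (B.b E.a - (1 : F) • B.b E.b) ∈ E.G3 K o)
    (hβ : E.β ≠ 0) (hα0 : E.α ≠ 0) (hα1 : 1 - E.α * E.α ≠ 0)
    (hα2 : 2 * (E.α * E.α) ≠ 1) (hα4 : 4 * (E.α * E.α) ≠ 1) : ∃ v x z, E.Roots K o v x z := by
  classical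
  obtain ⟨ha, hb, hu, he'⟩ := E.gens_mem hM huR
  have hdrr : ∀ y, B.ip y y ≠ 0 → detHom Q (rr Q y) = -1 := fun y hy => detHom_rr y (B.q_ne hy)
  have hne1 : ∀ i, B.ip (B.b i) (B.b i) ≠ 0 := fun i => by rw [B.ip_b_self]; exact one_ne_zero
  by_cases hU : ∃ g ∈ E.G3 K o, detHom Q g = 1 ∧ g ≠ 1 ∧ ∃ v, E.InE v ∧ v ≠ 0 ∧ B.ip v v = 0 ∧ ap g v = v
  · obtain ⟨g, hg, hdet, hg1, v, hvE, hv0, hvv, hgv⟩ := hU
    obtain ⟨p, q, r, rfl⟩ := id hvE
    obtain ⟨σ, hσ, hσdet, hσne⟩ : ∃ σ ∈ E.G3 K o, detHom Q σ = -1 ∧ B.ip (E.vec p q r) (ap σ (E.vec p q r)) ≠ 0 := by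
      have key : ∀ y, B.ip y y ≠ 0 → B.ip (E.vec p q r) (ap (rr Q y) (E.vec p q r)) =
          -(2 * (B.ip y (E.vec p q r) * B.ip y (E.vec p q r)) / B.ip y y) := fun y hy => by
        rw [B.rr_apply hy, B.ip_sub_right, hvv, B.ip_smul_right, B.ip_comm (E.vec p q r) y]
        field_simp
        ring
      have nzy : ∀ y, B.ip y y ≠ 0 → B.ip y (E.vec p q r) ≠ 0 →
          B.ip (E.vec p q r) (ap (rr Q y) (E.vec p q r)) ≠ 0 := fun y hy h => by
        rw [key y hy, neg_ne_zero]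
        exact div_ne_zero (mul_ne_zero B.two (mul_ne_zero h h)) hy
      by_cases hp0 : p = 0
      · by_cases hq0 : q = 0
        · refine ⟨_, he', hdrr _ (by rw [E.ip_e']; exact E.hD), nzy _ (by rw [E.ip_e']; exact E.hD) ?_⟩
          rw [E.ip_e'_vec]
          exact mul_ne_zero E.hD fun hr => hv0 (by rw [hp0, hq0, hr, E.vec_zero])
        · exact ⟨_, hb, hdrr _ (hne1 _), nzy _ (hne1 _) (by rw [B.ip_b_left, E.co_vec_b]; exact hq0)⟩
      · exact ⟨_, ha, hdrr _ (hne1 _), nzy _ (hne1 _) (by rw [B.ip_b_left, E.co_vec_a]; exact hp0)⟩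
    set β := B.ip (E.vec p q r) (ap σ (E.vec p q r)) with hβ
    set x := β⁻¹ • ap σ (E.vec p q r) with hx
    have hxE : E.InE x := E.inE_smul _ (E.fixes_inE hσ.1 hvE)
    have hww : B.ip x x = 0 := by rw [hx, B.ip_smul_left, B.ip_smul_right, B.ip_ap, hvv]; ring
    have hvw : B.ip (E.vec p q r) x = 1 := by rw [hx, B.ip_smul_right, ← hβ, inv_mul_cancel₀ hσne]
    obtain ⟨p', q', r', hxv⟩ := id hxE
    set z := E.cross p q r p' q' r' with hz
    obtain ⟨hz1, hz2, hz3⟩ := E.ip_cross p q r p' q' r'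
    rw [← hxv, ← hz] at hz2 hz3
    rw [← hz] at hz1
    rw [hvv, hww, hvw] at hz3
    have hzz : B.ip z z ≠ 0 := by
      rw [hz3, zero_mul, zero_sub, one_mul, mul_neg, mul_one, neg_ne_zero]; exact E.hD
    rw [B.ip_comm] at hz1 hz2
    have hzE : E.InE z := E.inE_vec _ _ _
    refine ⟨E.vec p q r, x, z, hvE, hxE, hzE, hvv, hww, hvw, hz1, hz2, hzz,
      E.root_group hp hn hvE hxE hzE hvv hww hvw hz1 hz2 hzz hg hdet hg1 hgv,
      E.root_group hp hn hxE hvE hzE hww hvv (by rw [B.ip_comm]; exact hvw) hz2 hz1 hzz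
        ((E.G3 K o).mul_mem ((E.G3 K o).mul_mem hσ hg) ((E.G3 K o).inv_mem hσ))
        (by rw [map_mul, map_mul, map_inv, hdet, mul_one, mul_inv_cancel])
        (fun h => hg1 (by
          have := congrArg (fun y => σ⁻¹ * y * σ) h
          simpa [mul_assoc] using this)) ?_⟩
    rw [hx, map_smul, ap_mul, ap_mul, ap_inv_ap, hgv]
  exfalso
  push Not at hU
  let H : Subgroup (Cfsg.isometryGroup F (⇑Q)) := E.G3 K o ⊓ (detHom Q).ker
  have hHfix : ∀ g : H, E.Fixes g.1 := fun g => g.2.1.1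
  have hHdet : ∀ g : H, detHom Q g.1 = 1 := fun g => g.2.2
  let C : (ι → F) → Subgroup H := fun v =>
    { carrier := {g | ap g.1 v = v}
      mul_mem' := fun {g h} (hg : ap g.1 v = v) (hh : ap h.1 v = v) => by
        show ap (g.1 * h.1) v = v
        rw [ap_mul, hh, hg]
      one_mem' := by show ap (1 : Cfsg.isometryGroup F (⇑Q)) v = v; exact ap_one v
      inv_mem' := fun {g} (hg : ap g.1 v = v) => by
        show ap g.1⁻¹ v = v
        conv_lhs => rw [← hg, ap_inv_ap] }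
  have hCmem : ∀ (v : ι → F) (g : H), g ∈ C v ↔ ap g.1 v = v := fun v g => Iff.rfl
  have hprop : ∀ {g : H}, g ≠ 1 → ∀ {v y : ι → F}, E.InE v → v ≠ 0 → E.InE y → ap g.1 v = v → ap g.1 y = y →
      ∃ t : F, y = t • v := by
    intro g hg v y hv hv0 hy hgv hgy
    obtain ⟨p, q, r, rfl⟩ := hv
    obtain ⟨p', q', r', rfl⟩ := hy
    by_cases hN : E.cross p q r p' q' r' = 0
    · exact E.cross_zero hN hv0
    · exact absurd (Subtype.ext (E.eq_one_of_two (hHfix g) (hHdet g) hN hgv hgy)) hg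
  have hCsmul : ∀ (v : ι → F) (t : F), t ≠ 0 → C (t • v) = C v := fun v t ht => by
    ext g
    rw [hCmem, hCmem, map_smul]
    exact (smul_right_injective _ ht).eq_iff
  have hcj : ∀ (x : H) (v : ι → F), cj x (C v) = C (ap x.1 v) := fun x v => by
    ext g
    rw [mem_cj, hCmem, hCmem]
    show ap (x.1⁻¹ * g.1 * x.1) v = v ↔ _
    rw [ap_mul, ap_mul]
    exact ⟨fun h => by
      have h' := congrArg (ap x.1) h
      rwa [ap_ap_inv] at h', fun h => by rw [h, ap_inv_ap]⟩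
  set S : Set (Subgroup H) := {A | ∃ v, E.InE v ∧ B.ip v v ≠ 0 ∧ A = C v ∧ A ≠ ⊥} with hSdef
  have hP : AxisPartition H S := by
    refine ⟨fun g hg => ?_, ?_, ?_, ?_⟩
    · obtain ⟨v, hvE, hv0, hgv⟩ := E.exists_fixed (hHfix g) (hHdet g)
      have hvv : B.ip v v ≠ 0 := fun h => hU g.1 g.2.1 (hHdet g) (fun h1 => hg (Subtype.ext h1)) v hvE hv0 h hgv
      exact ⟨C v, ⟨v, hvE, hvv, rfl, fun h => hg (Subgroup.mem_bot.mp (h ▸ hgv))⟩, hgv⟩
    · rintro _ ⟨v, hvE, hvv, rfl, -⟩ _ ⟨y, hyE, hyy, rfl, -⟩ g hg hgv hgy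
      obtain ⟨t, rfl⟩ := hprop hg hvE (fun h => hvv (by rw [h, B.ip_zero_left])) hyE hgv hgy
      exact (hCsmul v t fun ht => hyy (by rw [ht, zero_smul, B.ip_zero_left])).symm
    · rintro _ ⟨v, hvE, hvv, rfl, hne⟩ x
      refine ⟨ap x.1 v, E.fixes_inE (hHfix x) hvE, by rwa [B.ip_ap], hcj x v, fun h => hne ?_⟩
      have := congrArg (cj x⁻¹) h
      rw [← cj_mul, inv_mul_cancel, cj_one] at this
      rw [this]; exact Subgroup.map_bot _
    · rintro _ ⟨v, hvE, hvv, rfl, hne⟩ x y hx hy hxn hyn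
      obtain ⟨g, hg, hg1⟩ := (Subgroup.ne_bot_iff_exists_ne_one.mp hne : ∃ a : C v, a ≠ 1) |> fun ⟨a, ha⟩ =>
        (⟨a.1, a.2, fun h => ha (Subtype.ext h)⟩ : ∃ a : H, a ∈ C v ∧ a ≠ 1)
      have key : ∀ x : H, cj x (C v) = C v → x ∉ C v → ap x.1 v = -v := by
        intro x hx hxn
        rw [hcj] at hx
        have hgx : ap g.1 (ap x.1 v) = ap x.1 v := by
          have : g ∈ C (ap x.1 v) := by rw [hx]; exact hg
          exact this
        obtain ⟨t, ht⟩ := hprop hg1 hvE (fun h => hvv (by rw [h, B.ip_zero_left]))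
          (E.fixes_inE (hHfix x) hvE) hg hgx
        have h2 := B.ip_ap x.1 v v
        rw [ht, B.ip_smul_left, B.ip_smul_right, ← mul_assoc] at h2
        rcases mul_self_eq_one_iff.mp ((mul_eq_right₀ hvv).mp h2) with h | h
        · exact absurd (show ap x.1 v = v by rw [ht, h, one_smul]) hxn
        · rw [ht, h, neg_one_smul]
      show ap (x.1 * y.1) v = v
      rw [ap_mul, key y hy hyn, map_neg, key x hx hxn, neg_neg]
  have hH : ∀ {y y' : ι → F}, rr Q y ∈ E.G3 K o → rr Q y' ∈ E.G3 K o → B.ip y y ≠ 0 → B.ip y' y' ≠ 0 →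
      rr Q y * rr Q y' ∈ H := fun {y y'} h h' hn' hn'' => Subgroup.mem_inf.mpr ⟨(E.G3 K o).mul_mem h h', by
    rw [MonoidHom.mem_ker, map_mul, hdrr y hn', hdrr y' hn'', neg_mul_neg, one_mul]⟩
  have he'0 : B.ip E.e' E.e' ≠ 0 := by rw [E.ip_e']; exact E.hD
  have hr0 : B.ip (B.b E.a - (1 : F) • B.b E.b) (B.b E.a - (1 : F) • B.b E.b) ≠ 0 := by
    rw [B.ip_root E.hab (one_mul 1)]; exact B.two
  have hu0 : B.ip E.u E.u ≠ 0 := by rw [E.hu]; exact one_ne_zero
  have fixa : ∀ y, B.co y E.a = 0 → ap (rr Q (B.b E.a)) y = y := fun y h =>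
    B.rr_fix (hne1 _) (by rw [B.ip_b_left]; exact h)
  have fixe : ∀ y, B.ip E.e' y = 0 → ap (rr Q E.e') y = y := fun y h => B.rr_fix he'0 h
  have nega : ap (rr Q (B.b E.a)) (B.b E.a) = -B.b E.a := B.rr_self (hne1 _)
  have coab : B.co (B.b E.b) E.a = 0 := by rw [B.co_b, if_neg E.hab.symm]
  have coba : B.co (B.b E.a) E.b = 0 := by rw [B.co_b, if_neg E.hab]
  set ρ : H := ⟨_, hH hsw ha hr0 (hne1 _)⟩ with hρ
  set J : H := ⟨_, hH ha he' (hne1 _) he'0⟩ with hJ
  set R : H := ⟨_, hH ha hu (hne1 _) hu0⟩ with hR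
  set fl : H := ⟨_, hH ha hb (hne1 _) (hne1 _)⟩ with hfl
  have ρe : ap ρ.1 E.e' = E.e' := by
    show ap (rr Q _ * rr Q _) E.e' = E.e'
    rw [ap_mul, fixa _ E.co_e'_a, B.rr_fix hr0 (by
      rw [B.ip_sub_left, B.ip_smul_left, B.ip_b_left, B.ip_b_left, E.co_e'_a, E.co_e'_b]; ring)]
  have ρa : ap ρ.1 (B.b E.a) = -B.b E.b := by
    show ap (rr Q _ * rr Q _) (B.b E.a) = _
    rw [ap_mul, nega, map_neg, B.rr_root E.hab (one_mul 1), if_pos rfl, one_smul]
  have ρb : ap ρ.1 (B.b E.b) = B.b E.a := by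
    show ap (rr Q _ * rr Q _) (B.b E.b) = _
    rw [ap_mul, fixa _ coab, B.rr_root E.hab (one_mul 1), if_neg E.hab.symm, if_pos rfl, one_smul]
  have Jb : ap J.1 (B.b E.b) = B.b E.b := by
    show ap (rr Q _ * rr Q _) (B.b E.b) = _
    rw [ap_mul, fixe _ (by rw [B.ip_b_right]; exact E.co_e'_b), fixa _ coab]
  have Ja : ap J.1 (B.b E.a) = -B.b E.a := by
    show ap (rr Q _ * rr Q _) (B.b E.a) = _
    rw [ap_mul, fixe _ (by rw [B.ip_b_right]; exact E.co_e'_a), nega]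
  have Je : ap J.1 E.e' = -E.e' := by
    show ap (rr Q _ * rr Q _) E.e' = _
    rw [ap_mul, B.rr_self he'0, map_neg, fixa _ E.co_e'_a]
  have hba0 : B.b E.a ≠ 0 := B.b_ne_zero _
  have neq_neg : ∀ {y : ι → F}, y ≠ 0 → -y ≠ y := fun {y} hy h => hy (by
    have : (2 : F) • y = 0 := by
      rw [two_smul]; nth_rewrite 1 [← h]; exact neg_add_cancel y
    exact (smul_eq_zero.mp this).resolve_left B.two)
  have neq_e : -E.e' ≠ E.e' := neq_neg fun h => he'0 (by rw [h, B.ip_zero_left])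
  set A := C E.e' with hA
  set Bb := C (B.b E.b) with hBb
  set Ba := C (B.b E.a) with hBa
  have hAS : A ∈ S := ⟨_, E.inE_e', he'0, rfl, fun h => by
    have h1 : ρ = 1 := Subgroup.mem_bot.mp (h ▸ (show ρ ∈ A from ρe))
    rw [h1] at ρb
    exact E.hab (by
      have := congrArg (fun y => B.co y E.a) ((ap_one (B.b E.b)).symm.trans ρb)
      simp [B.co_b, E.hab.symm] at this)⟩
  have hBS : Bb ∈ S := ⟨_, E.inE_b, hne1 _, rfl, fun h => by
    have h1 : J = 1 := Subgroup.mem_bot.mp (h ▸ (show J ∈ Bb from Jb))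
    rw [h1] at Ja
    exact neq_neg hba0 (Ja.symm.trans (ap_one _))⟩
  have hfA : ∃ x, cj x A = A ∧ x ∉ A := ⟨J, by rw [hA, hcj, Je, ← neg_one_smul F E.e',
    hCsmul _ _ (neg_ne_zero.mpr one_ne_zero)], fun h => neq_e (Je.symm.trans h)⟩
  have hfB : ∃ x, cj x Bb = Bb ∧ x ∉ Bb := by
    have hb' : ap fl.1 (B.b E.b) = -B.b E.b := by
      show ap (rr Q _ * rr Q _) (B.b E.b) = _
      rw [ap_mul, B.rr_self (hne1 _), map_neg, fixa _ coab]
    refine ⟨fl, ?_, fun h => neq_neg (B.b_ne_zero E.b) (hb'.symm.trans h)⟩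
    rw [hBb, hcj, hb', ← neg_one_smul F (B.b E.b), hCsmul _ _ (neg_ne_zero.mpr one_ne_zero)]
  -- orders
  haveI : Fintype H := Fintype.ofFinite H
  have hA4 : 4 ∣ Nat.card A := by
    have h2 : ap (ρ ^ 2).1 (B.b E.a) = -B.b E.a := by
      rw [pow_two]; show ap (ρ.1 * ρ.1) _ = _
      rw [ap_mul, ρa, map_neg, ρb]
    have hord : orderOf ρ = 4 := by
      refine orderOf_eq_prime_pow (p := 2) (n := 1) ?_ ?_
      · intro h
        rw [pow_one] at h
        rw [h] at h2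
        exact neq_neg hba0 (h2.symm.trans (ap_one _))
      · refine Subtype.ext (E.fixes_ext (hHfix _) E.fixes_one fun y hy => ?_)
        obtain ⟨p, q, r, rfl⟩ := hy
        have e4 : ((ρ ^ 2 ^ (1 + 1) : H) : Cfsg.isometryGroup F (⇑Q)) = ρ.1 * ρ.1 * (ρ.1 * ρ.1) := by
          rw [SubgroupClass.coe_pow]; norm_num [pow_succ, mul_assoc]
        rw [e4, OneMemClass.coe_one, ap_one]
        simp only [vec, map_add, map_smul, ap_mul, ρa, ρb, ρe, map_neg, neg_neg]
    rw [← hord]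
    have : orderOf (⟨ρ, ρe⟩ : A) ∣ Nat.card A := orderOf_dvd_natCard _
    rwa [← Subgroup.orderOf_coe] at this
  have ru : ap R.1 E.u = (-1 : F) • E.u + (2 * E.α) • B.b E.a := by
    show ap (rr Q _ * rr Q _) E.u = _
    rw [ap_mul, B.rr_self hu0, map_neg, B.rr_apply_one (B.ip_b_self _), B.ip_b_left]
    simp only [α]; module
  have ra : ap R.1 (B.b E.a) = (4 * (E.α * E.α) - 1) • B.b E.a + (-2 * E.α) • E.u := by
    show ap (rr Q _ * rr Q _) (B.b E.a) = _
    rw [ap_mul, B.rr_apply_one E.hu, map_sub, map_smul, nega, B.rr_apply_one (B.ip_b_self _), B.ip_b_left,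
      B.ip_b_right]
    simp only [α]; module
  have indep : ∀ s t : F, s • B.b E.a + t • E.u = 0 → s = 0 ∧ t = 0 := by
    intro s t h
    have e : E.vec (s + t * E.α) (t * E.β) t = s • B.b E.a + t • E.u := by simp only [vec, e']; module
    rw [h, ← E.vec_zero] at e
    obtain ⟨h1, -, h3⟩ := E.vec_inj e
    exact ⟨by rw [h3] at h1; linear_combination h1, h3⟩
  have hR1 : R ≠ 1 := fun h => by
    rw [h] at ra
    have hone : ap (1 : H).1 (B.b E.a) = B.b E.a := ap_one _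
    rw [hone] at ra
    have := (indep (4 * (E.α * E.α) - 2) (-2 * E.α) (by linear_combination (norm := module) -ra)).2
    exact mul_ne_zero (neg_ne_zero.mpr B.two) hα0 this
  set wx := E.vec 0 (-E.D) E.β with hwx
  have hwxE : E.InE wx := E.inE_vec _ _ _
  have hwx0 : B.ip wx wx ≠ 0 := by
    rw [hwx, E.ip_vec_vec, show (0 : F) * 0 + -E.D * -E.D + E.D * (E.β * E.β) = E.D * (1 - E.α * E.α) by
      simp only [D]; ring]
    exact mul_ne_zero E.hD hα1
  have hwxa : B.co wx E.a = 0 := E.co_vec_a _ _ _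
  set Cx := C wx with hCx
  have hRx : R ∈ Cx := by
    show ap (rr Q _ * rr Q _) wx = wx
    rw [ap_mul, B.rr_fix hu0 (by rw [hwx, E.vec_u, E.ip_vec_vec]; ring), fixa _ hwxa]
  have hCS : Cx ∈ S := ⟨_, hwxE, hwx0, rfl, fun h => hR1 (Subgroup.mem_bot.mp (h ▸ hRx))⟩
  have hfC : ∃ x, cj x Cx = Cx ∧ x ∉ Cx := by
    set Ka : H := ⟨_, hH hb he' (hne1 _) he'0⟩
    have hK : ap Ka.1 wx = -wx := by
      show ap (rr Q _ * rr Q _) wx = _
      have r1 : ap (rr Q E.e') wx = E.vec 0 (-E.D) (-E.β) := by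
        rw [B.rr_apply he'0, hwx, E.ip_e'_vec, E.ip_e', mul_div_assoc, mul_div_cancel_left₀ _ E.hD]
        simp only [vec]; module
      rw [ap_mul, r1, B.rr_apply_one (B.ip_b_self _), B.ip_b_left, E.co_vec_b, hwx]
      simp only [vec]; module
    refine ⟨Ka, ?_, fun h => neq_neg (fun h0 => hwx0 (by rw [h0, B.ip_zero_left])) (hK.symm.trans h)⟩
    rw [hCx, hcj, hK, ← neg_one_smul F wx, hCsmul _ _ (neg_ne_zero.mpr one_ne_zero)]
  -- the images of the axis
  set y₁ := ap R.1 E.e' with hy₁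
  have hy₁v : y₁ = E.vec (2 * E.D * E.α) (-(2 * E.D * E.β)) (1 - 2 * E.D) := by
    have hue : B.ip E.u E.e' = E.D := by rw [B.ip_comm, E.vec_u, E.ip_e'_vec, mul_one]
    show ap (rr Q _ * rr Q _) E.e' = _
    rw [ap_mul, B.rr_apply_one E.hu, hue, map_sub, map_smul, fixa _ E.co_e'_a, B.rr_apply_one (B.ip_b_self _),
      B.ip_b_left]
    simp only [vec, e', α, β]; module
  have hρy : ap ρ.1 y₁ = E.vec (-(2 * E.D * E.β)) (-(2 * E.D * E.α)) (1 - 2 * E.D) := by
    rw [hy₁v]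
    simp only [vec, map_add, map_smul, ρa, ρb, ρe]; module
  have hy₁E : E.InE y₁ := E.fixes_inE (hHfix R) E.inE_e'
  have hy₁0 : y₁ ≠ 0 := fun h => he'0 (by rw [← B.ip_ap R.1 E.e' E.e', ← hy₁, h, B.ip_zero_left])
  have hCy₁ : cj R A = C y₁ := hcj R E.e'
  have hρ1 : ρ ≠ 1 := fun h1 => by
    rw [h1] at ρb
    exact E.hab (by
      have := congrArg (fun y => B.co y E.a) ((ap_one (B.b E.b)).symm.trans ρb)
      simp [B.co_b, E.hab.symm] at this)
  have he'ne : E.e' ≠ 0 := fun h => he'0 (by rw [h, B.ip_zero_left])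
  have hD2 : 2 * E.D ≠ 0 := mul_ne_zero B.two E.hD
  by_cases hA8 : 8 ≤ Nat.card A
  · refine hP.one_class_false hAS (by omega) hfA {A, C y₁, C (ap ρ.1 y₁)} ?_ ?_
    · have key : ∀ p q r : F, p ≠ 0 → A ≠ C (E.vec p q r) := by
        intro p q r hp h
        have hρm : ap ρ.1 (E.vec p q r) = E.vec p q r := (h ▸ (show ρ ∈ A from ρe) : ρ ∈ C (E.vec p q r))
        obtain ⟨t, ht⟩ := hprop hρ1 E.inE_e' he'ne (E.inE_vec p q r) ρe hρm
        rw [E.vec_e', E.vec_smul, mul_zero] at ht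
        exact hp (E.vec_inj ht).1
      have n1 : A ≠ C y₁ := by
        rw [hy₁v]; exact key _ _ _ (mul_ne_zero hD2 hα0)
      have n2 : A ≠ C (ap ρ.1 y₁) := by
        rw [hρy]; exact key _ _ _ (neg_ne_zero.mpr (mul_ne_zero hD2 hβ))
      have n3 : C y₁ ≠ C (ap ρ.1 y₁) := by
        intro h
        have hg : R * ρ * R⁻¹ ∈ C y₁ := by
          rw [← hCy₁, mem_cj]
          simpa [mul_assoc] using (show ρ ∈ A from ρe)
        obtain ⟨t, ht⟩ := hprop (g := R * ρ * R⁻¹) (fun h1 => hρ1 (conj_eq_one_iff.mp h1)) hy₁E hy₁0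
          (E.fixes_inE (hHfix ρ) hy₁E) hg ((h ▸ hg) : R * ρ * R⁻¹ ∈ C (ap ρ.1 y₁))
        have h2 := B.ip_ap ρ.1 y₁ y₁
        rw [ht, B.ip_smul_left, B.ip_smul_right, ← mul_assoc] at h2
        have hyy : B.ip y₁ y₁ ≠ 0 := by rw [hy₁, B.ip_ap]; exact he'0
        rw [hρy, hy₁v, E.vec_smul] at ht
        obtain ⟨h3, h4, -⟩ := E.vec_inj ht
        apply mul_ne_zero hD2 hα0
        rcases mul_self_eq_one_iff.mp ((mul_eq_right₀ hyy).mp h2) with rfl | rfl
        · exact (mul_eq_zero.mp (show (2 : F) * (2 * E.D * E.α) = 0 by linear_combination -h3 - h4)).resolve_left B.two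
        · exact (mul_eq_zero.mp (show (2 : F) * (2 * E.D * E.α) = 0 by linear_combination h3 - h4)).resolve_left B.two
      rw [Finset.card_insert_of_notMem (by simp [n1, n2]), Finset.card_pair n3]
      omega
    · intro D hD
      simp only [Finset.mem_insert, Finset.mem_singleton] at hD
      rcases hD with rfl | rfl | rfl
      · exact ⟨1, cj_one _⟩
      · exact ⟨R, hCy₁⟩
      · exact ⟨ρ * R, by rw [cj_mul, hCy₁, hcj]⟩
  have hA : Nat.card A = 4 := by
    have := Nat.card_pos (α := A)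
    obtain ⟨k, hk⟩ := hA4; omega
  have hC4 : Nat.card Cx ≤ 4 := by
    by_contra h5
    refine hP.two_classes_false hAS hCS (fun x hx => h5 ?_) (by omega) (by omega) hfA hfC
    rw [← hx, show Nat.card (cj x A) = Nat.card A from
      (Nat.card_congr (A.equivMapOfInjective _ (MulAut.conj x).injective).toEquiv).symm, hA]
  set τ := 4 * (E.α * E.α) - 2 with hτ
  have hτ0 : τ ≠ 0 := fun h => hα2 (mul_left_cancel₀ B.two (by rw [hτ] at h; linear_combination h))
  have hr2 : ap R.1 (ap R.1 (B.b E.a)) = τ • ap R.1 (B.b E.a) - B.b E.a := by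
    rw [ra, map_add, map_smul, map_smul, ra, ru, hτ]; module
  have hpow : R ^ Nat.card Cx = 1 := by
    have h := congrArg Subtype.val (pow_card_eq_one' (G := Cx) (x := ⟨R, hRx⟩))
    exact h
  have hfix : ∀ n : ℕ, R ^ n = 1 → (ap R.1)^[n] (B.b E.a) = B.b E.a := by
    intro n hn
    have : ∀ m : ℕ, ∀ y, (ap R.1)^[m] y = ap (R ^ m : H).1 y := fun m => by
      induction m with
      | zero => intro y; simp [ap_one]
      | succ m ih =>
        intro y
        rw [Function.iterate_succ_apply', ih, pow_succ']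
        exact (ap_mul R.1 (R ^ m : H).1 y).symm
    rw [this, hn]; exact ap_one _
  have h24 : (2 : F) * E.α ≠ 0 := mul_ne_zero B.two hα0
  have h4 := hfix _ hpow
  have hpos := Nat.card_pos (α := Cx)
  have coef : ∀ c₁ c₀ : F, c₁ • ap R.1 (B.b E.a) + c₀ • B.b E.a = 0 → c₁ = 0 ∧ c₀ = 0 := by
    intro c₁ c₀ h
    rw [ra] at h
    obtain ⟨e1, e2⟩ := indep (c₁ * (4 * (E.α * E.α) - 1) + c₀) (c₁ * (-2 * E.α))
      (by linear_combination (norm := module) h)
    have hz : c₁ = 0 := (mul_eq_zero.mp e2).resolve_right (mul_ne_zero (neg_ne_zero.mpr B.two) hα0)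
    rw [hz, zero_mul, zero_add] at e1
    exact ⟨hz, e1⟩
  obtain hc | hc | hc | hc : Nat.card Cx = 1 ∨ Nat.card Cx = 2 ∨ Nat.card Cx = 3 ∨ Nat.card Cx = 4 := by omega
  all_goals simp only [hc, Function.iterate_succ_apply', Function.iterate_zero_apply] at h4
  · exact one_ne_zero (coef 1 (-1) (by linear_combination (norm := module) h4)).1
  · rw [hr2] at h4
    exact hτ0 (coef τ (-2) (by linear_combination (norm := module) h4)).1
  · rw [hr2, map_sub, map_smul, hr2] at h4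
    obtain ⟨e1, e2⟩ := coef (τ * τ - 1) (-τ - 1) (by linear_combination (norm := module) h4)
    rw [hτ] at e2
    exact hα4 (by linear_combination -e2)
  · rw [hr2] at h4
    simp only [map_sub, map_smul, hr2, smul_sub, smul_smul] at h4
    obtain ⟨e1, e2⟩ := coef (τ * τ * τ - 2 * τ) (-(τ * τ)) (by linear_combination (norm := module) h4)
    exact hτ0 (mul_self_eq_zero.mp (neg_eq_zero.mp e2))

include hM huR in
/-- Two opposite root groups when the third vector meets both frame vectors. -/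
theorem exists_roots_full (hp : (Fintype.card F).Prime) (hn : 5 ≤ Fintype.card ι) {c e : κ} (hce : c ≠ e)
    (hca : c ≠ E.a) (hcb : c ≠ E.b) (hea : e ≠ E.a) (heb : e ≠ E.b) (hc : B.co E.u c = 0) (he : B.co E.u e = 0)
    (hβ : E.β ≠ 0) (hα0 : E.α ≠ 0) (hα1 : 1 - E.α * E.α ≠ 0)
    (hα2 : 2 * (E.α * E.α) ≠ 1) (hα4 : 4 * (E.α * E.α) ≠ 1) : ∃ v x z, E.Roots K o v x z :=
  E.exists_roots_sw hM huR hp hn (E.swap_mem (o := o) hM hce hca hcb hea heb hc he) hβ hα0 hα1 hα2 hα4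

end Tri

end Cfsg.Lib.Classical.OFr
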