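import Mathlib
import Cfsg.Agent.Classical.Orth.Frame.Axis

set_option autoImplicit false
set_option linter.unusedVariables false
set_option linter.unusedSimpArgs false
set_option linter.unusedSectionVars false
set_option linter.style.haveILetI false
set_option linter.flexible false

/-! Two root groups make all unit vectors of a three-space lie in `Rs`, and a singular line follows. -/

namespace Cfsg.Lib.Classical.OFr

open Matrix Cfsg.Lib.Classical.Refl

universe u w

variable {F : Type u} [Field F] [Fintype F] [DecidableEq F] {ι : Type} [Fintype ι] [DecidableEq ι]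
  {Q : QuadraticForm F (ι → F)} {κ : Type w} [Fintype κ] [DecidableEq κ] {B : OFrame Q κ}
  {K : Subgroup (Cfsg.isometryGroup F (⇑Q))} {o : κ}

/-- The values `1 - k s²` meet both square classes. -/
theorem exists_nonsquare_value (hp : (Fintype.card F).Prime) (h2 : (2 : F) ≠ 0) (h3 : (3 : F) ≠ 0) {k : F}
    (hk : k ≠ 0) : ∃ s : F, ¬ IsSquare (1 - k * (s * s)) := by
  by_contra hc
  push Not at hc
  set Sq := Finset.univ.image fun s : F => s * s with hSq
  have hmem : ∀ a : F, a ∈ Sq ↔ IsSquare a := fun a => by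
    simp only [hSq, Finset.mem_image, Finset.mem_univ, true_and, IsSquare, eq_comm]
  set φ : F → F := fun a => 1 - k * a with hφ
  have hinj : Function.Injective φ := fun a b h => mul_left_cancel₀ hk (sub_right_injective h)
  have himg : Sq.image φ = Sq := by
    refine Finset.eq_of_subset_of_card_le (fun x hx => ?_) (le_of_eq (Finset.card_image_of_injective _ hinj).symm)
    obtain ⟨a, ha, rfl⟩ := Finset.mem_image.mp hx
    obtain ⟨s, rfl⟩ := (hmem a).mp ha
    exact (hmem _).mpr (hc s)
  have key : ∀ a : F, IsSquare a → IsSquare (a - 3) := by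
    intro a ha
    have h4 : (4 : F) ≠ 0 := by
      rw [show (4 : F) = 2 * 2 by ring]; exact mul_ne_zero h2 h2
    have ha4 : a / 4 ∈ Sq := (hmem _).mpr (ha.div (⟨2, by ring⟩ : IsSquare (4 : F)))
    rw [← himg] at ha4
    obtain ⟨b, hb, hba⟩ := Finset.mem_image.mp ha4
    have hb4 : φ (4 * b) ∈ Sq.image φ := Finset.mem_image_of_mem φ ((hmem _).mpr
      (IsSquare.mul (⟨2, by ring⟩ : IsSquare (4 : F)) ((hmem b).mp hb)))
    rw [himg] at hb4
    have e : φ (4 * b) = a - 3 := by
      simp only [hφ] at hba ⊢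
      rw [eq_div_iff h4] at hba
      linear_combination hba
    rw [e] at hb4
    exact (hmem _).mp hb4
  have hall : ∀ j : ℕ, IsSquare ((j : F) * (-3)) := by
    intro j
    induction j with
    | zero => simp
    | succ j ih =>
      have := key _ ih
      rwa [show ((j + 1 : ℕ) : F) * (-3) = (j : F) * (-3) - 3 by push_cast; ring]
  obtain ⟨ν, hν⟩ := FiniteField.exists_nonsquare (F := F) (fun h => h2 (by
    haveI := ringChar.of_eq h; exact CharTwo.two_eq_zero))
  obtain ⟨j, hj⟩ := natCast_surj hp (ν / (-3))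
  have := hall j
  rw [hj, div_mul_cancel₀ _ (neg_ne_zero.mpr h3)] at this
  exact hν this

namespace Tri

variable {E : Tri B} {v x z : ι → F} (P : E.Roots K o v x z)
  (hM : ∀ g ∈ Cfsg.Omega F (⇑Q), B.Mono g → g ∈ K) (huR : E.u ∈ B.Rs K o)

include P

theorem roots_fibre {y₁ y : ι → F} (h₁ : y₁ ∈ B.Rs K o) (h₁E : E.InE y₁) (hyE : E.InE y) (hy : B.ip y y = 1)
    (hr : B.ip v y = B.ip v y₁) (hr0 : B.ip v y₁ ≠ 0) : y ∈ B.Rs K o := by
  set r := B.ip v y₁ with hr'
  set k := B.ip z z with hk
  have hQv : Q v = 0 := by rw [B.q_ip, P.vv, mul_zero]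
  set t := (B.ip z y - B.ip z y₁) / (2 * B.c * r * k) with ht
  have hvz : QuadraticMap.polar (⇑Q) v (t • z) = 0 := by
    rw [QuadraticMap.polar_smul_right, B.polar_ip, P.vz, mul_zero, smul_zero]
  have hS := P.rv t hQv hvz
  set y₂ := ap (siegelG Q hQv hvz) y₁ with hy₂
  have hy₂R : y₂ ∈ B.Rs K o := (hS.2 y₁ h₁E).mpr h₁
  have hy₂E : E.InE y₂ := E.fixes_inE hS.1 h₁E
  have e1 : B.ip v y₂ = r := by
    rw [hy₂, B.ap_siegelG]
    simp only [OFrame.ip_add_right, OFrame.ip_smul_right, P.vv, P.vz, ← hr']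
    ring
  have e2 : B.ip z y₂ = B.ip z y := by
    rw [hy₂, B.ap_siegelG]
    simp only [OFrame.ip_add_right, OFrame.ip_smul_right, B.ip_comm z v, P.vz, ← hr', ← hk]
    have : t * (2 * B.c * r * k) = B.ip z y - B.ip z y₁ :=
      div_mul_cancel₀ _ (mul_ne_zero (mul_ne_zero (mul_ne_zero B.two B.hc) hr0) P.zz)
    linear_combination this
  have hd := E.decomp P.mv P.mw P.mz P.vv P.ww P.vw P.vz P.wz P.zz hyE
  have hd₂ := E.decomp P.mv P.mw P.mz P.vv P.ww P.vw P.vz P.wz P.zz hy₂E
  rw [hr] at hd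
  rw [e1, e2] at hd₂
  have hp : B.ip x y₂ = B.ip x y := by
    have h1 := hy
    have h2 := B.rs_unit hy₂R
    rw [hd] at h1
    rw [hd₂] at h2
    simp only [OFrame.ip_add_left, OFrame.ip_add_right, OFrame.ip_smul_left, OFrame.ip_smul_right, P.vv, P.ww, P.vw,
      P.vz, P.wz, B.ip_comm x v, B.ip_comm z v, B.ip_comm z x] at h1 h2
    have : 2 * r * (B.ip x y₂ - B.ip x y) = 0 := by linear_combination h2 - h1
    exact sub_eq_zero.mp ((mul_eq_zero.mp this).resolve_left (mul_ne_zero B.two hr0))
  rw [hp] at hd₂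
  rw [hd, ← hd₂]
  exact hy₂R

include hM huR in
/-- All unit vectors of the space lie in `Rs`. -/
theorem units_mem (hp : (Fintype.card F).Prime) (h3 : (3 : F) ≠ 0) {y : ι → F} (hyE : E.InE y)
    (hy : B.ip y y = 1) : y ∈ B.Rs K o := by
  classical
  set k := B.ip z z with hk
  set Γ : Set F := {r | r ≠ 0 ∧ ∀ y, E.InE y → B.ip y y = 1 → B.ip v y = r → y ∈ B.Rs K o} with hΓ
  have hfib : ∀ y₁, y₁ ∈ B.Rs K o → E.InE y₁ → B.ip v y₁ ≠ 0 → B.ip v y₁ ∈ Γ := fun y₁ h₁ h₁E h0 =>
    ⟨h0, fun y hyE hy hr => roots_fibre P h₁ h₁E hyE hy hr h0⟩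
  let pt : F → F → F → (ι → F) := fun p r s => p • v + r • x + s • z
  have ptE : ∀ p r s, E.InE (pt p r s) := fun p r s =>
    E.inE_add (E.inE_add (E.inE_smul _ P.mv) (E.inE_smul _ P.mw)) (E.inE_smul _ P.mz)
  have ptv : ∀ p r s, B.ip v (pt p r s) = r := fun p r s => by
    simp only [pt, OFrame.ip_add_right, OFrame.ip_smul_right, P.vv, P.vw, P.vz]; ring
  have ptip : ∀ p r s p' r' s', B.ip (pt p r s) (pt p' r' s') = p * r' + r * p' + s * s' * k := fun p r s p' r' s' => by
    simp only [pt, OFrame.ip_add_left, OFrame.ip_add_right, OFrame.ip_smul_left, OFrame.ip_smul_right, P.vv, P.ww,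
      P.vw, P.vz, P.wz, B.ip_comm x v, B.ip_comm z v, B.ip_comm z x, hk]
    ring
  have ptΓ : ∀ {r}, r ∈ Γ → ∀ s, pt ((1 - k * (s * s)) / (2 * r)) r s ∈ B.Rs K o := fun {r} hr s =>
    hr.2 _ (ptE _ _ _) (by
      have := hr.1
      rw [ptip]; field_simp [B.two]; ring) (ptv _ _ _)
  -- reflection in a point of the hyperbolic line
  have hstep : ∀ {r r'}, r ∈ Γ → r' ∈ Γ → ∀ s, 1 - k * (s * s) ≠ 0 → r * r * (1 - k * (s * s)) / r' ∈ Γ := by
    intro r r' hr hr' s hs
    have hy0 := ptΓ hr 0
    have hy1 := ptΓ hr' s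
    have h := B.rs_neg (B.rs_refl hy0 hy1)
    have hE' : E.InE (-ap (rr Q (pt ((1 - k * (0 * 0)) / (2 * r)) r 0)) (pt ((1 - k * (s * s)) / (2 * r')) r' s)) := by
      have := E.inE_smul (-1) (E.fixes_inE (E.fixes_rr (ptE ((1 - k * (0 * 0)) / (2 * r)) r 0))
        (ptE ((1 - k * (s * s)) / (2 * r')) r' s))
      rwa [neg_one_smul] at this
    have hr0 := hr.1
    have hr0' := hr'.1
    have hval : B.ip v (-ap (rr Q (pt ((1 - k * (0 * 0)) / (2 * r)) r 0)) (pt ((1 - k * (s * s)) / (2 * r')) r' s)) =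
        r * r * (1 - k * (s * s)) / r' := by
      rw [B.rr_apply_one (B.rs_unit hy0), B.ip_neg_right, B.ip_sub_right, B.ip_smul_right, ptv, ptv, ptip]
      field_simp [B.two]
      ring
    rw [← hval]
    exact hfib _ h hE' (by rw [hval]; exact div_ne_zero (mul_ne_zero (mul_ne_zero hr0 hr0) hs) hr0')
  -- a first value
  obtain ⟨r₀, hr₀⟩ : ∃ r₀, r₀ ∈ Γ := by
    by_contra hc
    push Not at hc
    have hz : ∀ y₁, y₁ ∈ B.Rs K o → E.InE y₁ → B.ip v y₁ = 0 := fun y₁ h₁ h₁E => by
      by_contra h0; exact hc _ (hfib y₁ h₁ h₁E h0)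
    obtain ⟨p, q, r, hv⟩ := P.mv
    have ha := hz _ (B.rs_b hM E.a) E.inE_a
    have hb := hz _ (B.rs_b hM E.b) E.inE_b
    have hu := hz _ huR E.inE_u
    rw [hv, E.vec_a, E.ip_vec_vec] at ha
    rw [hv, E.vec_b, E.ip_vec_vec] at hb
    rw [hv, E.vec_u, E.ip_vec_vec] at hu
    have hp0 : p = 0 := by linear_combination ha
    have hq0 : q = 0 := by linear_combination hb
    have hr0 : r = 0 := by
      rw [hp0] at hu
      rw [hq0] at hu
      exact (mul_eq_zero.mp (show E.D * r = 0 by linear_combination hu)).resolve_left E.hD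
    have := P.vw
    rw [hv, hp0, hq0, hr0, E.vec_zero, B.ip_zero_left] at this
    exact zero_ne_one this
  -- the multipliers
  let S : Subgroup Fˣ :=
    { carrier := {g | ∀ r, r ∈ Γ ↔ (g : F) * r ∈ Γ}
      mul_mem' := fun {g h} hg hh r => by rw [hh r, hg, Units.val_mul, mul_assoc]
      one_mem' := fun r => by rw [Units.val_one, one_mul]
      inv_mem' := fun {g} hg r => by
        rw [hg ((g⁻¹ : Fˣ) * r), ← mul_assoc, ← Units.val_mul, mul_inv_cancel, Units.val_one, one_mul] }
  have hΦ : ∀ s (hs : 1 - k * (s * s) ≠ 0), Units.mk0 _ hs ∈ S := by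
    intro s hs
    have hfwd : ∀ r ∈ Γ, (1 - k * (s * s)) * r ∈ Γ := fun r hr => by
      have hr0 := hr.1
      have := hstep hr hr s hs
      rwa [show r * r * (1 - k * (s * s)) / r = (1 - k * (s * s)) * r by field_simp] at this
    intro r
    refine ⟨fun hr => hfwd r hr, fun h => ?_⟩
    have himg : (Finset.univ.filter fun r => r ∈ Γ).image (fun r => (1 - k * (s * s)) * r) =
        Finset.univ.filter fun r => r ∈ Γ := by
      refine Finset.eq_of_subset_of_card_le (fun y hy => ?_)
        (le_of_eq (Finset.card_image_of_injective _ (mul_right_injective₀ hs)).symm)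
      obtain ⟨r', hr', rfl⟩ := Finset.mem_image.mp hy
      simp only [Finset.mem_filter, Finset.mem_univ, true_and] at hr' ⊢
      exact hfwd r' hr'
    have : (1 - k * (s * s)) * r ∈ (Finset.univ.filter fun r => r ∈ Γ).image (fun r => (1 - k * (s * s)) * r) := by
      rw [himg]; simpa using h
    obtain ⟨r', hr', e⟩ := Finset.mem_image.mp this
    rw [mul_left_cancel₀ hs e] at hr'
    simpa using hr'
  have hchar : ringChar F ≠ 2 := fun h => B.two (by haveI := ringChar.of_eq h; exact CharTwo.two_eq_zero)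
  have hcard : Fintype.card F ≤ 2 * Nat.card S + 2 := by
    set im := Finset.univ.image fun s : F => 1 - k * (s * s) with him
    have h1 : Fintype.card F ≤ 2 * im.card := by
      refine Finset.card_le_mul_card_image _ 2 fun a _ => ?_
      by_contra hlt
      obtain ⟨s₁, s₂, s₃, h₁, h₂, h₃, h12, h13, h23⟩ := Finset.two_lt_card_iff.mp (not_le.mp hlt)
      simp only [Finset.mem_filter, Finset.mem_univ, true_and] at h₁ h₂ h₃
      have hk0 : k ≠ 0 := P.zz
      have q : ∀ {s t : F}, 1 - k * (s * s) = a → 1 - k * (t * t) = a → s ≠ t → s = -t := fun {s t} hs ht hne => by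
        have : (k * (s - t)) * (s + t) = 0 := by linear_combination ht - hs
        exact eq_neg_of_add_eq_zero_left ((mul_eq_zero.mp this).resolve_left (mul_ne_zero hk0 (sub_ne_zero.mpr hne)))
      exact h23 (neg_injective ((q h₁ h₂ h12).symm.trans (q h₁ h₃ h13)))
    have h2 : (im.erase 0).card ≤ Nat.card S := by
      rw [Nat.card_eq_fintype_card, Fintype.card_subtype]
      refine Finset.card_le_card_of_injOn (fun a => if h : a ≠ 0 then Units.mk0 a h else 1) (fun a ha => ?_) ?_
      · simp only [Finset.mem_coe, Finset.mem_erase, him, Finset.mem_image, Finset.mem_univ, true_and] at ha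
        obtain ⟨h0, s, rfl⟩ := ha
        simp only [Finset.coe_filter, Set.mem_setOf_eq, Finset.mem_univ, true_and, dif_pos h0]
        exact hΦ s h0
      · intro a ha b hb he
        simp only [Finset.mem_coe, Finset.mem_erase] at ha hb
        simp only [dif_pos ha.1, dif_pos hb.1] at he
        exact congrArg Units.val he
    have h4 : im.card ≤ (im.erase 0).card + 1 := by
      have := Finset.pred_card_le_card_erase (a := (0 : F)) (s := im); omega
    omega
  have hS : S = ⊤ := by
    rw [← Subgroup.index_eq_one]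
    by_contra hne
    have hmul := S.card_mul_index
    rw [Nat.card_eq_fintype_card (α := Fˣ), Fintype.card_units] at hmul
    have hi0 : S.index ≠ 0 := Subgroup.index_ne_zero_of_finite
    have h5 : 5 ≤ Fintype.card F := by
      have h2' : Fintype.card F ≠ 2 := fun h => B.two (by
        have := FiniteField.cast_card_eq_zero F; rw [h] at this; exact_mod_cast this)
      have h3' : Fintype.card F ≠ 3 := fun h => h3 (by
        have := FiniteField.cast_card_eq_zero F; rw [h] at this; exact_mod_cast this)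
      have h4' : Fintype.card F ≠ 4 := fun h => by rw [h] at hp; exact absurd hp (by decide)
      have := hp.two_le
      omega
    have hidx : S.index = 2 := by
      by_contra h
      have : 3 ≤ S.index := by omega
      have := Nat.mul_le_mul_left (Nat.card S) this
      have hodd := hp.eq_two_or_odd.resolve_left (by omega)
      omega
    rw [hidx] at hmul
    obtain ⟨s, hs⟩ := exists_nonsquare_value hp B.two h3 P.zz
    have hs0 : 1 - k * (s * s) ≠ 0 := fun h => hs (by rw [h]; exact IsSquare.zero)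
    apply hs
    rw [FiniteField.isSquare_iff hchar hs0]
    have h : (⟨_, hΦ s hs0⟩ : S) ^ Nat.card S = 1 := pow_card_eq_one'
    rw [show Fintype.card F / 2 = Nat.card S by omega]
    have h' := congrArg Units.val (congrArg Subtype.val h)
    rw [SubgroupClass.coe_pow, Units.val_pow_eq_pow_val, Units.val_mk0, OneMemClass.coe_one, Units.val_one] at h'
    exact h'
  have hall : ∀ r : F, r ≠ 0 → r ∈ Γ := fun r hr => by
    have hr0 := hr₀.1
    have hmem : Units.mk0 (r / r₀) (div_ne_zero hr hr0) ∈ S := by rw [hS]; exact Subgroup.mem_top _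
    have h := (hmem r₀).mp hr₀
    rw [Units.val_mk0, div_mul_cancel₀ _ hr0] at h
    exact h
  by_cases h1 : B.ip v y ≠ 0
  · exact (hall _ h1).2 y hyE hy rfl
  push Not at h1
  by_cases h2 : B.ip x y ≠ 0
  · have hy0 := ptΓ (hall 1 one_ne_zero) 0
    set y0 := pt ((1 - k * (0 * 0)) / (2 * 1)) 1 0
    refine (B.rs_refl_iff hy0).mp ((hall _ ?_).2 _ (E.fixes_inE (E.fixes_rr (ptE _ _ _)) hyE)
      (by rw [B.ip_ap, hy]) rfl)
    rw [B.rr_apply_one (B.rs_unit hy0), B.ip_sub_right, B.ip_smul_right, h1, ptv, mul_one, zero_sub, neg_ne_zero]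
    refine mul_ne_zero B.two ?_
    simp only [y0, pt, OFrame.ip_add_left, OFrame.ip_smul_left, h1, zero_smul, B.ip_zero_left, mul_zero, zero_add,
      add_zero, one_mul]
    exact h2
  push Not at h2
  have hQw : Q x = 0 := by rw [B.q_ip, P.ww, mul_zero]
  have hwz : QuadraticMap.polar (⇑Q) x ((1 : F) • z) = 0 := by
    rw [QuadraticMap.polar_smul_right, B.polar_ip, P.wz, mul_zero, smul_zero]
  have hS1 := P.rw' 1 hQw hwz
  refine (hS1.2 y hyE).mp ((hall _ ?_).2 _ (E.fixes_inE hS1.1 hyE) (by rw [B.ip_ap, hy]) rfl)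
  rw [B.ap_siegelG, one_smul, h2]
  simp only [OFrame.ip_add_right, OFrame.ip_smul_right, h1, P.vw, P.vz]
  have hz : B.ip z y ≠ 0 := fun h0 => by
    have := E.eq_zero_of_three P.mv P.mw P.mz P.vv P.vw P.vz P.wz P.zz hyE h1 h2 h0
    rw [this, B.ip_zero_left] at hy
    exact zero_ne_one hy
  simp [B.two, B.hc, hz]

end Tri

namespace OFrame

/-- Two places outside a small set. -/
theorem exists_pair_out (S : Finset κ) (h : S.card + 1 < Fintype.card κ) : ∃ e f, e ≠ f ∧ e ∉ S ∧ f ∉ S := by
  obtain ⟨e, he, f, hf, hef⟩ := Finset.one_lt_card.mp (show 1 < Sᶜ.card by rw [Finset.card_compl]; omega)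
  exact ⟨e, f, hef, Finset.mem_compl.mp he, Finset.mem_compl.mp hf⟩

variable (B) (hM : ∀ g ∈ Cfsg.Omega F (⇑Q), B.Mono g → g ∈ K)

include hM in
/-- A singular line of unit vectors over a frame vector. -/
theorem exists_rpair_small (hp : (Fintype.card F).Prime) {u : ι → F} (hu : u ∈ B.Rs K o)
    (h3 : 3 ≤ (B.supp u).card) (h7 : (B.supp u).card + 3 ≤ Fintype.card κ) :
    ∃ a v, v ≠ 0 ∧ B.co v a = 0 ∧ (B.supp v).card ≤ (B.supp u).card ∧ B.RPair K o v (B.b a) := by
  classical
  have hu1 := B.rs_unit hu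
  by_cases h1 : ∃ a, B.co u a * B.co u a = 1
  · obtain ⟨a, ha⟩ := h1
    set α := B.co u a with hα
    set v := α • u - B.b a with hv
    have hva : B.co v a = 0 := by rw [hv, B.co_sub, B.co_smul, B.co_b, if_pos rfl, ← hα, ha, sub_self]
    have hsub : B.supp v ⊆ B.supp u := (B.supp_sub_subset _ _).trans (Finset.union_subset (B.supp_smul_subset _ _)
      (by
        rw [B.supp_b, Finset.singleton_subset_iff, B.mem_supp]
        intro h; rw [hα, h, mul_zero] at ha; exact zero_ne_one ha))
    refine ⟨a, v, fun h => ?_, hva, Finset.card_le_card hsub, B.rpair_of hp ?_ ?_ (B.rs_b hM a) ?_⟩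
    · have : B.supp u ⊆ {a} := fun l hl => by
        by_contra hla
        have := congrArg (fun y => B.co y l) h
        simp only [hv, B.co_sub, B.co_smul, B.co_b, B.co_zero] at this
        rw [if_neg (fun e => hla (Finset.mem_singleton.mpr e.symm)), sub_zero] at this
        rcases mul_eq_zero.mp this with h0 | h0
        · rw [h0, mul_zero] at ha; exact zero_ne_one ha
        · exact B.mem_supp.mp hl h0
      have := Finset.card_le_card this
      rw [Finset.card_singleton] at this
      omega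
    · rw [hv]
      simp only [B.ip_sub_left, B.ip_sub_right, B.ip_smul_left, B.ip_smul_right, hu1, B.ip_b_right, B.ip_b_left,
        B.co_smul, ← hα, B.co_b, ↓reduceIte]
      linear_combination -ha
    · rw [B.ip_b_right, hva]
    · rw [hv, add_sub_cancel]
      rcases mul_self_eq_one_iff.mp ha with h | h <;> rw [h]
      · rwa [one_smul]
      · rw [neg_one_smul]; exact B.rs_neg hu
  push Not at h1
  by_cases h2 : ∀ a ∈ B.supp u, 2 * (B.co u a * B.co u a) = 1
  · obtain ⟨a, b, c, ha, hb, hc, hab, hac, hbc⟩ := Finset.two_lt_card_iff.mp (by omega : 2 < (B.supp u).card)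
    set y := ap (B.d a b) u with hy
    have hyR : y ∈ B.Rs K o := B.rs_mono hM (B.d_in hM a b) (B.mono_d a b) hu
    have hco : ∀ l, B.co y l = if l = a ∨ l = b then -B.co u l else B.co u l := fun l => B.co_d hab u l
    have hip : B.ip u y = -1 := by
      have hd : ∀ l, B.co u l * B.co y l = B.co u l * B.co u l -
          (if l = a then 2 * (B.co u a * B.co u a) else 0) - (if l = b then 2 * (B.co u b * B.co u b) else 0) := by
        intro l
        rw [hco]
        by_cases hla : l = a
        · subst hla; simp [hab]; ring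
        by_cases hlb : l = b
        · subst hlb; simp [hab.symm]; ring
        simp [hla, hlb]
      have hu1' : ∑ l, B.co u l * B.co u l = 1 := hu1
      rw [OFrame.ip, Finset.sum_congr rfl fun l _ => hd l, Finset.sum_sub_distrib, Finset.sum_sub_distrib, hu1',
        Finset.sum_ite_eq', Finset.sum_ite_eq', if_pos (Finset.mem_univ _), if_pos (Finset.mem_univ _),
        h2 a ha, h2 b hb]
      ring
    set v := -y - u with hv
    have hvv : B.ip v v = 0 := by
      rw [hv]
      simp only [B.ip_sub_left, B.ip_sub_right, B.ip_neg_left, B.ip_neg_right, hu1, B.rs_unit hyR, B.ip_comm y u,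
        hip]
      ring
    have hvu : B.ip v u = 0 := by
      rw [hv, B.ip_sub_left, B.ip_neg_left, B.ip_comm y u, hip, hu1, neg_neg, sub_self]
    have hP := B.rpair_of hp hvv hvu hu (by rw [hv, add_sub_cancel]; exact B.rs_neg hyR)
    have hva : B.co v a = 0 := by rw [hv, B.co_sub, B.co_neg, hco, if_pos (Or.inl rfl)]; ring
    refine ⟨a, v, fun h => ?_, hva, Finset.card_le_card fun l hl => ?_,
      B.rpair_other hP (B.rs_b hM a) (by rw [B.ip_b_right, hva]) (by rw [B.ip_b_right]; exact B.mem_supp.mp ha)⟩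
    · have := congrArg (fun z => B.co z c) h
      simp only [hv, B.co_sub, B.co_neg, B.co_zero, hco, if_neg (not_or.mpr ⟨hac.symm, hbc.symm⟩)] at this
      have : (2 : F) * B.co u c = 0 := by linear_combination -this
      exact B.mem_supp.mp hc ((mul_eq_zero.mp this).resolve_left B.two)
    · rw [B.mem_supp] at hl ⊢
      intro h0
      apply hl
      rw [hv, B.co_sub, B.co_neg, hco]
      split_ifs <;> simp [h0]
  push Not at h2
  obtain ⟨a, ha, ha2⟩ := h2
  have ha0 := B.mem_supp.mp ha
  have hz : 3 ≤ (B.supp u)ᶜ.card := by rw [Finset.card_compl]; omega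
  obtain ⟨b, hb⟩ := Finset.card_pos.mp (by omega : 0 < (B.supp u)ᶜ.card)
  obtain ⟨c, hc, hcb⟩ := Finset.exists_mem_ne (s := (B.supp u)ᶜ) (by omega) b
  obtain ⟨e, he, he'⟩ := Finset.exists_mem_notMem_of_card_lt_card (s := ({b, c} : Finset κ)) (t := (B.supp u)ᶜ) (by
    have := (Finset.card_le_two : ({b, c} : Finset κ).card ≤ 2); omega)
  simp only [Finset.mem_insert, Finset.mem_singleton, not_or] at he'
  rw [Finset.mem_compl, B.notMem_supp] at hb hc he
  let E : Tri B := ⟨a, b, u, fun h => ha0 (h ▸ hb), hu1, by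
    rw [hb, mul_zero, sub_zero]; exact sub_ne_zero.mpr (Ne.symm (h1 a))⟩
  have h3' : (3 : F) ≠ 0 := fun h => by
    apply h1 a
    have hF : Fintype.card F = 3 := by
      haveI := Fact.mk hp
      haveI : CharP F (Fintype.card F) := charP_of_card_eq_prime rfl
      have : ((3 : ℕ) : F) = 0 := by exact_mod_cast h
      rw [CharP.cast_eq_zero_iff F (Fintype.card F)] at this
      exact (Nat.prime_dvd_prime_iff_eq hp Nat.prime_three).mp this
    have h' := FiniteField.pow_card_sub_one_eq_one _ ha0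
    rw [hF] at h'
    rw [← h']; ring
  have hκ : Fintype.card κ = Fintype.card ι := by
    rw [← Module.finrank_eq_card_basis B.b, Module.finrank_fintype_fun_eq_card]
  obtain ⟨v, x, z, hP⟩ := E.exists_roots hM hu hp (by omega) (Ne.symm he'.2)
    (fun h : c = a => ha0 (h ▸ hc)) hcb (fun h : e = a => ha0 (h ▸ he)) he'.1 hc he hb ha0 ha2
  obtain ⟨l, hl, hla⟩ := Finset.exists_mem_ne (s := B.supp u) (by omega) a
  obtain ⟨l', hl', hl''⟩ := Finset.exists_mem_notMem_of_card_lt_card (s := ({a, l} : Finset κ)) (t := B.supp u) (by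
    have := (Finset.card_le_two : ({a, l} : Finset κ).card ≤ 2); omega)
  simp only [Finset.mem_insert, Finset.mem_singleton, not_or] at hl''
  have hlb : l ≠ b := fun h => B.mem_supp.mp hl (h ▸ hb)
  have hlb' : l' ≠ b := fun h => B.mem_supp.mp hl' (h ▸ hb)
  set γ := (B.co u l)⁻¹ with hγ
  obtain ⟨p, q, hpq⟩ := binary_universal B.two (one_ne_zero (α := F)) (one_ne_zero (α := F)) (1 - E.D * (γ * γ))
  set y := E.vec p q γ with hy
  have hyy : B.ip y y = 1 := by rw [hy, E.ip_vec_vec]; linear_combination hpq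
  have hyR := Tri.units_mem hP hM hu hp h3' (E.inE_vec p q γ) hyy
  have hyl : B.co y l = 1 := by
    rw [hy, E.co_vec p q γ hla hlb, hγ]; exact inv_mul_cancel₀ (B.mem_supp.mp hl)
  set w := y - B.b l with hw
  have hwl : B.co w l = 0 := by rw [hw, B.co_sub, B.co_b, if_pos rfl, hyl, sub_self]
  refine ⟨l, w, fun h => ?_, hwl, ?_, B.rpair_of hp ?_ (by rw [B.ip_b_right, hwl]) (B.rs_b hM l)
    (by rw [hw, add_sub_cancel]; exact hyR)⟩
  · have := congrArg (fun z => B.co z l') h
    simp only [hw, B.co_sub, B.co_b, if_neg (Ne.symm hl''.2), hy, E.co_vec p q γ hl''.1 hlb', B.co_zero,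
      sub_zero] at this
    exact mul_ne_zero (inv_ne_zero (B.mem_supp.mp hl)) (B.mem_supp.mp hl') this
  · refine le_trans (Finset.card_le_card (t := insert b ((B.supp u).erase l)) fun i hi => ?_) ?_
    · rw [B.mem_supp, hw, B.co_sub, B.co_b] at hi
      simp only [Finset.mem_insert, Finset.mem_erase, B.mem_supp]
      by_cases hib : i = b
      · exact Or.inl hib
      refine Or.inr ⟨fun hil => hi (by rw [hil, if_pos rfl, hyl, sub_self]), fun h0 => hi ?_⟩
      have hia : i ≠ a := fun h => ha0 (h ▸ h0)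
      have hil : l ≠ i := fun h => B.mem_supp.mp hl (h ▸ h0)
      rw [if_neg hil, hy, E.co_vec p q γ hia hib, h0, mul_zero, sub_zero]
    · have := Finset.card_insert_le b ((B.supp u).erase l)
      rw [Finset.card_erase_of_mem hl] at this
      omega
  · rw [hw]
    simp only [B.ip_sub_left, B.ip_sub_right, hyy, B.ip_b_right, B.ip_b_left, hyl, B.co_b, ↓reduceIte]
    ring


include hM in
/-- A singular line of unit vectors over a frame vector, from a support of size at most eight. -/
theorem exists_rpair (hp : (Fintype.card F).Prime) (hn : 10 ≤ Fintype.card κ) {u : ι → F} (hu : u ∈ B.Rs K o)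
    (h3 : 3 ≤ (B.supp u).card) (h8 : (B.supp u).card ≤ 8) :
    ∃ a v, v ≠ 0 ∧ B.co v a = 0 ∧ (B.supp v).card ≤ 7 ∧ B.RPair K o v (B.b a) := by
  classical
  by_cases h7 : (B.supp u).card ≤ 7
  · obtain ⟨a, v, h0, ha, hv, hP⟩ := B.exists_rpair_small hM hp hu h3 (by omega)
    exact ⟨a, v, h0, ha, hv.trans h7, hP⟩
  have hc8 : (B.supp u).card = 8 := by omega
  have hu1 := B.rs_unit hu
  by_cases h1 : ∃ a, B.co u a * B.co u a = 1
  · -- the line through the frame vector
    obtain ⟨a, ha⟩ := h1
    set v := B.co u a • u - B.b a with hv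
    have hua : B.co u a ≠ 0 := fun h => by rw [h, mul_zero] at ha; exact zero_ne_one ha
    have hva : B.co v a = 0 := by rw [hv, B.co_sub, B.co_smul, B.co_b, if_pos rfl, ha, sub_self]
    have hsub : B.supp v ⊆ (B.supp u).erase a := fun l hl => by
      have hla : l ≠ a := fun e => B.mem_supp.mp hl (e ▸ hva)
      refine Finset.mem_erase.mpr ⟨hla, B.mem_supp.mpr fun h => B.mem_supp.mp hl ?_⟩
      rw [hv, B.co_sub, B.co_smul, B.co_b, h, if_neg (Ne.symm hla), mul_zero, sub_zero]
    have hle := Finset.card_le_card hsub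
    rw [Finset.card_erase_of_mem (B.mem_supp.mpr hua), hc8] at hle
    refine ⟨a, v, fun h => ?_, hva, by omega, B.rpair_of hp ?_ ?_ (B.rs_b hM a) ?_⟩
    · obtain ⟨l, hl, hla⟩ := Finset.exists_mem_ne (s := B.supp u) (by omega) a
      have := congrArg (fun y => B.co y l) h
      simp only [hv, B.co_sub, B.co_smul, B.co_b, if_neg (Ne.symm hla), B.co_zero, sub_zero] at this
      exact mul_ne_zero hua (B.mem_supp.mp hl) this
    · rw [hv]
      simp only [B.ip_sub_left, B.ip_sub_right, B.ip_smul_left, B.ip_smul_right, hu1, B.ip_b_right, B.ip_b_left,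
        B.co_smul, B.co_b, ↓reduceIte]
      linear_combination -ha
    · rw [B.ip_b_right, hva]
    · rw [hv, add_sub_cancel]
      rcases mul_self_eq_one_iff.mp ha with h | h <;> rw [h]
      · rwa [one_smul]
      · rw [neg_one_smul]; exact B.rs_neg hu
  push Not at h1
  by_cases h2 : ∃ a, 2 * (B.co u a * B.co u a) = 1
  · -- reflect a frame vector in `u`
    obtain ⟨a, ha⟩ := h2
    have hua : B.co u a ≠ 0 := fun h => by rw [h, mul_zero, mul_zero] at ha; exact zero_ne_one ha
    have hy := B.rs_refl hu (B.rs_b hM a)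
    set y := ap (rr Q u) (B.b a) with hydef
    have hyco : ∀ l, B.co y l = (if a = l then 1 else 0) - 2 * B.co u a * B.co u l := fun l => by
      rw [hydef, B.rr_apply_one hu1, B.co_sub, B.co_smul, B.co_b, B.ip_b_right]
    have hys : B.supp y = (B.supp u).erase a := by
      ext l
      rw [B.mem_supp, hyco, Finset.mem_erase, B.mem_supp]
      by_cases hla : a = l
      · subst hla
        rw [if_pos rfl, mul_assoc, ha, sub_self]
        simp
      · rw [if_neg hla, zero_sub, neg_ne_zero, mul_ne_zero_iff]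
        exact ⟨fun h => ⟨Ne.symm hla, h.2⟩, fun h => ⟨mul_ne_zero B.two hua, h.2⟩⟩
    have hyc : (B.supp y).card = 7 := by rw [hys, Finset.card_erase_of_mem (B.mem_supp.mpr hua), hc8]
    obtain ⟨a', v', h0, ha', hv', hP⟩ := B.exists_rpair_small hM hp hy (by omega) (by omega)
    exact ⟨a', v', h0, ha', by omega, hP⟩
  push Not at h2
  obtain ⟨l₀, hl₀⟩ := Finset.card_pos.mp (by omega : 0 < (B.supp u).card)
  have hl₀0 := B.mem_supp.mp hl₀
  have h3' : (3 : F) ≠ 0 := fun h => by
    apply h1 l₀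
    have hF : Fintype.card F = 3 := by
      haveI := Fact.mk hp
      haveI : CharP F (Fintype.card F) := charP_of_card_eq_prime rfl
      have : ((3 : ℕ) : F) = 0 := by exact_mod_cast h
      rw [CharP.cast_eq_zero_iff F (Fintype.card F)] at this
      exact (Nat.prime_dvd_prime_iff_eq hp Nat.prime_three).mp this
    have h' := FiniteField.pow_card_sub_one_eq_one _ hl₀0
    rw [hF] at h'
    rw [← h']; ring
  have hsum : ∑ l ∈ B.supp u, B.co u l * B.co u l = 1 := by
    rw [← B.ip_supp (Finset.Subset.refl _)]; exact hu1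
  -- a place whose square is not a quarter
  obtain ⟨a, ha, ha4⟩ : ∃ a ∈ B.supp u, 4 * (B.co u a * B.co u a) ≠ 1 := by
    by_contra hc
    push Not at hc
    have h := congrArg ((4 : F) * ·) hsum
    simp only [Finset.mul_sum, Finset.sum_congr rfl hc, Finset.sum_const, hc8, nsmul_eq_mul, mul_one] at h
    norm_num at h
    refine mul_ne_zero B.two B.two (?_ : (2 : F) * 2 = 0)
    linear_combination h
  have ha0 := B.mem_supp.mp ha
  obtain ⟨k, hk, hD⟩ : ∃ k ∈ (B.supp u).erase a, 1 - B.co u a * B.co u a - B.co u k * B.co u k ≠ 0 := by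
    by_contra hc
    push Not at hc
    have he : ∀ k ∈ (B.supp u).erase a, B.co u k * B.co u k = 1 - B.co u a * B.co u a := fun k hk => by
      linear_combination -(hc k hk)
    rw [← Finset.add_sum_erase _ _ ha, Finset.sum_congr rfl he, Finset.sum_const, Finset.card_erase_of_mem ha, hc8,
      nsmul_eq_mul] at hsum
    norm_num at hsum
    have h6 : (2 : F) * 3 * (1 - B.co u a * B.co u a) = 0 := by linear_combination hsum
    exact h1 a (sub_eq_zero.mp ((mul_eq_zero.mp h6).resolve_left (mul_ne_zero B.two h3'))).symm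
  obtain ⟨hka, hks⟩ := Finset.mem_erase.mp hk
  obtain ⟨c, e, hce, hc, he⟩ := exists_pair_out (B.supp u) (by omega)
  rw [B.notMem_supp] at hc he
  let E : Tri B := ⟨a, k, u, Ne.symm hka, hu1, hD⟩
  have hκ : Fintype.card κ = Fintype.card ι := by
    rw [← Module.finrank_eq_card_basis B.b, Module.finrank_fintype_fun_eq_card]
  obtain ⟨v, x, z, hP⟩ := E.exists_roots_full hM hu hp (by omega) hce
    (fun h : c = a => ha0 (h ▸ hc)) (fun h : c = k => B.mem_supp.mp hks (h ▸ hc))
    (fun h : e = a => ha0 (h ▸ he)) (fun h : e = k => B.mem_supp.mp hks (h ▸ he)) hc he (B.mem_supp.mp hks) ha0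
    (sub_ne_zero.mpr (Ne.symm (h1 a))) (h2 a) ha4
  -- a unit vector of the space vanishing at `a`
  obtain ⟨q, r, hr, hqr⟩ : ∃ q r : F, r ≠ 0 ∧ q * q + E.D * (r * r) = 1 := by
    obtain ⟨t, ht0, ht⟩ : ∃ t : F, t ≠ 0 ∧ t * t + E.D ≠ 0 := by
      by_cases h : (1 : F) * 1 + E.D = 0
      · refine ⟨2, B.two, fun h' => h3' ?_⟩
        linear_combination h' - h
      · exact ⟨1, one_ne_zero, h⟩
    refine ⟨(E.D - t * t) / (t * t + E.D), 2 * t / (t * t + E.D), div_ne_zero (mul_ne_zero B.two ht0) ht, ?_⟩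
    rw [div_mul_div_comm, div_mul_div_comm, mul_div_assoc', ← add_div, div_eq_one_iff_eq (mul_ne_zero ht ht)]
    ring
  set y := E.vec 0 q r with hy
  have hyy : B.ip y y = 1 := by rw [hy, E.ip_vec_vec]; linear_combination hqr
  have hyR := Tri.units_mem hP hM hu hp h3' (E.inE_vec _ _ _) hyy
  have hs1 : B.supp y ⊆ (B.supp u).erase a := fun l hl => by
    rw [B.mem_supp] at hl
    have hla : l ≠ a := fun h => hl (by rw [hy, h]; exact E.co_vec_a _ _ _)
    refine Finset.mem_erase.mpr ⟨hla, ?_⟩
    by_cases hlk : l = k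
    · exact hlk ▸ hks
    · rw [hy, E.co_vec _ _ _ hla hlk] at hl
      exact B.mem_supp.mpr (right_ne_zero_of_mul hl)
  have hs2 : ((B.supp u).erase a).erase k ⊆ B.supp y := fun l hl => by
    obtain ⟨hlk, hl'⟩ := Finset.mem_erase.mp hl
    obtain ⟨hla, hlu⟩ := Finset.mem_erase.mp hl'
    rw [B.mem_supp, hy, E.co_vec _ _ _ hla hlk]
    exact mul_ne_zero hr (B.mem_supp.mp hlu)
  have n1 := Finset.card_le_card hs1
  have n2 := Finset.card_le_card hs2
  rw [Finset.card_erase_of_mem hk, Finset.card_erase_of_mem ha] at n2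
  rw [Finset.card_erase_of_mem ha] at n1
  obtain ⟨a', v', h0, ha', hv', hP⟩ := B.exists_rpair_small (u := y) hM hp hyR (by omega) (by omega)
  exact ⟨a', v', h0, ha', by omega, hP⟩

end OFrame

end Cfsg.Lib.Classical.OFr
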