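import Mathlib
import Cfsg.Agent.Classical.Orth.Frame.Units

set_option autoImplicit false
set_option linter.unusedVariables false
set_option linter.unusedSimpArgs false
set_option linter.unusedSectionVars false
set_option linter.style.haveILetI false
set_option linter.flexible false

/-! An element outside the monomial group gives a singular line of unit vectors over a frame vector. -/

namespace Cfsg.Lib.Classical.OFr

open Matrix Cfsg.Lib.Classical.Refl

universe u w

namespace OFrame

variable {F : Type u} [Field F] [Fintype F] [DecidableEq F] {ι : Type} [Fintype ι] [DecidableEq ι]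
  {Q : QuadraticForm F (ι → F)} {κ : Type w} [Fintype κ] [DecidableEq κ] (B : OFrame Q κ)
  {K : Subgroup (Cfsg.isometryGroup F (⇑Q))} {o : κ}

theorem exists_out (S : Finset κ) (h : S.card < Fintype.card κ) : ∃ l, l ∉ S := by
  obtain ⟨l, -, hl⟩ := Finset.exists_mem_notMem_of_card_lt_card (s := S) (t := Finset.univ)
    (by rwa [Finset.card_univ])
  exact ⟨l, hl⟩

theorem exists_two_out (S : Finset κ) (h : S.card + 1 < Fintype.card κ) : ∃ e f, e ≠ f ∧ e ∉ S ∧ f ∉ S := by
  obtain ⟨e, he⟩ := exists_out S (by omega)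
  obtain ⟨f, hf⟩ := exists_out (insert e S) (by have := Finset.card_insert_le e S; omega)
  rw [Finset.mem_insert, not_or] at hf
  exact ⟨e, f, Ne.symm hf.1, he, hf.2⟩

/-- The transposition of two frame vectors. -/
noncomputable def sw (p q : κ) : Cfsg.isometryGroup F (⇑Q) := rr Q (B.b p - (1 : F) • B.b q)

theorem sw_b {p q : κ} (hpq : p ≠ q) (l : κ) :
    ap (B.sw p q) (B.b l) = if l = p then B.b q else if l = q then B.b p else B.b l := by
  rw [sw, B.rr_root hpq (one_mul 1)]
  simp only [one_smul]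

theorem sw_fix {p q : κ} (hpq : p ≠ q) {x : ι → F} (hp : B.co x p = 0) (hq : B.co x q = 0) :
    ap (B.sw p q) x = x :=
  B.rr_fix (by rw [B.ip_root hpq (one_mul 1)]; exact B.two)
    (by rw [ip_sub_left, ip_smul_left, ip_b_left, ip_b_left, hp, hq]; ring)

variable (hM : ∀ g ∈ Cfsg.Omega F (⇑Q), B.Mono g → g ∈ K)

include hM in
theorem sw_pair_in {p q e f : κ} (hpq : p ≠ q) (hef : e ≠ f) : B.sw p q * B.sw e f ∈ K :=
  B.root_pair_in hM hpq hef (one_mul 1) (one_mul 1)

include hM in
theorem rs_swap {x : ι → F} (hx : x ∈ B.Rs K o) {p q e f : κ} (hpq : p ≠ q) (hef : e ≠ f) (he : B.co x e = 0)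
    (hf : B.co x f = 0) : ap (B.sw p q) x ∈ B.Rs K o := by
  have h := B.rs_mono hM (B.sw_pair_in hM hpq hef)
    (B.mono_mul (B.mono_root hpq (one_mul 1)) (B.mono_root hef (one_mul 1))) hx
  rwa [ap_mul, B.sw_fix hef he hf] at h

theorem co_two (α β : F) (a c l : κ) :
    B.co (α • B.b a + β • B.b c) l = (if a = l then α else 0) + (if c = l then β else 0) := by
  rw [co_add, co_smul, co_smul, co_b, co_b]
  split_ifs <;> simp

include hM in
/-- An element outside the monomial group gives a singular line over a frame vector. -/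
theorem seed (hKO : K ≤ Cfsg.Omega F (⇑Q)) (hp : (Fintype.card F).Prime) (hn : 10 ≤ Fintype.card κ)
    {g : Cfsg.isometryGroup F (⇑Q)} (hg : g ∈ K) (hgm : ¬ B.Mono g) :
    ∃ o a v, v ≠ 0 ∧ B.co v a = 0 ∧ (B.supp v).card ≤ 7 ∧ B.RPair K o v (B.b a) := by
  classical
  obtain ⟨T, hT, g', hg', hfix, hgm'⟩ :=
    B.descend hM hKO Finset.univ g hg (fun l hl => absurd (Finset.mem_univ l) hl) hgm
  obtain ⟨o, ho⟩ := exists_out T (by omega)
  have hgo : ap g' (B.b o) ∈ B.Rs K o := by rw [hfix o ho]; exact B.rs_b hM o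
  obtain ⟨a, ha⟩ : ∃ a, 1 < (B.supp (ap g' (B.b a))).card := by
    simp only [Mono, not_forall, not_le] at hgm'; exact hgm'
  have haT : a ∈ T := by
    by_contra h
    rw [hfix a h, supp_b, Finset.card_singleton] at ha
    omega
  set u := ap g' (B.b a) with hu
  have huR : u ∈ B.Rs K o := B.rs_map hg' hgo (B.rs_b hM a)
  have huT : B.supp u ⊆ T := B.fix_supp_b hfix haT
  refine ⟨o, ?_⟩
  by_cases h3 : 3 ≤ (B.supp u).card
  · exact B.exists_rpair hM hp hn huR h3 (le_trans (Finset.card_le_card huT) hT)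
  obtain ⟨p, q, hpq, hsu⟩ := Finset.card_eq_two.mp (by omega : (B.supp u).card = 2)
  set α := B.co u p with hα
  set β := B.co u q with hβ
  have hα0 : α ≠ 0 := B.mem_supp.mp (by rw [hsu]; simp)
  have hβ0 : β ≠ 0 := B.mem_supp.mp (by rw [hsu]; simp)
  have hueq : u = α • B.b p + β • B.b q := by
    rw [B.eq_sum_supp hsu.subset, Finset.sum_pair hpq]
  obtain ⟨c, hc⟩ := exists_out T (by omega)
  have hpT : p ∈ T := huT (by rw [hsu]; simp)
  have hqT : q ∈ T := huT (by rw [hsu]; simp)
  have hcp : c ≠ p := fun h => hc (h ▸ hpT)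
  have hcq : c ≠ q := fun h => hc (h ▸ hqT)
  have move : ∀ a', a' ≠ c → α • B.b a' + β • B.b c ∈ B.Rs K o := by
    intro a' ha'
    obtain ⟨e, f, hef, he, hf⟩ := exists_two_out (S := ({p, q, c, a'} : Finset κ)) (by
      have := Finset.card_insert_le p ({q, c, a'} : Finset κ)
      have := Finset.card_le_three (a := q) (b := c) (c := a')
      omega)
    simp only [Finset.mem_insert, Finset.mem_singleton, not_or] at he hf
    have h1 := B.rs_swap hM huR (p := q) (q := c) hcq.symm hef
      (B.co_eq_zero hsu.subset (by simp [he.1, he.2.1])) (B.co_eq_zero hsu.subset (by simp [hf.1, hf.2.1]))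
    rw [hueq, map_add, map_smul, map_smul, B.sw_b hcq.symm, B.sw_b hcq.symm, if_neg hpq, if_neg hcp.symm,
      if_pos rfl] at h1
    rcases eq_or_ne p a' with rfl | hpa
    · exact h1
    have h2 := B.rs_swap hM h1 (p := p) (q := a') hpa hef
      (by rw [co_two, if_neg (Ne.symm he.1), if_neg (Ne.symm he.2.2.1), add_zero])
      (by rw [co_two, if_neg (Ne.symm hf.1), if_neg (Ne.symm hf.2.2.1), add_zero])
    rwa [map_add, map_smul, map_smul, B.sw_b hpa, B.sw_b hpa, if_pos rfl, if_neg hcp, if_neg ha'.symm] at h2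
  obtain ⟨y, hyR, h1, h2, h3', h4⟩ : ∃ y, y ∈ B.Rs K o ∧ B.co y p ≠ 0 ∧ B.co y q ≠ 0 ∧ B.co y c ≠ 0 ∧
      ∀ l, l ≠ p → l ≠ q → l ≠ c → B.co y l = 0 := by
    by_cases hroot : 2 * (α * α) = 1
    · refine ⟨ap g' (α • B.b a + β • B.b c), B.rs_map hg' hgo (move a (fun h => hc (h ▸ haT))), ?_⟩
      rw [map_add, map_smul, map_smul, hfix c hc, ← hu]
      simp only [co_add, co_smul, co_b, ← hα, ← hβ, if_neg hcp, if_neg hcq, mul_zero, add_zero, ↓reduceIte,
        B.co_eq_zero hsu.subset (i := c) (by simp [hcp, hcq]), zero_add, mul_one]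
      refine ⟨mul_ne_zero hα0 hα0, mul_ne_zero hα0 hβ0, hβ0, fun l hlp hlq hlc => ?_⟩
      rw [B.co_eq_zero hsu.subset (i := l) (by simp [hlp, hlq]), if_neg (Ne.symm hlc)]
      ring
    · have hw := move q hcq.symm
      refine ⟨ap (rr Q (α • B.b q + β • B.b c)) u, B.rs_refl hw huR, ?_⟩
      have hip : B.ip (α • B.b q + β • B.b c) u = α * β := by
        rw [ip_add_left, ip_smul_left, ip_smul_left, ip_b_left, ip_b_left,
          B.co_eq_zero hsu.subset (i := c) (by simp [hcp, hcq]), mul_zero, add_zero]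
      rw [B.rr_apply_one (B.rs_unit hw), hip]
      simp only [co_sub, co_smul, co_two, ← hα, ← hβ, if_neg hcp, if_neg hcq, if_neg hcq.symm, if_neg hpq.symm,
        ↓reduceIte, B.co_eq_zero hsu.subset (i := c) (by simp [hcp, hcq]), add_zero, zero_add, mul_zero, sub_zero]
      refine ⟨hα0, fun h => ?_, ?_, fun l hlp hlq hlc => ?_⟩
      · apply hroot
        have : β * (1 - 2 * (α * α)) = 0 := by linear_combination h
        linear_combination -((mul_eq_zero.mp this).resolve_left hβ0)
      · rw [zero_sub, neg_ne_zero]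
        exact mul_ne_zero (mul_ne_zero B.two (mul_ne_zero hα0 hβ0)) hβ0
      · rw [B.co_eq_zero hsu.subset (i := l) (by simp [hlp, hlq]), if_neg (Ne.symm hlq), if_neg (Ne.symm hlc)]
        ring
  have hsy : B.supp y = {p, q, c} := by
    ext l
    simp only [mem_supp, Finset.mem_insert, Finset.mem_singleton]
    constructor
    · intro h; by_contra hl; simp only [not_or] at hl; exact h (h4 l hl.1 hl.2.1 hl.2.2)
    · rintro (rfl | rfl | rfl) <;> assumption
  have hc3 : (B.supp y).card = 3 := by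
    rw [hsy]; exact Finset.card_eq_three.mpr ⟨p, q, c, hpq, hcp.symm, hcq.symm, rfl⟩
  exact B.exists_rpair hM hp hn hyR (by omega) (by omega)

end OFrame

end Cfsg.Lib.Classical.OFr
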