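import Mathlib
import Cfsg.Agent.Classical.Orth.Frame.Seed

set_option autoImplicit false
set_option linter.unusedVariables false
set_option linter.unusedSimpArgs false
set_option linter.unusedSectionVars false
set_option linter.style.haveILetI false
set_option linter.flexible false

/-! A singular line of unit vectors over a frame vector gives all of `Ω`. -/

namespace Cfsg.Lib.Classical.OFr

open Matrix Cfsg.Lib.Classical.Refl

universe u w

namespace OFrame

variable {F : Type u} [Field F] [Fintype F] [DecidableEq F] {ι : Type} [Fintype ι] [DecidableEq ι]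
  {Q : QuadraticForm F (ι → F)} {κ : Type w} [Fintype κ] [DecidableEq κ] (B : OFrame Q κ)
  {K : Subgroup (Cfsg.isometryGroup F (⇑Q))}

theorem zset_ap {u z : ι → F} (h : z ∈ zset Q K u) {g : Cfsg.isometryGroup F (⇑Q)} (hg : g ∈ K) :
    ap g z ∈ zset Q K (ap g u) := by rw [ap_apply, ap_apply]; exact zset_map h hg

theorem centre_ap {u : ι → F} (h : u ∈ sCentres Q K) {g : Cfsg.isometryGroup F (⇑Q)} (hg : g ∈ K) :
    ap g u ∈ sCentres Q K := by rw [ap_apply]; exact sCentres_map h hg

/-- Two centres seeing each other reach every singular vector seeing one of them. -/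
theorem centre_of_partner {b a x : ι → F} (hb : b ∈ sCentres Q K) (ha : a ∈ sCentres Q K)
    (hba : QuadraticMap.polar (⇑Q) b a ≠ 0) (hx : Q x = 0) (hbx : QuadraticMap.polar (⇑Q) b x ≠ 0) :
    x ∈ sCentres Q K := by
  set β := QuadraticMap.polar (⇑Q) b x with hβ
  set a' := (β / QuadraticMap.polar (⇑Q) b a) • a with ha'
  have hba' : QuadraticMap.polar (⇑Q) b a' = β := by
    rw [ha', QuadraticMap.polar_smul_right, smul_eq_mul, div_mul_cancel₀ _ hba]
  have hQa' : Q a' = 0 := by
    obtain ⟨hQa, -⟩ := ha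
    rw [ha', QuadraticMap.map_smul, hQa, smul_zero]
  have hbz : QuadraticMap.polar (⇑Q) b (β⁻¹ • (x - a')) = 0 := by
    rw [QuadraticMap.polar_smul_right, QuadraticMap.polar_sub_right, hba', sub_self, smul_zero]
  have ha'C : a' ∈ sCentres Q K := sCentres_smul ha _
  obtain ⟨hQb, hbC⟩ := hb
  have h := sCentres_map ha'C (hbC _ hbz)
  convert h using 1
  rw [mat_siegelG, siegelMap, hba', smul_smul, mul_inv_cancel₀ hbx, one_smul, add_sub_cancel]
  have hc0 : -QuadraticMap.polar (⇑Q) (β⁻¹ • (x - a')) a' - Q (β⁻¹ • (x - a')) * β = 0 := by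
    rw [QuadraticMap.polar_smul_left, QuadraticMap.map_smul, QuadraticMap.polar_sub_left, QuadraticMap.polar_self,
      hQa', sub_eq_add_neg x a', QuadraticMap.map_add (f := Q), hx, QuadraticMap.map_neg, hQa',
      QuadraticMap.polar_neg_right]
    simp only [smul_eq_mul, smul_zero, sub_zero, add_zero, zero_add]
    field_simp
    ring
  rw [hc0, zero_smul, add_zero]

include B in
/-- Two centres seeing each other give all of `Ω`. -/
theorem omega_le_of_pair {b a : ι → F} (hb : b ∈ sCentres Q K) (ha : a ∈ sCentres Q K)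
    (hba : QuadraticMap.polar (⇑Q) b a ≠ 0) (hn : 5 ≤ Fintype.card ι) : Cfsg.Omega F (⇑Q) ≤ K := by
  have hab : QuadraticMap.polar (⇑Q) a b ≠ 0 := by rwa [QuadraticMap.polar_comm]
  have hC : ∀ x, Q x = 0 → x ∈ sCentres Q K := by
    intro x hx
    by_cases hx0 : x = 0
    · subst hx0; simpa using sCentres_smul hb 0
    by_cases hbx : QuadraticMap.polar (⇑Q) b x ≠ 0
    · exact centre_of_partner hb ha hba hx hbx
    by_cases hax : QuadraticMap.polar (⇑Q) a x ≠ 0
    · exact centre_of_partner ha hb hab hx hax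
    push Not at hbx hax
    obtain ⟨p, hp⟩ : ∃ p, QuadraticMap.polar (⇑Q) p x ≠ 0 := by
      by_contra h
      push Not at h
      exact hx0 (B.nondeg.2 x h)
    set π := QuadraticMap.polar (⇑Q) b a with hπ
    set z := p - (QuadraticMap.polar (⇑Q) b p / π) • a with hz
    have hbz : QuadraticMap.polar (⇑Q) b z = 0 := by
      rw [hz, QuadraticMap.polar_sub_right, QuadraticMap.polar_smul_right, smul_eq_mul, ← hπ,
        div_mul_cancel₀ _ hba, sub_self]
    obtain ⟨hQb, hbC⟩ := id hb
    set w := mat Q (siegelG Q hQb hbz) *ᵥ a with hw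
    have hwC : w ∈ sCentres Q K := sCentres_map ha (hbC _ hbz)
    have hwb : QuadraticMap.polar (⇑Q) w b ≠ 0 := by
      rw [hw, mat_siegelG, siegelMap, ← hπ]
      simp only [QuadraticMap.polar_add_left, QuadraticMap.polar_smul_left, QuadraticMap.polar_comm (⇑Q) z b, hbz,
        QuadraticMap.polar_self, hQb, QuadraticMap.polar_comm (⇑Q) a b, ← hπ, smul_zero, add_zero]
      exact hba
    refine centre_of_partner hwC hb hwb hx ?_
    rw [hw, mat_siegelG, siegelMap, ← hπ]
    simp only [QuadraticMap.polar_add_left, QuadraticMap.polar_smul_left, hbx, hax, smul_zero, add_zero, zero_add,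
      hz, QuadraticMap.polar_sub_left, sub_zero, smul_eq_mul, mul_zero]
    exact mul_ne_zero hba hp
  rw [omega_eq_closure_all Q B.nondeg hn, Subgroup.closure_le]
  rintro _ ⟨u, z, hu, huz, rfl⟩
  exact (hC u hu).2 z huz

variable {o : κ} (hM : ∀ g ∈ Cfsg.Omega F (⇑Q), B.Mono g → g ∈ K)

include hM in
theorem zset_zero {v : ι → F} {a : κ} (hva : B.co v a = 0) (hv8 : (B.supp v).card + 3 ≤ Fintype.card κ)
    (hP : B.RPair K o v (B.b a)) {c : κ} (hc : B.co v c = 0) : B.b c ∈ zset Q K v := by
  have h0 := B.rpair_zset hP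
  rcases eq_or_ne a c with rfl | hac
  · exact h0
  obtain ⟨d, hd⟩ := exists_out (insert a (insert c (B.supp v))) (by
    have := Finset.card_insert_le a (insert c (B.supp v))
    have := Finset.card_insert_le c (B.supp v)
    omega)
  simp only [Finset.mem_insert, not_or, notMem_supp] at hd
  have hcd : c ≠ d := Ne.symm hd.2.1
  have h := zset_ap h0 (B.sw_pair_in hM hac hcd)
  rwa [ap_mul, ap_mul, B.sw_b hcd, if_neg hac, if_neg (Ne.symm hd.1), B.sw_b hac, if_pos rfl,
    B.sw_fix hcd hc hd.2.2, B.sw_fix hac hva hc] at h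

include hM in
/-- A singular line over a frame vector gives all of `Ω`. -/
theorem omega_le_of_rpair {v : ι → F} {a : κ} (hv0 : v ≠ 0) (hva : B.co v a = 0)
    (hv8 : (B.supp v).card + 3 ≤ Fintype.card κ) (hn : 7 ≤ Fintype.card κ) (hι : 5 ≤ Fintype.card ι) (hP : B.RPair K o v (B.b a)) :
    Cfsg.Omega F (⇑Q) ≤ K := by
  classical
  have hb : ∀ c, B.co v c = 0 → B.b c ∈ zset Q K v := fun c hc => B.zset_zero hM hva hv8 hP hc
  obtain ⟨e, he⟩ := B.supp_nonempty hv0
  obtain ⟨c, hc⟩ := exists_out (B.supp v) (by omega)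
  obtain ⟨c', hc'⟩ := exists_out (insert c (B.supp v)) (by have := Finset.card_insert_le c (B.supp v); omega)
  obtain ⟨c'', hc''⟩ := exists_out (insert c (insert c' (B.supp v))) (by
    have := Finset.card_insert_le c (insert c' (B.supp v))
    have := Finset.card_insert_le c' (B.supp v)
    omega)
  simp only [Finset.mem_insert, not_or] at hc' hc''
  have hce : c ≠ e := fun h => hc (h ▸ he)
  have hc'e : c' ≠ e := fun h => hc'.2 (h ▸ he)
  have hc''e : c'' ≠ e := fun h => hc''.2.2 (h ▸ he)
  rw [notMem_supp] at hc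
  have hc'0 : B.co v c' = 0 := B.notMem_supp.mp hc'.2
  have hc''0 : B.co v c'' = 0 := B.notMem_supp.mp hc''.2.2
  set t := B.co v e with ht
  have ht0 : t ≠ 0 := B.mem_supp.mp he
  obtain ⟨x, y, hxy⟩ := binary_universal B.two (one_ne_zero (α := F)) (one_ne_zero (α := F)) (-1)
  -- the image of the flipped vector
  set v' := ap (B.d e c'') v with hv'
  have hv'co : ∀ l, B.co v' l = if l = e then -t else B.co v l := fun l => by
    rw [hv', B.co_d hc''e.symm]
    by_cases h1 : l = e
    · subst h1; simp [ht]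
    by_cases h2 : l = c''
    · subst h2; simp [h1, hc''0]
    simp [h1, h2]
  have hbv' : ∀ l, B.co v l = 0 → B.b l ∈ zset Q K v' := by
    intro l hl
    have h := zset_ap (hb l hl) (B.d_in hM e c'')
    rw [← hv'] at h
    have hle : l ≠ e := fun h => ht0 (by rw [ht, ← h]; exact hl)
    rcases eq_or_ne l c'' with rfl | hlc
    · have e1 : ap (B.d e l) (B.b l) = -B.b l := B.ext_co fun i => by
        rw [B.co_d hle.symm, co_neg, co_b]
        by_cases hi : l = i
        · simp [hi]
        · simp [hi]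
      rw [e1] at h
      simpa using (zset Q K v').neg_mem h
    · have e1 : ap (B.d e c'') (B.b l) = B.b l := B.ext_co fun i => by
        rw [B.co_d hc''e.symm, co_b]
        by_cases hi : l = i
        · subst hi; simp [hle, hlc]
        · simp [hi]
      rwa [e1] at h
  set z := (1 / (2 * B.c * t)) • (x • B.b c + y • B.b c') with hz
  have hzv : z ∈ zset Q K v :=
    (zset Q K v).smul_mem _ ((zset Q K v).add_mem ((zset Q K v).smul_mem _ (hb c hc))
      ((zset Q K v).smul_mem _ (hb c' hc'0)))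
  have hQv : Q v = 0 := by rw [B.q_ip, hP.sing, mul_zero]
  have hvz : QuadraticMap.polar (⇑Q) v ((1 : F) • z) = 0 := by rw [one_smul]; exact hzv.1
  have hSK : siegelG Q hQv hvz ∈ K := (mem_zset.mp hzv).2 hQv 1 hvz
  set S := siegelG Q hQv hvz with hSdef
  have zco : ∀ l, B.co z l = 1 / (2 * B.c * t) * ((if c = l then x else 0) + (if c' = l then y else 0)) := fun l => by
    rw [hz, co_smul, co_two]
  have zip : ∀ w, B.ip z w = 1 / (2 * B.c * t) * (x * B.co w c + y * B.co w c') := fun w => by
    rw [hz, ip_smul_left, ip_add_left, ip_smul_left, ip_smul_left, ip_b_left, ip_b_left]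
  have hvv' : B.ip v v' = -(2 * t * t) := by
    have : v' = v - (2 * t) • B.b e := B.ext_co fun l => by
      rw [hv'co, co_sub, co_smul, co_b]
      by_cases h1 : l = e
      · subst h1; simp [ht]; ring
      · simp [h1, Ne.symm h1]
    rw [this, ip_sub_right, ip_smul_right, hP.sing, ip_b_right, ← ht]; ring
  have hzz : B.ip z z = -1 / (2 * B.c * t * (2 * B.c * t)) := by
    have hd : 2 * B.c * t ≠ 0 := mul_ne_zero (mul_ne_zero B.two B.hc) ht0
    rw [zip, zco, zco, if_pos rfl, if_neg hc'.1, if_neg (Ne.symm hc'.1), if_pos rfl, ← hxy]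
    field_simp
    ring
  set L := ap S v' with hL
  have hLeq : L = (-2 * t) • (B.b e + x • B.b c + y • B.b c') := by
    refine B.ext_co fun l => ?_
    rw [hL, hSdef, B.ap_siegelG, one_smul, hvv', zip, hzz, hv'co c, hv'co c', if_neg hce, if_neg hc'e, hc, hc'0]
    simp only [co_add, co_smul, zco, hv'co, co_b]
    have h2 := B.two
    have h3 := B.hc
    by_cases h1 : l = e
    · subst h1
      simp only [hce, hc'e, if_false, if_true, ↓reduceIte, ← ht]
      field_simp
      ring
    simp only [h1, Ne.symm h1, if_false, ↓reduceIte]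
    by_cases h4 : c = l
    · subst h4
      simp only [hc'.1, hc, if_false, if_true, ↓reduceIte]
      field_simp
      ring
    simp only [h4, if_false, ↓reduceIte]
    by_cases h5 : c' = l
    · subst h5
      simp only [hc'0, if_false, if_true, ↓reduceIte]
      field_simp
      ring
    simp only [h5, if_false, ↓reduceIte]
    field_simp
    ring
  have Lval : ∀ l, B.co L l = -2 * t * ((if e = l then 1 else 0) + (if c = l then x else 0) +
      (if c' = l then y else 0)) := fun l => by
    rw [hLeq, co_smul, co_add, co_add, co_smul, co_smul, co_b, co_b, co_b]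
    congr 1
    split_ifs <;> ring
  have hLS : ∀ {w}, w ∈ zset Q K v' → ap S w ∈ zset Q K L := fun hw => zset_ap hw hSK
  have Lco : ∀ l, l ≠ e → l ≠ c → l ≠ c' → B.co L l = 0 := fun l h1 h2 h3 => by
    rw [Lval, if_neg (Ne.symm h1), if_neg (Ne.symm h2), if_neg (Ne.symm h3)]
    ring
  have hbL₀ : ∀ d, B.co v d = 0 → d ≠ c → d ≠ c' → B.b d ∈ zset Q K L := by
    intro d hd hdc hdc'
    have h := hLS (hbv' d hd)
    rwa [hSdef, B.ap_siegelG, one_smul, ip_b_right, hd, zip, co_b, co_b, if_neg hdc, if_neg hdc', show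
      -(2 * B.c * (1 / (2 * B.c * t) * (x * 0 + y * 0))) - B.c * B.ip z z * (2 * B.c * 0) = 0 by ring, mul_zero,
      zero_smul, add_zero, zero_smul, add_zero] at h
  have hbL : ∀ d, d ≠ e → d ≠ c → d ≠ c' → B.b d ∈ zset Q K L := by
    intro d hde hdc hdc'
    by_cases hd : B.co v d = 0
    · exact hbL₀ d hd hdc hdc'
    obtain ⟨d₀, hd₀⟩ := exists_out (insert c (insert c' (B.supp v))) (by
      have := Finset.card_insert_le c (insert c' (B.supp v))
      have := Finset.card_insert_le c' (B.supp v)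
      omega)
    simp only [Finset.mem_insert, not_or, notMem_supp] at hd₀
    have hd₀e : d₀ ≠ e := fun h => ht0 (by rw [ht, ← h]; exact hd₀.2.2)
    have hne : d₀ ≠ d := fun h => hd (h ▸ hd₀.2.2)
    obtain ⟨f, f', hff, hf, hf'⟩ := exists_two_out (S := ({e, c, c', d, d₀} : Finset κ)) (by
      have h1 := Finset.card_insert_le e ({c, c', d, d₀} : Finset κ)
      have h2 := Finset.card_insert_le c ({c', d, d₀} : Finset κ)
      have := Finset.card_le_three (a := c') (b := d) (c := d₀)
      omega)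
    simp only [Finset.mem_insert, Finset.mem_singleton, not_or] at hf hf'
    have h := zset_ap (hbL₀ d₀ hd₀.2.2 hd₀.1 hd₀.2.1) (B.sw_pair_in hM hne hff)
    rwa [ap_mul, ap_mul, B.sw_fix hff (Lco f hf.1 hf.2.1 hf.2.2.1) (Lco f' hf'.1 hf'.2.1 hf'.2.2.1),
      B.sw_fix hne (Lco d₀ hd₀e hd₀.1 hd₀.2.1) (Lco d hde hdc hdc'), B.sw_b hff,
      if_neg (Ne.symm hf.2.2.2.2), if_neg (Ne.symm hf'.2.2.2.2), B.sw_b hne, if_pos rfl] at h
  have hvsum : v - t • B.b e ∈ zset Q K L := by
    rw [show v - t • B.b e = ∑ i ∈ (B.supp v).erase e, B.co v i • B.b i by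
      rw [sub_eq_iff_eq_add, Finset.sum_erase_add _ _ he]; exact B.eq_sum_supp (Finset.Subset.refl _)]
    refine (zset Q K L).sum_mem fun i hi => (zset Q K L).smul_mem _ ?_
    rw [Finset.mem_erase] at hi
    exact hbL i hi.1 (fun h => B.mem_supp.mp hi.2 (h ▸ hc)) (fun h => B.mem_supp.mp hi.2 (h ▸ hc'0))
  have hLc : ∀ (i : κ) (s : F), B.co v i = 0 → B.ip z (B.b i) = 1 / (2 * B.c * t) * s →
      B.b i - s • B.b e ∈ zset Q K L := by
    intro i s hi hzi
    have h := hLS (hbv' i hi)
    rw [hSdef, B.ap_siegelG, one_smul, ip_b_right, hi, hzi] at h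
    have e1 : -(2 * B.c * (1 / (2 * B.c * t) * s)) - B.c * B.ip z z * (2 * B.c * 0) = -(s / t) := by
      field_simp [B.two, B.hc]
      ring
    rw [e1, mul_zero, zero_smul, add_zero] at h
    have := (zset Q K L).add_mem h ((zset Q K L).smul_mem (s / t) hvsum)
    convert this using 1
    rw [smul_sub, smul_smul, div_mul_cancel₀ _ ht0]
    module
  have h1 := hLc c x hc (by rw [zip, co_b, co_b, if_pos rfl, if_neg (Ne.symm hc'.1)]; ring)
  have h2 := hLc c' y hc'0 (by rw [zip, co_b, co_b, if_pos rfl, if_neg hc'.1]; ring)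
  have hQv' : Q v' = 0 := by rw [B.q_ip, hv', B.ip_ap, hP.sing, mul_zero]
  have hQL : Q L = 0 := by rw [B.q_ip, hL, B.ip_ap, ← B.q_ip, hQv']
  have hLC : L ∈ sCentres Q K := by
    refine sCentres_of_zset hQL fun w hw => ?_
    rw [B.polar_ip, hLeq, ip_smul_left, ip_add_left, ip_add_left, ip_smul_left, ip_smul_left, ip_b_left, ip_b_left,
      ip_b_left] at hw
    have hwe : B.co w e + x * B.co w c + y * B.co w c' = 0 := by
      refine (mul_eq_zero.mp ((mul_eq_zero.mp hw).resolve_left (mul_ne_zero B.two B.hc))).resolve_left ?_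
      exact mul_ne_zero (neg_ne_zero.mpr B.two) ht0
    have key : w = (∑ i ∈ ({e, c, c'} : Finset κ)ᶜ, B.co w i • B.b i) +
        (B.co w c • (B.b c - x • B.b e) + B.co w c' • (B.b c' - y • B.b e)) := by
      conv_lhs => rw [← B.sum_co w, ← Finset.sum_compl_add_sum ({e, c, c'} : Finset κ)]
      congr 1
      rw [Finset.sum_insert (by simp [Ne.symm hce, Ne.symm hc'e]), Finset.sum_pair (Ne.symm hc'.1),
        show B.co w e = -(x * B.co w c) - y * B.co w c' by linear_combination hwe]
      module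
    rw [key]
    refine (zset Q K L).add_mem ((zset Q K L).sum_mem fun i hi => (zset Q K L).smul_mem _ ?_)
      ((zset Q K L).add_mem ((zset Q K L).smul_mem _ h1) ((zset Q K L).smul_mem _ h2))
    simp only [Finset.mem_compl, Finset.mem_insert, Finset.mem_singleton, not_or] at hi
    exact hbL i hi.1 hi.2.1 hi.2.2
  refine B.omega_le_of_pair hLC (centre_ap hLC (B.d_in hM e c'')) ?_ hι
  have hL' : ap (B.d e c'') L = L + (4 * t) • B.b e := B.ext_co fun l => by
    rw [B.co_d hc''e.symm, co_add, co_smul, co_b]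
    by_cases h4 : l = e
    · subst h4
      rw [if_pos (Or.inl rfl), if_pos rfl, Lval, if_pos rfl, if_neg hce, if_neg hc'e]
      ring
    by_cases h3 : l = c''
    · subst h3
      rw [if_pos (Or.inr rfl), if_neg (Ne.symm h4), Lco l h4 hc''.1 hc''.2.1]; ring
    rw [if_neg (not_or.mpr ⟨h4, h3⟩), if_neg (Ne.symm h4)]; ring
  rw [hL', QuadraticMap.polar_add_right, QuadraticMap.polar_self, hQL, smul_zero, zero_add,
    QuadraticMap.polar_smul_right, smul_eq_mul, B.polar_ip, ip_b_right, Lval,
    if_pos rfl, if_neg hce, if_neg hc'e, add_zero, add_zero, mul_one]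
  have h2 := B.two
  exact mul_ne_zero (mul_ne_zero (by rw [show (4 : F) = 2 * 2 by norm_num]; exact mul_ne_zero h2 h2) ht0)
    (mul_ne_zero (mul_ne_zero h2 B.hc) (mul_ne_zero (neg_ne_zero.mpr h2) ht0))

include hM in
/-- An overgroup with an element outside the monomial group is all of `Ω`. -/
theorem omega_le (hKO : K ≤ Cfsg.Omega F (⇑Q)) (hp : (Fintype.card F).Prime) (hn : 10 ≤ Fintype.card κ)
    {g : Cfsg.isometryGroup F (⇑Q)} (hg : g ∈ K) (hgm : ¬ B.Mono g) : Cfsg.Omega F (⇑Q) ≤ K := by
  have hκ : Fintype.card κ = Fintype.card ι := by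
    rw [← Module.finrank_eq_card_basis B.b, Module.finrank_fintype_fun_eq_card]
  obtain ⟨o, a, v, hv0, hva, hv8, hP⟩ := B.seed hM hKO hp hn hg hgm
  exact B.omega_le_of_rpair hM hv0 hva (by omega) (by omega) (by omega) hP

end OFrame

end Cfsg.Lib.Classical.OFr
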