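import Mathlib
import Cfsg.Agent.Classical.Orth.Frame.Units

set_option autoImplicit false
set_option linter.unusedVariables false
set_option linter.unusedSimpArgs false
set_option linter.unusedSectionVars false
set_option linter.style.haveILetI false
set_option linter.flexible false

/-! Without Siegel elements the rotation fixing the axis of a frame vector and a unit vector has order at most five. -/

namespace Cfsg.Lib.Classical.OFr

open Matrix Cfsg.Lib.Classical.Refl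

universe u w

variable {F : Type u} [Field F] [Fintype F] [DecidableEq F] {ι : Type} [Fintype ι] [DecidableEq ι]
  {Q : QuadraticForm F (ι → F)} {κ : Type w} [Fintype κ] [DecidableEq κ] {B : OFrame Q κ}
  {K : Subgroup (Cfsg.isometryGroup F (⇑Q))} {o : κ}

namespace Tri

variable (E : Tri B) (hM : ∀ g ∈ Cfsg.Omega F (⇑Q), B.Mono g → g ∈ K) (huR : E.u ∈ B.Rs K o)

include hM in
/-- A transposition from two further places with squares equal on the third vector. -/
theorem swap_mem_eq {c e : κ} (hce : c ≠ e) (hca : c ≠ E.a) (hcb : c ≠ E.b) (hea : e ≠ E.a) (heb : e ≠ E.b)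
    {ε : F} (hε : ε * ε = 1) (hc : B.co E.u c = ε * B.co E.u e) :
    rr Q (B.b E.a - (1 : F) • B.b E.b) ∈ E.G3 K o := by
  set x := B.b E.a - (1 : F) • B.b E.b
  set y := B.b c - ε • B.b e
  have hxE : E.InE x := E.inE_sub E.inE_a (E.inE_smul _ E.inE_b)
  have hy0 : ∀ z, E.InE z → B.ip y z = 0 := by
    rintro z ⟨p, q, r, rfl⟩
    rw [B.ip_sub_left, B.ip_smul_left, B.ip_b_left, B.ip_b_left, E.co_vec _ _ _ hca hcb, E.co_vec _ _ _ hea heb,
      hc]
    ring
  set m := rr Q x * rr Q y with hm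
  have hmK : m ∈ K := B.root_pair_in hM E.hab hce (one_mul 1) hε
  have hmm : B.Mono m := B.mono_mul (B.mono_root E.hab (one_mul 1)) (B.mono_root hce hε)
  have hmE : ∀ z, E.InE z → ap m z = ap (rr Q x) z := fun z hz => by
    rw [hm, ap_mul, B.rr_fix (by rw [B.ip_root hce hε]; exact B.two) (hy0 z hz)]
  refine ⟨E.fixes_rr hxE, fun z hz => ?_⟩
  rw [← hmE z hz]
  refine ⟨fun h => ?_, B.rs_mono hM hmK hmm⟩
  have := B.rs_mono hM (K.inv_mem hmK) (B.mono_inv hmm) h
  rwa [ap_inv_ap] at this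

include hM huR in
/-- Two opposite root groups, or one of four values of the first coordinate. -/
theorem roots_or_small (hp : (Fintype.card F).Prime) (hn : 5 ≤ Fintype.card ι)
    (hβ : E.β ≠ 0) (hα0 : E.α ≠ 0) (hα1 : 1 - E.α * E.α ≠ 0) :
    (∃ v x z, E.Roots K o v x z) ∨ 4 * (E.α * E.α) = 1 ∨ 4 * (E.α * E.α) = 2 ∨
      4 * (E.α * E.α) * (4 * (E.α * E.α)) - 3 * (4 * (E.α * E.α)) + 1 = 0 := by
  classical
  obtain ⟨ha, hb, hu, he'⟩ := E.gens_mem hM huR
  have hdrr : ∀ y, B.ip y y ≠ 0 → detHom Q (rr Q y) = -1 := fun y hy => detHom_rr y (B.q_ne hy)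
  have hne1 : ∀ i, B.ip (B.b i) (B.b i) ≠ 0 := fun i => by rw [B.ip_b_self]; exact one_ne_zero
  by_cases hU : ∃ g ∈ E.G3 K o, detHom Q g = 1 ∧ g ≠ 1 ∧ ∃ v, E.InE v ∧ v ≠ 0 ∧ B.ip v v = 0 ∧ ap g v = v
  · obtain ⟨g, hg, hdet, hg1, v, hvE, hv0, hvv, hgv⟩ := hU
    obtain ⟨p, q, r, rfl⟩ := id hvE
    obtain ⟨σ, hσ, hσdet, hσne⟩ : ∃ σ ∈ E.G3 K o, detHom Q σ = -1 ∧ B.ip (E.vec p q r) (ap σ (E.vec p q r)) ≠ 0 := by
      have key : ∀ y, B.ip y y ≠ 0 → B.ip (E.vec p q r) (ap (rr Q y) (E.vec p q r)) =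
          -(2 * (B.ip y (E.vec p q r) * B.ip y (E.vec p q r)) / B.ip y y) := fun y hy => by
        rw [B.rr_apply hy, B.ip_sub_right, hvv, B.ip_smul_right, B.ip_comm (E.vec p q r) y]
        field_simp
        ring
      have nzy : ∀ y, B.ip y y ≠ 0 → B.ip y (E.vec p q r) ≠ 0 →
          B.ip (E.vec p q r) (ap (rr Q y) (E.vec p q r)) ≠ 0 := fun y hy h => by
        rw [key y hy, neg_ne_zero]
        exact div_ne_zero (mul_ne_zero B.two (mul_ne_zero h h)) hy
      by_cases hp0 : p = 0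
      · by_cases hq0 : q = 0
        · refine ⟨_, he', hdrr _ (by rw [E.ip_e']; exact E.hD), nzy _ (by rw [E.ip_e']; exact E.hD) ?_⟩
          rw [E.ip_e'_vec]
          exact mul_ne_zero E.hD fun hr => hv0 (by rw [hp0, hq0, hr, E.vec_zero])
        · exact ⟨_, hb, hdrr _ (hne1 _), nzy _ (hne1 _) (by rw [B.ip_b_left, E.co_vec_b]; exact hq0)⟩
      · exact ⟨_, ha, hdrr _ (hne1 _), nzy _ (hne1 _) (by rw [B.ip_b_left, E.co_vec_a]; exact hp0)⟩
    set β := B.ip (E.vec p q r) (ap σ (E.vec p q r)) with hβ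
    set x := β⁻¹ • ap σ (E.vec p q r) with hx
    have hxE : E.InE x := E.inE_smul _ (E.fixes_inE hσ.1 hvE)
    have hww : B.ip x x = 0 := by rw [hx, B.ip_smul_left, B.ip_smul_right, B.ip_ap, hvv]; ring
    have hvw : B.ip (E.vec p q r) x = 1 := by rw [hx, B.ip_smul_right, ← hβ, inv_mul_cancel₀ hσne]
    obtain ⟨p', q', r', hxv⟩ := id hxE
    set z := E.cross p q r p' q' r' with hz
    obtain ⟨hz1, hz2, hz3⟩ := E.ip_cross p q r p' q' r'
    rw [← hxv, ← hz] at hz2 hz3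
    rw [← hz] at hz1
    rw [hvv, hww, hvw] at hz3
    have hzz : B.ip z z ≠ 0 := by
      rw [hz3, zero_mul, zero_sub, one_mul, mul_neg, mul_one, neg_ne_zero]; exact E.hD
    rw [B.ip_comm] at hz1 hz2
    have hzE : E.InE z := E.inE_vec _ _ _
    refine Or.inl ⟨E.vec p q r, x, z, hvE, hxE, hzE, hvv, hww, hvw, hz1, hz2, hzz,
      E.root_group hp hn hvE hxE hzE hvv hww hvw hz1 hz2 hzz hg hdet hg1 hgv,
      E.root_group hp hn hxE hvE hzE hww hvv (by rw [B.ip_comm]; exact hvw) hz2 hz1 hzz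
        ((E.G3 K o).mul_mem ((E.G3 K o).mul_mem hσ hg) ((E.G3 K o).inv_mem hσ))
        (by rw [map_mul, map_mul, map_inv, hdet, mul_one, mul_inv_cancel])
        (fun h => hg1 (by
          have := congrArg (fun y => σ⁻¹ * y * σ) h
          simpa [mul_assoc] using this)) ?_⟩
    rw [hx, map_smul, ap_mul, ap_mul, ap_inv_ap, hgv]
  push Not at hU
  let H : Subgroup (Cfsg.isometryGroup F (⇑Q)) := E.G3 K o ⊓ (detHom Q).ker
  have hHfix : ∀ g : H, E.Fixes g.1 := fun g => g.2.1.1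
  have hHdet : ∀ g : H, detHom Q g.1 = 1 := fun g => g.2.2
  let C : (ι → F) → Subgroup H := fun v =>
    { carrier := {g | ap g.1 v = v}
      mul_mem' := fun {g h} (hg : ap g.1 v = v) (hh : ap h.1 v = v) => by
        show ap (g.1 * h.1) v = v
        rw [ap_mul, hh, hg]
      one_mem' := by show ap (1 : Cfsg.isometryGroup F (⇑Q)) v = v; exact ap_one v
      inv_mem' := fun {g} (hg : ap g.1 v = v) => by
        show ap g.1⁻¹ v = v
        conv_lhs => rw [← hg, ap_inv_ap] }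
  have hCmem : ∀ (v : ι → F) (g : H), g ∈ C v ↔ ap g.1 v = v := fun v g => Iff.rfl
  have hprop : ∀ {g : H}, g ≠ 1 → ∀ {v y : ι → F}, E.InE v → v ≠ 0 → E.InE y → ap g.1 v = v → ap g.1 y = y →
      ∃ t : F, y = t • v := by
    intro g hg v y hv hv0 hy hgv hgy
    obtain ⟨p, q, r, rfl⟩ := hv
    obtain ⟨p', q', r', rfl⟩ := hy
    by_cases hN : E.cross p q r p' q' r' = 0
    · exact E.cross_zero hN hv0
    · exact absurd (Subtype.ext (E.eq_one_of_two (hHfix g) (hHdet g) hN hgv hgy)) hg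
  have hCsmul : ∀ (v : ι → F) (t : F), t ≠ 0 → C (t • v) = C v := fun v t ht => by
    ext g
    rw [hCmem, hCmem, map_smul]
    exact (smul_right_injective _ ht).eq_iff
  have hcj : ∀ (x : H) (v : ι → F), cj x (C v) = C (ap x.1 v) := fun x v => by
    ext g
    rw [mem_cj, hCmem, hCmem]
    show ap (x.1⁻¹ * g.1 * x.1) v = v ↔ _
    rw [ap_mul, ap_mul]
    exact ⟨fun h => by
      have h' := congrArg (ap x.1) h
      rwa [ap_ap_inv] at h', fun h => by rw [h, ap_inv_ap]⟩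
  set S : Set (Subgroup H) := {A | ∃ v, E.InE v ∧ B.ip v v ≠ 0 ∧ A = C v ∧ A ≠ ⊥} with hSdef
  have hP : AxisPartition H S := by
    refine ⟨fun g hg => ?_, ?_, ?_, ?_⟩
    · obtain ⟨v, hvE, hv0, hgv⟩ := E.exists_fixed (hHfix g) (hHdet g)
      have hvv : B.ip v v ≠ 0 := fun h => hU g.1 g.2.1 (hHdet g) (fun h1 => hg (Subtype.ext h1)) v hvE hv0 h hgv
      exact ⟨C v, ⟨v, hvE, hvv, rfl, fun h => hg (Subgroup.mem_bot.mp (h ▸ hgv))⟩, hgv⟩
    · rintro _ ⟨v, hvE, hvv, rfl, -⟩ _ ⟨y, hyE, hyy, rfl, -⟩ g hg hgv hgy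
      obtain ⟨t, rfl⟩ := hprop hg hvE (fun h => hvv (by rw [h, B.ip_zero_left])) hyE hgv hgy
      exact (hCsmul v t fun ht => hyy (by rw [ht, zero_smul, B.ip_zero_left])).symm
    · rintro _ ⟨v, hvE, hvv, rfl, hne⟩ x
      refine ⟨ap x.1 v, E.fixes_inE (hHfix x) hvE, by rwa [B.ip_ap], hcj x v, fun h => hne ?_⟩
      have := congrArg (cj x⁻¹) h
      rw [← cj_mul, inv_mul_cancel, cj_one] at this
      rw [this]; exact Subgroup.map_bot _
    · rintro _ ⟨v, hvE, hvv, rfl, hne⟩ x y hx hy hxn hyn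
      obtain ⟨g, hg, hg1⟩ := (Subgroup.ne_bot_iff_exists_ne_one.mp hne : ∃ a : C v, a ≠ 1) |> fun ⟨a, ha⟩ =>
        (⟨a.1, a.2, fun h => ha (Subtype.ext h)⟩ : ∃ a : H, a ∈ C v ∧ a ≠ 1)
      have key : ∀ x : H, cj x (C v) = C v → x ∉ C v → ap x.1 v = -v := by
        intro x hx hxn
        rw [hcj] at hx
        have hgx : ap g.1 (ap x.1 v) = ap x.1 v := by
          have : g ∈ C (ap x.1 v) := by rw [hx]; exact hg
          exact this
        obtain ⟨t, ht⟩ := hprop hg1 hvE (fun h => hvv (by rw [h, B.ip_zero_left]))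
          (E.fixes_inE (hHfix x) hvE) hg hgx
        have h2 := B.ip_ap x.1 v v
        rw [ht, B.ip_smul_left, B.ip_smul_right, ← mul_assoc] at h2
        rcases mul_self_eq_one_iff.mp ((mul_eq_right₀ hvv).mp h2) with h | h
        · exact absurd (show ap x.1 v = v by rw [ht, h, one_smul]) hxn
        · rw [ht, h, neg_one_smul]
      show ap (x.1 * y.1) v = v
      rw [ap_mul, key y hy hyn, map_neg, key x hx hxn, neg_neg]
  have hH : ∀ {y y' : ι → F}, rr Q y ∈ E.G3 K o → rr Q y' ∈ E.G3 K o → B.ip y y ≠ 0 → B.ip y' y' ≠ 0 →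
      rr Q y * rr Q y' ∈ H := fun {y y'} h h' hn' hn'' => Subgroup.mem_inf.mpr ⟨(E.G3 K o).mul_mem h h', by
    rw [MonoidHom.mem_ker, map_mul, hdrr y hn', hdrr y' hn'', neg_mul_neg, one_mul]⟩
  have he'0 : B.ip E.e' E.e' ≠ 0 := by rw [E.ip_e']; exact E.hD
  have hr0 : B.ip (B.b E.a - (1 : F) • B.b E.b) (B.b E.a - (1 : F) • B.b E.b) ≠ 0 := by
    rw [B.ip_root E.hab (one_mul 1)]; exact B.two
  have hu0 : B.ip E.u E.u ≠ 0 := by rw [E.hu]; exact one_ne_zero
  have fixa : ∀ y, B.co y E.a = 0 → ap (rr Q (B.b E.a)) y = y := fun y h =>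
    B.rr_fix (hne1 _) (by rw [B.ip_b_left]; exact h)
  have fixe : ∀ y, B.ip E.e' y = 0 → ap (rr Q E.e') y = y := fun y h => B.rr_fix he'0 h
  have nega : ap (rr Q (B.b E.a)) (B.b E.a) = -B.b E.a := B.rr_self (hne1 _)
  have coab : B.co (B.b E.b) E.a = 0 := by rw [B.co_b, if_neg E.hab.symm]
  have coba : B.co (B.b E.a) E.b = 0 := by rw [B.co_b, if_neg E.hab]
  right
  set R : H := ⟨_, hH ha hu (hne1 _) hu0⟩ with hR
  set fl : H := ⟨_, hH ha hb (hne1 _) (hne1 _)⟩ with hfl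
  have ru : ap R.1 E.u = (-1 : F) • E.u + (2 * E.α) • B.b E.a := by
    show ap (rr Q _ * rr Q _) E.u = _
    rw [ap_mul, B.rr_self hu0, map_neg, B.rr_apply_one (B.ip_b_self _), B.ip_b_left]
    simp only [α]; module
  have ra : ap R.1 (B.b E.a) = (4 * (E.α * E.α) - 1) • B.b E.a + (-2 * E.α) • E.u := by
    show ap (rr Q _ * rr Q _) (B.b E.a) = _
    rw [ap_mul, B.rr_apply_one E.hu, map_sub, map_smul, nega, B.rr_apply_one (B.ip_b_self _), B.ip_b_left,
      B.ip_b_right]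
    simp only [α]; module
  have indep : ∀ s t : F, s • B.b E.a + t • E.u = 0 → s = 0 ∧ t = 0 := by
    intro s t h
    have e : E.vec (s + t * E.α) (t * E.β) t = s • B.b E.a + t • E.u := by simp only [vec, e']; module
    rw [h, ← E.vec_zero] at e
    obtain ⟨h1, -, h3⟩ := E.vec_inj e
    exact ⟨by rw [h3] at h1; linear_combination h1, h3⟩
  have hR1 : R ≠ 1 := fun h => by
    rw [h] at ra
    have hone : ap (1 : H).1 (B.b E.a) = B.b E.a := ap_one _
    rw [hone] at ra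
    have := (indep (4 * (E.α * E.α) - 2) (-2 * E.α) (by linear_combination (norm := module) -ra)).2
    exact mul_ne_zero (neg_ne_zero.mpr B.two) hα0 this
  set wx := E.vec 0 (-E.D) E.β with hwx
  have hwxE : E.InE wx := E.inE_vec _ _ _
  have hwx0 : B.ip wx wx ≠ 0 := by
    rw [hwx, E.ip_vec_vec, show (0 : F) * 0 + -E.D * -E.D + E.D * (E.β * E.β) = E.D * (1 - E.α * E.α) by
      simp only [D]; ring]
    exact mul_ne_zero E.hD hα1
  have hwxne : wx ≠ 0 := fun h => hwx0 (by rw [h, B.ip_zero_left])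
  have hwxa : B.co wx E.a = 0 := E.co_vec_a _ _ _
  set Cx := C wx with hCx
  have hRx : R ∈ Cx := by
    show ap (rr Q _ * rr Q _) wx = wx
    rw [ap_mul, B.rr_fix hu0 (by rw [hwx, E.vec_u, E.ip_vec_vec]; ring), fixa _ hwxa]
  have hCS : Cx ∈ S := ⟨_, hwxE, hwx0, rfl, fun h => hR1 (Subgroup.mem_bot.mp (h ▸ hRx))⟩
  have hfC : ∃ x, cj x Cx = Cx ∧ x ∉ Cx := by
    set Ka : H := ⟨_, hH hb he' (hne1 _) he'0⟩
    have hK : ap Ka.1 wx = -wx := by
      show ap (rr Q _ * rr Q _) wx = _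
      have r1 : ap (rr Q E.e') wx = E.vec 0 (-E.D) (-E.β) := by
        rw [B.rr_apply he'0, hwx, E.ip_e'_vec, E.ip_e', mul_div_assoc, mul_div_cancel_left₀ _ E.hD]
        simp only [vec]; module
      rw [ap_mul, r1, B.rr_apply_one (B.ip_b_self _), B.ip_b_left, E.co_vec_b, hwx]
      simp only [vec]; module
    refine ⟨Ka, ?_, fun h => hwxne ?_⟩
    · rw [hCx, hcj, hK, ← neg_one_smul F wx, hCsmul _ _ (neg_ne_zero.mpr one_ne_zero)]
    · have h2 : (2 : F) • wx = 0 := by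
        rw [two_smul]; nth_rewrite 1 [← (hK.symm.trans h : -wx = wx)]; exact neg_add_cancel wx
      exact (smul_eq_zero.mp h2).resolve_left B.two
  -- the flipped axis
  have flw : ap fl.1 wx = E.vec 0 E.D E.β := by
    show ap (rr Q _ * rr Q _) wx = _
    rw [ap_mul, B.rr_apply_one (B.ip_b_self E.b), B.ip_b_left, hwx, E.co_vec_b, map_sub, map_smul,
      fixa _ (E.co_vec_a _ _ _), fixa _ (by rw [B.co_b, if_neg E.hab.symm])]
    simp only [vec]; module
  have hne2 : Cx ≠ cj fl Cx := by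
    intro h
    rw [hCx, hcj, flw] at h
    obtain ⟨t, ht⟩ := hprop hR1 hwxE hwxne (E.inE_vec 0 E.D E.β) hRx (h ▸ hRx : R ∈ C (E.vec 0 E.D E.β))
    rw [hwx, E.vec_smul] at ht
    obtain ⟨-, h2, h3⟩ := E.vec_inj ht
    have ht1 : (t + 1) * E.D = 0 := by linear_combination h2
    have : (t : F) = -1 := eq_neg_of_add_eq_zero_left ((mul_eq_zero.mp ht1).resolve_right E.hD)
    rw [this] at h3
    exact hβ ((mul_eq_zero.mp (show (2 : F) * E.β = 0 by linear_combination h3)).resolve_left B.two)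
  haveI : Fintype H := Fintype.ofFinite H
  have hC5 : Nat.card Cx ≤ 5 := by
    by_contra h6
    refine hP.one_class_false hCS (by omega) hfC {Cx, cj fl Cx} (by rw [Finset.card_pair hne2]) fun D hD => ?_
    simp only [Finset.mem_insert, Finset.mem_singleton] at hD
    rcases hD with rfl | rfl
    · exact ⟨1, cj_one _⟩
    · exact ⟨fl, rfl⟩
  set τ := 4 * (E.α * E.α) - 2 with hτ
  have hr2 : ap R.1 (ap R.1 (B.b E.a)) = τ • ap R.1 (B.b E.a) - B.b E.a := by
    rw [ra, map_add, map_smul, map_smul, ra, ru, hτ]; module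
  have hpow : R ^ Nat.card Cx = 1 :=
    congrArg Subtype.val (pow_card_eq_one' (G := Cx) (x := ⟨R, hRx⟩))
  have hfix : ∀ n : ℕ, R ^ n = 1 → (ap R.1)^[n] (B.b E.a) = B.b E.a := by
    intro n hn
    have : ∀ m : ℕ, ∀ y, (ap R.1)^[m] y = ap (R ^ m : H).1 y := fun m => by
      induction m with
      | zero => intro y; simp [ap_one]
      | succ m ih =>
        intro y
        rw [Function.iterate_succ_apply', ih, pow_succ']
        exact (ap_mul R.1 (R ^ m : H).1 y).symm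
    rw [this, hn]; exact ap_one _
  have h4 := hfix _ hpow
  have hpos := Nat.card_pos (α := Cx)
  have coef : ∀ c₁ c₀ : F, c₁ • ap R.1 (B.b E.a) + c₀ • B.b E.a = 0 → c₁ = 0 ∧ c₀ = 0 := by
    intro c₁ c₀ h
    rw [ra] at h
    obtain ⟨e1, e2⟩ := indep (c₁ * (4 * (E.α * E.α) - 1) + c₀) (c₁ * (-2 * E.α))
      (by linear_combination (norm := module) h)
    have hz : c₁ = 0 := (mul_eq_zero.mp e2).resolve_right (mul_ne_zero (neg_ne_zero.mpr B.two) hα0)
    rw [hz, zero_mul, zero_add] at e1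
    exact ⟨hz, e1⟩
  have hτe : 4 * (E.α * E.α) = τ + 2 := by rw [hτ]; ring
  obtain hc | hc | hc | hc | hc :
      Nat.card Cx = 1 ∨ Nat.card Cx = 2 ∨ Nat.card Cx = 3 ∨ Nat.card Cx = 4 ∨ Nat.card Cx = 5 := by omega
  all_goals simp only [hc, Function.iterate_succ_apply', Function.iterate_zero_apply] at h4
  · exact absurd (coef 1 (-1) (by linear_combination (norm := module) h4)).1 one_ne_zero
  · rw [hr2] at h4
    obtain ⟨-, e2⟩ := coef τ (-2) (by linear_combination (norm := module) h4)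
    exact absurd (neg_eq_zero.mp e2) B.two
  · rw [hr2, map_sub, map_smul, hr2] at h4
    obtain ⟨-, e2⟩ := coef (τ * τ - 1) (-τ - 1) (by linear_combination (norm := module) h4)
    exact Or.inl (by linear_combination hτe - e2)
  · rw [hr2] at h4
    simp only [map_sub, map_smul, hr2, smul_sub, smul_smul] at h4
    obtain ⟨-, e2⟩ := coef (τ * τ * τ - 2 * τ) (-(τ * τ)) (by linear_combination (norm := module) h4)
    exact Or.inr (Or.inl (by rw [hτe, mul_self_eq_zero.mp (neg_eq_zero.mp e2), zero_add]))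
  · rw [hr2] at h4
    simp only [map_sub, map_smul, hr2, smul_sub, smul_smul] at h4
    obtain ⟨e1, e2⟩ := coef (τ * τ * τ * τ - 3 * (τ * τ) + 1) (-(τ * τ * τ) + 2 * τ - 1)
      (by linear_combination (norm := module) h4)
    refine Or.inr (Or.inr ?_)
    rw [hτe]
    have hτ1 : τ - 1 ≠ 0 := fun h => by
      rw [sub_eq_zero.mp h] at e1
      exact one_ne_zero (show (1 : F) = 0 by linear_combination -e1)
    refine (mul_eq_zero.mp (show (τ - 1) * ((τ + 2) * (τ + 2) - 3 * (τ + 2) + 1) = 0 by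
      linear_combination -e2)).resolve_left hτ1

end Tri

end Cfsg.Lib.Classical.OFr
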