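import Mathlib
import Cfsg.Agent.Classical.Orth.Frame.Order

set_option autoImplicit false
set_option linter.unusedVariables false
set_option linter.unusedSimpArgs false
set_option linter.unusedSectionVars false
set_option linter.style.haveILetI false
set_option linter.flexible false

/-! A unit vector of an overgroup outside the frame gives a short singular line of unit vectors. -/

namespace Cfsg.Lib.Classical.OFr

open Matrix Cfsg.Lib.Classical.Refl

universe u w

namespace OFrame

variable {F : Type u} [Field F] [Fintype F] [DecidableEq F] {ι : Type} [Fintype ι] [DecidableEq ι]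
  {Q : QuadraticForm F (ι → F)} {κ : Type w} [Fintype κ] [DecidableEq κ] (B : OFrame Q κ)
  {K : Subgroup (Cfsg.isometryGroup F (⇑Q))} {o : κ}
  (hM : ∀ g ∈ Cfsg.Omega F (⇑Q), B.Mono g → g ∈ K)

theorem frame_card (B : OFrame Q κ) : Fintype.card κ = Fintype.card ι := by
  rw [← Module.finrank_eq_card_basis B.b, Module.finrank_fintype_fun_eq_card]

theorem sq_one_of_three (hp : (Fintype.card F).Prime) (h : (3 : F) = 0) {x : F} (hx : x ≠ 0) : x * x = 1 := by
  have hF : Fintype.card F = 3 := by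
    haveI := Fact.mk hp
    haveI : CharP F (Fintype.card F) := charP_of_card_eq_prime rfl
    have : ((3 : ℕ) : F) = 0 := by exact_mod_cast h
    rw [CharP.cast_eq_zero_iff F (Fintype.card F)] at this
    exact (Nat.prime_dvd_prime_iff_eq hp Nat.prime_three).mp this
  have h' := FiniteField.pow_card_sub_one_eq_one x hx
  rw [hF] at h'
  rw [← h']; ring

include hM in
theorem flip_set {u : ι → F} (hu : u ∈ B.Rs K o) (S : Finset κ) :
    ∃ x ∈ B.Rs K o, ∀ l, B.co x l = if l ∈ S then -B.co u l else B.co u l := by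
  induction S using Finset.induction with
  | empty => exact ⟨u, hu, by simp⟩
  | insert a S ha ih =>
    obtain ⟨x, hx, hco⟩ := ih
    refine ⟨ap (rr Q (B.b a)) x, B.rs_refl (B.rs_b hM a) hx, fun l => ?_⟩
    rw [B.co_rr_b, hco]
    by_cases hl : l = a
    · subst hl; simp [ha]
    · simp [hl]

include hM in
/-- A set of places with squares summing to one gives a singular line. -/
theorem rpair_of_subset (hp : (Fintype.card F).Prime) {u : ι → F} (hu : u ∈ B.Rs K o) {S : Finset κ}
    (hS : ∑ l ∈ S, B.co u l * B.co u l = 1) {a : κ} (ha : a ∈ S) (hua : B.co u a ≠ 0) {c : κ} (hc : c ∉ S)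
    (huc : B.co u c ≠ 0) :
    ∃ v, v ≠ 0 ∧ B.co v a = 0 ∧ B.supp v ⊆ B.supp u \ S ∧ B.RPair K o v (B.b a) := by
  obtain ⟨x, hx, hco⟩ := B.flip_set hM hu S
  set v := -x - u with hv
  have hvco : ∀ l, B.co v l = if l ∈ S then 0 else -2 * B.co u l := fun l => by
    rw [hv, B.co_sub, B.co_neg, hco]
    split_ifs <;> ring
  have hux : B.ip u x = -1 := by
    have hd : ∀ l, B.co u l * B.co x l = B.co u l * B.co u l -
        2 * (if l ∈ S then B.co u l * B.co u l else 0) := fun l => by
      rw [hco]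
      split_ifs <;> ring
    rw [OFrame.ip, Finset.sum_congr rfl fun l _ => hd l, Finset.sum_sub_distrib, ← Finset.mul_sum,
      Finset.sum_ite_mem, Finset.univ_inter, hS, ← OFrame.ip, B.rs_unit hu]
    ring
  have hvv : B.ip v v = 0 := by
    rw [hv]
    simp only [B.ip_sub_left, B.ip_sub_right, B.ip_neg_left, B.ip_neg_right, B.rs_unit hu, B.rs_unit hx,
      B.ip_comm x u, hux]
    ring
  have hvu : B.ip v u = 0 := by
    rw [hv, B.ip_sub_left, B.ip_neg_left, B.ip_comm x u, hux, B.rs_unit hu, neg_neg, sub_self]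
  have hP := B.rpair_of hp hvv hvu hu (by rw [hv, add_sub_cancel]; exact B.rs_neg hx)
  have hva : B.co v a = 0 := by rw [hvco, if_pos ha]
  refine ⟨v, fun h => ?_, hva, fun l hl => ?_,
    B.rpair_other hP (B.rs_b hM a) (by rw [B.ip_b_right, hva]) (by rw [B.ip_b_right]; exact hua)⟩
  · have := hvco c
    rw [h, B.co_zero, if_neg hc] at this
    exact mul_ne_zero (neg_ne_zero.mpr B.two) huc this.symm
  · rw [B.mem_supp, hvco] at hl
    rw [Finset.mem_sdiff, B.mem_supp]
    refine ⟨fun h => hl ?_, fun h => hl (if_pos h)⟩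
    split_ifs
    · rfl
    · rw [h, mul_zero]

include hM in
/-- Root groups in the space of two places of the support give a singular line with a smaller support. -/
theorem rpair_of_roots (hp : (Fintype.card F).Prime) (h3 : (3 : F) ≠ 0) (E : Tri B) (huR : E.u ∈ B.Rs K o)
    {v x z : ι → F} (P : E.Roots K o v x z) (ha : E.a ∈ B.supp E.u) (hb : E.b ∈ B.supp E.u)
    (hs : 4 ≤ (B.supp E.u).card) :
    ∃ l v', v' ≠ 0 ∧ B.co v' l = 0 ∧ (B.supp v').card < (B.supp E.u).card ∧ B.RPair K o v' (B.b l) := by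
  obtain ⟨l, hl, hl0⟩ := Finset.exists_mem_notMem_of_card_lt_card (s := ({E.a, E.b} : Finset κ)) (t := B.supp E.u)
    (by have := (Finset.card_le_two : ({E.a, E.b} : Finset κ).card ≤ 2); omega)
  obtain ⟨l', hl', hl''⟩ := Finset.exists_mem_notMem_of_card_lt_card (s := ({E.a, E.b, l} : Finset κ))
    (t := B.supp E.u) (by have := Finset.card_le_three (a := E.a) (b := E.b) (c := l); omega)
  simp only [Finset.mem_insert, Finset.mem_singleton, not_or] at hl0 hl''
  set γ := (B.co E.u l)⁻¹ with hγ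
  obtain ⟨p, q, hpq⟩ := binary_universal B.two (one_ne_zero (α := F)) (one_ne_zero (α := F)) (1 - E.D * (γ * γ))
  set y := E.vec p q γ with hy
  have hyy : B.ip y y = 1 := by rw [hy, E.ip_vec_vec]; linear_combination hpq
  have hyR := Tri.units_mem P hM huR hp h3 (E.inE_vec p q γ) hyy
  have hyl : B.co y l = 1 := by
    rw [hy, E.co_vec p q γ hl0.1 hl0.2, hγ]; exact inv_mul_cancel₀ (B.mem_supp.mp hl)
  set v' := y - B.b l with hv'
  have hvl : B.co v' l = 0 := by rw [hv', B.co_sub, B.co_b, if_pos rfl, hyl, sub_self]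
  refine ⟨l, v', fun h => ?_, hvl, ?_, B.rpair_of hp ?_ (by rw [B.ip_b_right, hvl]) (B.rs_b hM l)
    (by rw [hv', add_sub_cancel]; exact hyR)⟩
  · have := congrArg (fun z => B.co z l') h
    simp only [hv', B.co_sub, B.co_b, if_neg (Ne.symm hl''.2.2), hy, E.co_vec p q γ hl''.1 hl''.2.1, B.co_zero,
      sub_zero] at this
    exact mul_ne_zero (inv_ne_zero (B.mem_supp.mp hl)) (B.mem_supp.mp hl') this
  · refine lt_of_le_of_lt (Finset.card_le_card (t := (B.supp E.u).erase l) fun i hi => ?_)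
      (Finset.card_erase_lt_of_mem hl)
    have hil : i ≠ l := fun h => B.mem_supp.mp hi (h ▸ hvl)
    rw [B.mem_supp, hv', B.co_sub, B.co_b, if_neg hil.symm, sub_zero] at hi
    refine Finset.mem_erase.mpr ⟨hil, ?_⟩
    by_cases hia : i = E.a
    · exact hia ▸ ha
    by_cases hib : i = E.b
    · exact hib ▸ hb
    rw [hy, E.co_vec p q γ hia hib] at hi
    exact B.mem_supp.mpr (right_ne_zero_of_mul hi)
  · rw [hv']
    simp only [B.ip_sub_left, B.ip_sub_right, hyy, B.ip_b_right, B.ip_b_left, hyl, B.co_b, ↓reduceIte]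
    ring

include hM in
/-- From a support of five or more a singular line with a smaller support. -/
theorem rpair_smaller (hp : (Fintype.card F).Prime) {u : ι → F} (hu : u ∈ B.Rs K o) (h5 : 5 ≤ (B.supp u).card) :
    ∃ a v, v ≠ 0 ∧ B.co v a = 0 ∧ (B.supp v).card < (B.supp u).card ∧ B.RPair K o v (B.b a) := by
  classical
  have hκ := B.frame_card
  have hn5 : 5 ≤ Fintype.card ι := by
    have := Finset.card_le_univ (B.supp u)
    omega
  by_contra hno
  set q : κ → F := fun l => B.co u l * B.co u l with hq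
  have hsub : ∀ S : Finset κ, S ⊆ B.supp u → S.Nonempty → S.card < (B.supp u).card →
      ∑ l ∈ S, q l ≠ 1 := by
    intro S hS hne hlt hsum
    obtain ⟨a, ha⟩ := hne
    obtain ⟨c, hc, hcS⟩ := Finset.exists_mem_notMem_of_card_lt_card hlt
    obtain ⟨v, h0, hva, hvs, hP⟩ :=
      B.rpair_of_subset hM hp hu hsum ha (B.mem_supp.mp (hS ha)) hcS (B.mem_supp.mp hc)
    refine hno ⟨a, v, h0, hva, ?_, hP⟩
    refine lt_of_le_of_lt (Finset.card_le_card hvs) (Finset.card_lt_card ?_)
    exact Finset.sdiff_ssubset hS ⟨a, ha⟩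
  have h1 : ∀ a ∈ B.supp u, q a ≠ 1 := fun a ha h =>
    hsub {a} (by simpa using ha) ⟨a, by simp⟩ (by rw [Finset.card_singleton]; omega) (by rw [Finset.sum_singleton, h])
  have h2 : ∀ a ∈ B.supp u, ∀ b ∈ B.supp u, a ≠ b → 1 - q a - q b ≠ 0 := fun a ha b hb hab h =>
    hsub {a, b} (by simp [Finset.insert_subset_iff, ha, hb]) ⟨a, by simp⟩ (by rw [Finset.card_pair hab]; omega)
      (by rw [Finset.sum_pair hab]; linear_combination -h)
  obtain ⟨a₀, ha₀⟩ := Finset.card_pos.mp (by omega : 0 < (B.supp u).card)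
  have h3 : (3 : F) ≠ 0 := fun h => h1 a₀ ha₀ (sq_one_of_three hp h (B.mem_supp.mp ha₀))
  have h4 : (4 : F) ≠ 0 := by rw [show (4 : F) = 2 * 2 by ring]; exact mul_ne_zero B.two B.two
  -- one of four values at every place
  have hval : ∀ a ∈ B.supp u, 4 * q a = 1 ∨ 4 * q a = 2 ∨ 4 * q a * (4 * q a) - 3 * (4 * q a) + 1 = 0 := by
    intro a ha
    obtain ⟨b, hb, hba⟩ := Finset.exists_mem_ne (s := B.supp u) (by omega) a
    let E : Tri B := ⟨a, b, u, Ne.symm hba, B.rs_unit hu, h2 a ha b hb (Ne.symm hba)⟩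
    rcases E.roots_or_small (o := o) hM hu hp hn5 (B.mem_supp.mp hb) (B.mem_supp.mp ha)
      (sub_ne_zero.mpr (Ne.symm (h1 a ha))) with ⟨v, x, z, P⟩ | h
    · exact absurd (B.rpair_of_roots hM hp h3 E hu P ha hb (show 4 ≤ (B.supp u).card by omega)) hno
    · exact h
  -- two places of one value give two values at the others
  have hpair : ∀ c ∈ B.supp u, ∀ e ∈ B.supp u, c ≠ e → 4 * q c = 4 * q e →
      ∀ a ∈ B.supp u, a ≠ c → a ≠ e → 4 * q a = 1 ∨ 4 * q a = 2 := by
    intro c hc e he hce hqq a ha hac hae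
    obtain ⟨b, hb, hb'⟩ := Finset.exists_mem_notMem_of_card_lt_card (s := ({a, c, e} : Finset κ)) (t := B.supp u) (by
      have := Finset.card_le_three (a := a) (b := c) (c := e); omega)
    simp only [Finset.mem_insert, Finset.mem_singleton, not_or] at hb'
    let E : Tri B := ⟨a, b, u, Ne.symm hb'.1, B.rs_unit hu, h2 a ha b hb (Ne.symm hb'.1)⟩
    have he0 := B.mem_supp.mp he
    set ε := B.co u c / B.co u e with hε
    have hεε : ε * ε = 1 := by
      rw [hε, div_mul_div_comm, div_eq_one_iff_eq (mul_ne_zero he0 he0)]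
      exact mul_left_cancel₀ h4 hqq
    have hsw := E.swap_mem_eq (o := o) hM hce hac.symm (Ne.symm hb'.2.1) hae.symm (Ne.symm hb'.2.2) hεε
      (show B.co u c = ε * B.co u e by rw [hε, div_mul_cancel₀ _ he0])
    by_contra hc'
    rw [not_or] at hc'
    have hh2 : 2 * (E.α * E.α) ≠ 1 := fun h => by
      change 2 * q a = 1 at h
      exact hc'.2 (by linear_combination 2 * h)
    obtain ⟨v, x, z, P⟩ := E.exists_roots_sw (o := o) hM hu hp hn5 hsw (B.mem_supp.mp hb) (B.mem_supp.mp ha)
      (sub_ne_zero.mpr (Ne.symm (h1 a ha))) hh2 hc'.1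
    exact hno (B.rpair_of_roots hM hp h3 E hu P ha hb (show 4 ≤ (B.supp u).card by omega))
  obtain ⟨W, hW, hWm⟩ : ∃ W : Finset F, W.card ≤ 4 ∧ ∀ a ∈ B.supp u, 4 * q a ∈ W := by
    by_cases hx : ∃ a ∈ B.supp u, 4 * q a * (4 * q a) - 3 * (4 * q a) + 1 = 0
    · obtain ⟨a₁, -, hx⟩ := hx
      refine ⟨{1, 2, 4 * q a₁, 3 - 4 * q a₁}, Finset.card_le_four, fun a ha => ?_⟩
      simp only [Finset.mem_insert, Finset.mem_singleton]
      rcases hval a ha with h | h | h
      · exact Or.inl h
      · exact Or.inr (Or.inl h)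
      · rcases mul_eq_zero.mp (show (4 * q a - 4 * q a₁) * (4 * q a + 4 * q a₁ - 3) = 0 by
          linear_combination h - hx) with h' | h'
        · exact Or.inr (Or.inr (Or.inl (sub_eq_zero.mp h')))
        · exact Or.inr (Or.inr (Or.inr (by linear_combination h')))
    · push Not at hx
      refine ⟨{1, 2}, le_trans Finset.card_le_two (by omega), fun a ha => ?_⟩
      simp only [Finset.mem_insert, Finset.mem_singleton]
      rcases hval a ha with h | h | h
      · exact Or.inl h
      · exact Or.inr h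
      · exact absurd h (hx a ha)
  obtain ⟨c, hc, e, he, hce, hqq⟩ :=
    Finset.exists_ne_map_eq_of_card_lt_of_maps_to (s := B.supp u) (t := W) (f := fun a => 4 * q a) (by omega) hWm
  set T := ((B.supp u).erase c).erase e with hT
  have hTc : 3 ≤ T.card := by
    rw [hT, Finset.card_erase_of_mem (Finset.mem_erase.mpr ⟨hce.symm, he⟩), Finset.card_erase_of_mem hc]
    omega
  have hTm : ∀ a ∈ T, a ∈ B.supp u ∧ a ≠ c ∧ a ≠ e := fun a ha => by
    simp only [hT, Finset.mem_erase] at ha
    exact ⟨ha.2.2, ha.2.1, ha.1⟩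
  obtain ⟨c', hc', e', he', hce', hqq'⟩ :=
    Finset.exists_ne_map_eq_of_card_lt_of_maps_to (s := T) (t := ({1, 2} : Finset F)) (f := fun a => 4 * q a)
      (lt_of_le_of_lt Finset.card_le_two (by omega)) (fun a ha => by
        obtain ⟨ha, h', h''⟩ := hTm a ha
        simpa using hpair c hc e he hce hqq a ha h' h'')
  have hall : ∀ a ∈ B.supp u, 4 * q a = 1 ∨ 4 * q a = 2 := by
    intro a ha
    by_cases haT : a ≠ c ∧ a ≠ e
    · exact hpair c hc e he hce hqq a ha haT.1 haT.2
    · have hne : a ≠ c' ∧ a ≠ e' := by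
        obtain ⟨-, x1, x2⟩ := hTm c' hc'
        obtain ⟨-, y1, y2⟩ := hTm e' he'
        rw [not_and_or, not_not, not_not] at haT
        rcases haT with rfl | rfl
        exacts [⟨x1.symm, y1.symm⟩, ⟨x2.symm, y2.symm⟩]
      exact hpair c' (hTm c' hc').1 e' (hTm e' he').1 hce' hqq' a ha hne.1 hne.2
  -- four quarters
  set N := (B.supp u).filter fun a => 4 * q a = 1 with hN
  have hN4 : 4 ≤ N.card := by
    have hle : ((B.supp u).filter fun a => ¬ 4 * q a = 1).card ≤ 1 := by
      rw [Finset.card_le_one]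
      intro a ha b hb
      simp only [Finset.mem_filter] at ha hb
      by_contra hab
      have hA := (hall a ha.1).resolve_left ha.2
      have hB := (hall b hb.1).resolve_left hb.2
      refine h2 a ha.1 b hb.1 hab (mul_left_cancel₀ h4 ?_)
      linear_combination -hA - hB
    have hsum := Finset.card_filter_add_card_filter_not (s := B.supp u) (p := fun a => 4 * q a = 1)
    rw [hN]
    omega
  obtain ⟨S, hSN, hS4⟩ := Finset.exists_subset_card_eq hN4
  refine hsub S (hSN.trans (Finset.filter_subset _ _)) (Finset.card_pos.mp (by omega)) (by omega) ?_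
  refine mul_left_cancel₀ h4 ?_
  rw [Finset.mul_sum, Finset.sum_congr rfl fun a ha => (Finset.mem_filter.mp (hSN ha)).2, Finset.sum_const, hS4,
    mul_one, nsmul_eq_mul, mul_one]
  norm_num

include hM in
/-- A singular line shrinks to support at most four. -/
theorem rpair_shrink (hp : (Fintype.card F).Prime) (hn : 7 ≤ Fintype.card κ) :
    ∀ (m : ℕ) (a : κ) (v : ι → F), v ≠ 0 → B.co v a = 0 → (B.supp v).card = m → B.RPair K o v (B.b a) →
      ∃ a' v', v' ≠ 0 ∧ B.co v' a' = 0 ∧ (B.supp v').card ≤ 4 ∧ B.RPair K o v' (B.b a') := by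
  intro m
  induction m using Nat.strong_induction_on with
  | _ m ih =>
  intro a v hv0 hva hm hP
  by_cases h4 : m ≤ 4
  · exact ⟨a, v, hv0, hva, by omega, hP⟩
  suffices ∃ a' v', v' ≠ 0 ∧ B.co v' a' = 0 ∧ (B.supp v').card < m ∧ B.RPair K o v' (B.b a') by
    obtain ⟨a', v', h0, ha', hlt, hP'⟩ := this
    exact ih _ hlt a' v' h0 ha' rfl hP'
  have haV : a ∉ B.supp v := B.notMem_supp.mpr hva
  by_cases h3 : (3 : F) = 0
  · obtain ⟨S, hS, hS4⟩ := Finset.exists_subset_card_eq (show 4 ≤ (B.supp v).card by omega)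
    obtain ⟨a₁, ha₁⟩ := Finset.card_pos.mp (by omega : 0 < S.card)
    set x := B.b a + (1 : F) • v with hx
    have hco : ∀ l ∈ S, B.co x l = B.co v l := fun l hl => by
      rw [hx, B.co_add, B.co_smul, B.co_b, if_neg (fun h : a = l => haV (h ▸ hS hl)), zero_add, one_mul]
    have hsum : ∑ l ∈ S, B.co x l * B.co x l = 1 := by
      rw [Finset.sum_congr rfl fun l hl => by rw [hco l hl, sq_one_of_three hp h3 (B.mem_supp.mp (hS hl))],
        Finset.sum_const, hS4, nsmul_eq_mul, mul_one]
      push_cast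
      linear_combination h3
    obtain ⟨v', h0, hva', hvs, hP'⟩ := B.rpair_of_subset hM hp (hP.line 1) hsum ha₁
      (by rw [← hx, hco a₁ ha₁]; exact B.mem_supp.mp (hS ha₁)) (c := a) (fun h => haV (hS h)) (by
        rw [B.co_add, B.co_smul, B.co_b, if_pos rfl, hva, mul_zero, add_zero]; exact one_ne_zero)
    refine ⟨a₁, v', h0, hva', ?_, hP'⟩
    have h' := (Finset.card_le_card hvs).trans (Finset.card_le_card (t := insert a (B.supp v \ S)) fun i hi => by
      rw [Finset.mem_sdiff] at hi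
      by_cases hia : i = a
      · exact hia ▸ Finset.mem_insert_self _ _
      refine Finset.mem_insert_of_mem (Finset.mem_sdiff.mpr ⟨B.mem_supp.mpr fun h => B.mem_supp.mp hi.1 ?_, hi.2⟩)
      rw [B.co_add, B.co_smul, B.co_b, if_neg (Ne.symm hia), h, mul_zero, add_zero])
    have := Finset.card_insert_le a (B.supp v \ S)
    rw [Finset.card_sdiff_of_subset hS] at this
    omega
  obtain ⟨l, hl⟩ := B.supp_nonempty hv0
  have hvl := B.mem_supp.mp hl
  have hal : a ≠ l := fun h => haV (h ▸ hl)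
  set t := B.co v l with ht
  set v₁ := ap (rr Q (B.b l)) v with hv₁
  set x := B.b a + t⁻¹ • v with hx
  set x₁ := B.b a + (3 * t)⁻¹ • v₁ with hx₁
  have hxR : x ∈ B.Rs K o := hP.line _
  have hx₁R : x₁ ∈ B.Rs K o := by
    have := B.rs_refl (B.rs_b hM l) (hP.line (3 * t)⁻¹)
    rwa [map_add, map_smul, ← hv₁, B.rr_b_b, if_neg hal] at this
  have hv₁e : v₁ = v - (2 * t) • B.b l := by rw [hv₁, B.rr_apply_one (B.ip_b_self l), B.ip_b_left]
  set y₀ := ap (rr Q x) (B.b l) with hy₀
  set y := ap (rr Q x₁) y₀ with hy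
  have hyR : y ∈ B.Rs K o := B.rs_refl hx₁R (B.rs_refl hxR (B.rs_b hM l))
  have hy₀e : y₀ = B.b l - (2 : F) • x := by
    rw [hy₀, B.rr_apply_one (B.rs_unit hxR), B.ip_b_right, hx, B.co_add, B.co_smul, B.co_b, if_neg hal, ← ht,
      zero_add, inv_mul_cancel₀ hvl, mul_one]
  have hip : B.ip x₁ y₀ = -1 := by
    rw [hy₀e, hx₁, hv₁e, hx]
    simp only [B.ip_add_left, B.ip_add_right, B.ip_sub_left, B.ip_sub_right, B.ip_smul_left, B.ip_smul_right,
      B.ip_b_left, B.ip_b_right, B.co_add, B.co_smul, B.co_sub, B.co_b, hP.sing, hva, ← ht, if_neg hal,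
      if_neg hal.symm, ↓reduceIte]
    field_simp
    ring
  have hye : y = y₀ + (2 : F) • x₁ := by
    rw [hy, B.rr_apply_one (B.rs_unit hx₁R), hip]; module
  have hco : ∀ i, B.co y i = -(4 / (3 * t)) * B.co v i + (if l = i then -(1 / 3) else 0) := fun i => by
    rw [hye, hy₀e, hx₁, hv₁e, hx]
    simp only [B.co_add, B.co_smul, B.co_sub, B.co_b]
    by_cases h : l = i
    · subst h
      rw [if_pos rfl, if_pos rfl, if_neg hal, ← ht]
      field_simp
      ring
    · rw [if_neg h, if_neg h]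
      field_simp
      ring
  have h43 : (4 : F) / (3 * t) ≠ 0 := div_ne_zero
    (by rw [show (4 : F) = 2 * 2 by ring]; exact mul_ne_zero B.two B.two) (mul_ne_zero h3 hvl)
  have hsub : B.supp y ⊆ B.supp v := fun i hi => by
    rw [B.mem_supp, hco] at hi
    by_contra hiv
    have hil : l ≠ i := fun h => hiv (h ▸ hl)
    rw [B.notMem_supp.mp hiv, if_neg hil, mul_zero, add_zero] at hi
    exact hi rfl
  have hsup : (B.supp v).erase l ⊆ B.supp y := fun i hi => by
    obtain ⟨hil, hiv⟩ := Finset.mem_erase.mp hi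
    rw [B.mem_supp, hco, if_neg (Ne.symm hil), add_zero]
    exact mul_ne_zero (neg_ne_zero.mpr h43) (B.mem_supp.mp hiv)
  have n1 := Finset.card_le_card hsub
  have n2 := Finset.card_le_card hsup
  rw [Finset.card_erase_of_mem hl] at n2
  by_cases h5 : 5 ≤ (B.supp y).card
  · obtain ⟨a', v', h0, ha', hlt, hP'⟩ := B.rpair_smaller hM hp hyR h5
    exact ⟨a', v', h0, ha', by omega, hP'⟩
  · obtain ⟨a', v', h0, ha', hle, hP'⟩ := B.exists_rpair_small hM hp hyR (by omega) (by omega)
    exact ⟨a', v', h0, ha', by omega, hP'⟩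

include hM in
/-- A unit vector with support at least three gives a singular line of support at most four. -/
theorem exists_rpair_four (hp : (Fintype.card F).Prime) (hn : 7 ≤ Fintype.card κ) {u : ι → F}
    (hu : u ∈ B.Rs K o) (h3 : 3 ≤ (B.supp u).card) :
    ∃ a v, v ≠ 0 ∧ B.co v a = 0 ∧ (B.supp v).card ≤ 4 ∧ B.RPair K o v (B.b a) := by
  by_cases h5 : 5 ≤ (B.supp u).card
  · obtain ⟨a, v, h0, ha, -, hP⟩ := B.rpair_smaller hM hp hu h5
    exact B.rpair_shrink hM hp hn _ a v h0 ha rfl hP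
  · obtain ⟨a, v, h0, ha, hle, hP⟩ := B.exists_rpair_small hM hp hu h3 (by omega)
    exact ⟨a, v, h0, ha, by omega, hP⟩

end OFrame

end Cfsg.Lib.Classical.OFr
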