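import Mathlib
import Cfsg.Agent.Classical.Orth.Frame.Shrink
import Cfsg.Agent.Classical.Orth.Frame.Endgame

set_option autoImplicit false
set_option linter.unusedVariables false
set_option linter.unusedSimpArgs false
set_option linter.unusedSectionVars false
set_option linter.style.haveILetI false
set_option linter.flexible false

/-! Odd dimension at least seven: every image of a frame vector is paired with the frame. -/

namespace Cfsg.Lib.Classical.OFr

open Matrix Cfsg.Lib.Classical.Refl

universe u w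

namespace OFrame

variable {F : Type u} [Field F] [Fintype F] [DecidableEq F] {ι : Type} [Fintype ι] [DecidableEq ι]
  {Q : QuadraticForm F (ι → F)} {κ : Type w} [Fintype κ] [DecidableEq κ] (B : OFrame Q κ)
  {K : Subgroup (Cfsg.isometryGroup F (⇑Q))} {o : κ}
  (hM : ∀ g ∈ Cfsg.Omega F (⇑Q), B.Mono g → g ∈ K)

include hM in
theorem neg_set_in : ∀ (k : ℕ) (T : Finset κ), T.card = 2 * k →
    ∃ e ∈ K, ∀ x l, B.co (ap e x) l = if l ∈ T then -B.co x l else B.co x l := by
  intro k
  induction k with
  | zero =>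
    intro T hT
    rw [Finset.card_eq_zero.mp (by omega : T.card = 0)]
    exact ⟨1, K.one_mem, fun x l => by simp [ap_one]⟩
  | succ k ih =>
    intro T hT
    obtain ⟨i, j, hi, hj, hij⟩ := Finset.one_lt_card_iff.mp (by omega : 1 < T.card)
    have hj' : j ∈ T.erase i := Finset.mem_erase.mpr ⟨hij.symm, hj⟩
    obtain ⟨e, he, hco⟩ := ih ((T.erase i).erase j) (by
      rw [Finset.card_erase_of_mem hj', Finset.card_erase_of_mem hi]; omega)
    refine ⟨B.d i j * e, K.mul_mem (B.d_in hM i j) he, fun x l => ?_⟩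
    rw [ap_mul, B.co_d hij, hco]
    by_cases h1 : l = i
    · subst h1; simp [hi]
    by_cases h2 : l = j
    · subst h2; simp [hj]
    simp [h1, h2]

include hM in
/-- In odd dimension the negative of a frame reflection lies in `K`. -/
theorem neg_rr_in (hodd : Odd (Fintype.card κ)) (p : κ) :
    ∃ e ∈ K, ∀ x, ap e x = -ap (rr Q (B.b p)) x := by
  obtain ⟨k, hk⟩ := hodd
  obtain ⟨e, he, hco⟩ := B.neg_set_in hM k (Finset.univ.erase p) (by
    rw [Finset.card_erase_of_mem (Finset.mem_univ p), Finset.card_univ]; omega)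
  refine ⟨e, he, fun x => B.ext_co fun l => ?_⟩
  rw [hco, B.co_neg, B.co_rr_b]
  by_cases h : l = p <;> simp [h]

include hM in
theorem rs_img (hodd : Odd (Fintype.card κ)) {g : Cfsg.isometryGroup F (⇑Q)} (hg : g ∈ K) (p : κ) :
    ap g (B.b p) ∈ B.Rs K o := by
  refine ⟨by rw [B.ip_ap, B.ip_b_self], ?_⟩
  obtain ⟨e, he, hep⟩ := B.neg_rr_in hM hodd p
  obtain ⟨f, hf, hfo⟩ := B.neg_rr_in hM hodd o
  have h : g * e * g⁻¹ * f = rr Q (ap g (B.b p)) * rr Q (B.b o) := ap_ext fun x => by
    rw [← rr_conj]
    simp only [ap_mul]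
    rw [hfo, map_neg, hep, map_neg, map_neg, map_neg, neg_neg]
  rw [← h]
  exact K.mul_mem (K.mul_mem (K.mul_mem hg he) (K.inv_mem hg)) hf

include hM in
theorem pair_step (hn : 5 ≤ Fintype.card κ) {α β : F} {p q q' : κ} (hpq : p ≠ q) (hpq' : p ≠ q')
    (h : α • B.b p + β • B.b q ∈ B.Rs K o) : α • B.b p + β • B.b q' ∈ B.Rs K o := by
  rcases eq_or_ne q q' with rfl | hqq
  · exact h
  obtain ⟨e, f, hef, he, hf⟩ := exists_two_out (S := ({p, q, q'} : Finset κ)) (by
    have := Finset.card_le_three (a := p) (b := q) (c := q'); omega)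
  simp only [Finset.mem_insert, Finset.mem_singleton, not_or] at he hf
  have := B.rs_swap hM h hqq hef
    (by rw [co_two, if_neg (Ne.symm he.1), if_neg (Ne.symm he.2.1), add_zero])
    (by rw [co_two, if_neg (Ne.symm hf.1), if_neg (Ne.symm hf.2.1), add_zero])
  rwa [map_add, map_smul, map_smul, B.sw_b hqq, B.sw_b hqq, if_neg hpq, if_neg hpq', if_pos rfl] at this

include hM in
theorem pair_move (hn : 5 ≤ Fintype.card κ) {α β : F} {p q i j : κ} (hpq : p ≠ q) (hij : i ≠ j)
    (h : α • B.b p + β • B.b q ∈ B.Rs K o) : α • B.b i + β • B.b j ∈ B.Rs K o := by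
  obtain ⟨c, hc⟩ := exists_out ({p, i, j} : Finset κ) (by
    have := Finset.card_le_three (a := p) (b := i) (c := j); omega)
  simp only [Finset.mem_insert, Finset.mem_singleton, not_or] at hc
  have h1 := B.pair_step hM hn hpq (Ne.symm hc.1) h
  rw [add_comm] at h1
  have h2 := B.pair_step hM hn hc.1 hc.2.1 h1
  rw [add_comm] at h2
  exact B.pair_step hM hn (Ne.symm hc.2.1) hij h2

include hM in
/-- An element outside the monomial group gives a unit vector with support at least three. -/
theorem seed_odd (hodd : Odd (Fintype.card κ)) (hn : 7 ≤ Fintype.card κ) {g : Cfsg.isometryGroup F (⇑Q)}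
    (hg : g ∈ K) (hgm : ¬ B.Mono g) : ∃ u ∈ B.Rs K o, 3 ≤ (B.supp u).card := by
  classical
  by_contra hc
  push Not at hc
  have hR : ∀ l, ap g (B.b l) ∈ B.Rs K o := fun l => B.rs_img hM hodd hg l
  obtain ⟨a, ha⟩ : ∃ a, 1 < (B.supp (ap g (B.b a))).card := by
    simp only [Mono, not_forall, not_le] at hgm; exact hgm
  set u := ap g (B.b a) with hu
  have hu2 : (B.supp u).card = 2 := by have := hc u (hR a); omega
  obtain ⟨p, q, hpq, hsu⟩ := Finset.card_eq_two.mp hu2
  set α := B.co u p with hα
  set β := B.co u q with hβ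
  have hα0 : α ≠ 0 := B.mem_supp.mp (by rw [hsu]; simp)
  have hβ0 : β ≠ 0 := B.mem_supp.mp (by rw [hsu]; simp)
  have hueq : u = α • B.b p + β • B.b q := by
    rw [B.eq_sum_supp hsu.subset, Finset.sum_pair hpq]
  have hpR : α • B.b p + β • B.b q ∈ B.Rs K o := hueq ▸ hR a
  by_cases hroot : 2 * (α * α) = 1
  · -- a further column away from the pair
    obtain ⟨j, hja, hjp, hjq⟩ : ∃ j, j ≠ a ∧ B.co (ap g (B.b j)) p = 0 ∧ B.co (ap g (B.b j)) q = 0 := by
      by_contra hall
      push Not at hall
      have hsub : ∀ j, B.supp (ap g (B.b j)) ⊆ ({p, q} : Finset κ) := by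
        intro j
        rcases eq_or_ne j a with rfl | hja
        · exact hsu.subset
        have hz : α * B.co (ap g (B.b j)) p + β * B.co (ap g (B.b j)) q = 0 := by
          have h := B.ip_ap g (B.b a) (B.b j)
          rw [B.ip_b_ne hja.symm, ← hu, hueq, ip_add_left, ip_smul_left, ip_smul_left, ip_b_left, ip_b_left] at h
          exact h
        have hp0 : B.co (ap g (B.b j)) p ≠ 0 := fun h => by
          rw [h, mul_zero, zero_add, mul_eq_zero] at hz
          exact hall j hja h (hz.resolve_left hβ0)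
        have hq0 : B.co (ap g (B.b j)) q ≠ 0 := fun h => by
          rw [h, mul_zero, add_zero, mul_eq_zero] at hz
          exact hp0 (hz.resolve_left hα0)
        refine (Finset.eq_of_subset_of_card_le ?_ ?_).symm.subset
        · simp [Finset.insert_subset_iff, B.mem_supp, hp0, hq0]
        · have := hc _ (hR j)
          rw [Finset.card_pair hpq]
          omega
      have := B.card_le_of_orth (α := κ) (w := fun j => ap g (B.b j))
        (fun j => by rw [B.ip_ap, B.ip_b_self]; exact one_ne_zero)
        (fun i j hij => by rw [B.ip_ap, B.ip_b_ne hij]) (T := {p, q}) hsub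
      rw [Finset.card_pair hpq] at this
      omega
    obtain ⟨r, hr⟩ := B.supp_nonempty (fun h0 : ap g (B.b j) = 0 =>
      B.b_ne_zero j (ap_injective g (h0.trans (map_zero (ap g)).symm)))
    have hr' := B.mem_supp.mp hr
    have hrp : r ≠ p := fun h => hr' (h ▸ hjp)
    have hrq : r ≠ q := fun h => hr' (h ▸ hjq)
    have hy := B.rs_map hg (hR o) (B.pair_move hM (by omega) hpq hja.symm hpR)
    rw [map_add, map_smul, map_smul, ← hu] at hy
    have hsub : ({p, q, r} : Finset κ) ⊆ B.supp (α • u + β • ap g (B.b j)) := by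
      intro l hl
      simp only [Finset.mem_insert, Finset.mem_singleton] at hl
      rw [B.mem_supp, B.co_add, B.co_smul, B.co_smul]
      rcases hl with rfl | rfl | rfl
      · rw [hjp, mul_zero, add_zero, ← hα]; exact mul_ne_zero hα0 hα0
      · rw [hjq, mul_zero, add_zero, ← hβ]; exact mul_ne_zero hα0 hβ0
      · rw [B.co_eq_zero hsu.subset (by simp [hrp, hrq] : l ∉ _), mul_zero, zero_add]; exact mul_ne_zero hβ0 hr'
    have := (Finset.card_le_card hsub).trans_lt (hc _ hy)
    rw [Finset.card_eq_three.mpr ⟨p, q, r, hpq, hrp.symm, hrq.symm, rfl⟩] at this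
    omega
  · obtain ⟨c, hc'⟩ := exists_out ({p, q} : Finset κ) (by
      have := Finset.card_le_two (a := p) (b := q); omega)
    simp only [Finset.mem_insert, Finset.mem_singleton, not_or] at hc'
    have hcp : c ≠ p := hc'.1
    have hcq : c ≠ q := hc'.2
    have hw := B.pair_move hM (by omega) (i := q) (j := c) hpq hcq.symm hpR
    have hy := B.rs_refl hw (hR a)
    have hip : B.ip (α • B.b q + β • B.b c) u = α * β := by
      rw [ip_add_left, ip_smul_left, ip_smul_left, ip_b_left, ip_b_left,
        B.co_eq_zero hsu.subset (i := c) (by simp [hcp, hcq]), mul_zero, add_zero]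
    rw [← hu, B.rr_apply_one (B.rs_unit hw), hip] at hy
    have hsub : ({p, q, c} : Finset κ) ⊆ B.supp (u - (2 * (α * β)) • (α • B.b q + β • B.b c)) := by
      intro l hl
      simp only [Finset.mem_insert, Finset.mem_singleton] at hl
      rw [B.mem_supp, B.co_sub, B.co_smul, co_two]
      rcases hl with rfl | rfl | rfl
      · rw [if_neg hpq.symm, if_neg hcp, add_zero, mul_zero, sub_zero, ← hα]; exact hα0
      · rw [if_pos rfl, if_neg hcq, add_zero, ← hβ]
        intro h
        apply hroot
        have : β * (1 - 2 * (α * α)) = 0 := by linear_combination h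
        linear_combination -((mul_eq_zero.mp this).resolve_left hβ0)
      · rw [if_neg hcq.symm, if_pos rfl, zero_add, B.co_eq_zero hsu.subset (by simp [hcp, hcq] : l ∉ _), zero_sub,
          neg_ne_zero]
        exact mul_ne_zero (mul_ne_zero B.two (mul_ne_zero hα0 hβ0)) hβ0
    have := (Finset.card_le_card hsub).trans_lt (hc _ hy)
    rw [Finset.card_eq_three.mpr ⟨p, q, c, hpq, hcp.symm, hcq.symm, rfl⟩] at this
    omega

include hM in
/-- In odd dimension at least seven an overgroup with an element outside the monomial group is all of `Ω`. -/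
theorem omega_le_odd (hp : (Fintype.card F).Prime) (hodd : Odd (Fintype.card κ)) (hn : 7 ≤ Fintype.card κ)
    {g : Cfsg.isometryGroup F (⇑Q)} (hg : g ∈ K) (hgm : ¬ B.Mono g) : Cfsg.Omega F (⇑Q) ≤ K := by
  obtain ⟨o⟩ : Nonempty κ := Fintype.card_pos_iff.mp (by omega)
  obtain ⟨u, hu, h3⟩ := B.seed_odd (o := o) hM hodd hn hg hgm
  obtain ⟨a, v, hv0, hva, hv4, hP⟩ := B.exists_rpair_four hM hp hn hu h3
  have hκ := B.frame_card
  exact B.omega_le_of_rpair hM hv0 hva (by omega) hn (by omega) hP

end OFrame

end Cfsg.Lib.Classical.OFr
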