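import Mathlib
import Cfsg.Agent.Classical.Orth.Frame.Odd
import Cfsg.Agent.Classical.Orth.Frame.Shrink
import Cfsg.Agent.Classical.Orth.Frame.Endgame

set_option autoImplicit false
set_option linter.unusedVariables false
set_option linter.unusedSimpArgs false
set_option linter.unusedSectionVars false
set_option linter.style.haveILetI false
set_option linter.flexible false

/-! Five dimensions: a unit vector of an overgroup outside the frame gives a singular line over a frame vector. -/

namespace Cfsg.Lib.Classical.OFr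

open Matrix Cfsg.Lib.Classical.Refl

universe u w

namespace OFrame

variable {F : Type u} [Field F] [Fintype F] [DecidableEq F] {ι : Type} [Fintype ι] [DecidableEq ι]
  {Q : QuadraticForm F (ι → F)} {κ : Type w} [Fintype κ] [DecidableEq κ] (B : OFrame Q κ)
  {K : Subgroup (Cfsg.isometryGroup F (⇑Q))} {o : κ}
  (hM : ∀ g ∈ Cfsg.Omega F (⇑Q), B.Mono g → g ∈ K)

include hM in
/-- An element outside the monomial group gives a unit vector with support at least three. -/
theorem seed_five (hodd : Odd (Fintype.card κ)) (hn : 5 ≤ Fintype.card κ) {g : Cfsg.isometryGroup F (⇑Q)}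
    (hg : g ∈ K) (hgm : ¬ B.Mono g) : ∃ u ∈ B.Rs K o, 3 ≤ (B.supp u).card := by
  classical
  by_contra hc
  push Not at hc
  have hR : ∀ l, ap g (B.b l) ∈ B.Rs K o := fun l => B.rs_img hM hodd hg l
  obtain ⟨a, ha⟩ : ∃ a, 1 < (B.supp (ap g (B.b a))).card := by
    simp only [Mono, not_forall, not_le] at hgm; exact hgm
  set u := ap g (B.b a) with hu
  have hu2 : (B.supp u).card = 2 := by have := hc u (hR a); omega
  obtain ⟨p, q, hpq, hsu⟩ := Finset.card_eq_two.mp hu2
  set α := B.co u p with hα
  set β := B.co u q with hβ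
  have hα0 : α ≠ 0 := B.mem_supp.mp (by rw [hsu]; simp)
  have hβ0 : β ≠ 0 := B.mem_supp.mp (by rw [hsu]; simp)
  have hueq : u = α • B.b p + β • B.b q := by
    rw [B.eq_sum_supp hsu.subset, Finset.sum_pair hpq]
  have hpR : α • B.b p + β • B.b q ∈ B.Rs K o := hueq ▸ hR a
  by_cases hroot : 2 * (α * α) = 1
  · -- a further column away from the pair
    obtain ⟨j, hja, hjp, hjq⟩ : ∃ j, j ≠ a ∧ B.co (ap g (B.b j)) p = 0 ∧ B.co (ap g (B.b j)) q = 0 := by
      by_contra hall
      push Not at hall
      have hsub : ∀ j, B.supp (ap g (B.b j)) ⊆ ({p, q} : Finset κ) := by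
        intro j
        rcases eq_or_ne j a with rfl | hja
        · exact hsu.subset
        have hz : α * B.co (ap g (B.b j)) p + β * B.co (ap g (B.b j)) q = 0 := by
          have h := B.ip_ap g (B.b a) (B.b j)
          rw [B.ip_b_ne hja.symm, ← hu, hueq, ip_add_left, ip_smul_left, ip_smul_left, ip_b_left, ip_b_left] at h
          exact h
        have hp0 : B.co (ap g (B.b j)) p ≠ 0 := fun h => by
          rw [h, mul_zero, zero_add, mul_eq_zero] at hz
          exact hall j hja h (hz.resolve_left hβ0)
        have hq0 : B.co (ap g (B.b j)) q ≠ 0 := fun h => by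
          rw [h, mul_zero, add_zero, mul_eq_zero] at hz
          exact hp0 (hz.resolve_left hα0)
        refine (Finset.eq_of_subset_of_card_le ?_ ?_).symm.subset
        · simp [Finset.insert_subset_iff, B.mem_supp, hp0, hq0]
        · have := hc _ (hR j)
          rw [Finset.card_pair hpq]
          omega
      have := B.card_le_of_orth (α := κ) (w := fun j => ap g (B.b j))
        (fun j => by rw [B.ip_ap, B.ip_b_self]; exact one_ne_zero)
        (fun i j hij => by rw [B.ip_ap, B.ip_b_ne hij]) (T := {p, q}) hsub
      rw [Finset.card_pair hpq] at this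
      omega
    obtain ⟨r, hr⟩ := B.supp_nonempty (fun h0 : ap g (B.b j) = 0 =>
      B.b_ne_zero j (ap_injective g (h0.trans (map_zero (ap g)).symm)))
    have hr' := B.mem_supp.mp hr
    have hrp : r ≠ p := fun h => hr' (h ▸ hjp)
    have hrq : r ≠ q := fun h => hr' (h ▸ hjq)
    have hy := B.rs_map hg (hR o) (B.pair_move hM (by omega) hpq hja.symm hpR)
    rw [map_add, map_smul, map_smul, ← hu] at hy
    have hsub : ({p, q, r} : Finset κ) ⊆ B.supp (α • u + β • ap g (B.b j)) := by
      intro l hl
      simp only [Finset.mem_insert, Finset.mem_singleton] at hl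
      rw [B.mem_supp, B.co_add, B.co_smul, B.co_smul]
      rcases hl with rfl | rfl | rfl
      · rw [hjp, mul_zero, add_zero, ← hα]; exact mul_ne_zero hα0 hα0
      · rw [hjq, mul_zero, add_zero, ← hβ]; exact mul_ne_zero hα0 hβ0
      · rw [B.co_eq_zero hsu.subset (by simp [hrp, hrq] : l ∉ _), mul_zero, zero_add]; exact mul_ne_zero hβ0 hr'
    have := (Finset.card_le_card hsub).trans_lt (hc _ hy)
    rw [Finset.card_eq_three.mpr ⟨p, q, r, hpq, hrp.symm, hrq.symm, rfl⟩] at this
    omega
  · obtain ⟨c, hc'⟩ := exists_out ({p, q} : Finset κ) (by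
      have := Finset.card_le_two (a := p) (b := q); omega)
    simp only [Finset.mem_insert, Finset.mem_singleton, not_or] at hc'
    have hcp : c ≠ p := hc'.1
    have hcq : c ≠ q := hc'.2
    have hw := B.pair_move hM (by omega) (i := q) (j := c) hpq hcq.symm hpR
    have hy := B.rs_refl hw (hR a)
    have hip : B.ip (α • B.b q + β • B.b c) u = α * β := by
      rw [ip_add_left, ip_smul_left, ip_smul_left, ip_b_left, ip_b_left,
        B.co_eq_zero hsu.subset (i := c) (by simp [hcp, hcq]), mul_zero, add_zero]
    rw [← hu, B.rr_apply_one (B.rs_unit hw), hip] at hy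
    have hsub : ({p, q, c} : Finset κ) ⊆ B.supp (u - (2 * (α * β)) • (α • B.b q + β • B.b c)) := by
      intro l hl
      simp only [Finset.mem_insert, Finset.mem_singleton] at hl
      rw [B.mem_supp, B.co_sub, B.co_smul, co_two]
      rcases hl with rfl | rfl | rfl
      · rw [if_neg hpq.symm, if_neg hcp, add_zero, mul_zero, sub_zero, ← hα]; exact hα0
      · rw [if_pos rfl, if_neg hcq, add_zero, ← hβ]
        intro h
        apply hroot
        have : β * (1 - 2 * (α * α)) = 0 := by linear_combination h
        linear_combination -((mul_eq_zero.mp this).resolve_left hβ0)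
      · rw [if_neg hcq.symm, if_pos rfl, zero_add, B.co_eq_zero hsu.subset (by simp [hcp, hcq] : l ∉ _), zero_sub,
          neg_ne_zero]
        exact mul_ne_zero (mul_ne_zero B.two (mul_ne_zero hα0 hβ0)) hβ0
    have := (Finset.card_le_card hsub).trans_lt (hc _ hy)
    rw [Finset.card_eq_three.mpr ⟨p, q, c, hpq, hcp.symm, hcq.symm, rfl⟩] at this
    omega

include hM in
/-- A double transposition keeps `Rs`. -/
theorem rs_sw2 {x : ι → F} (hx : x ∈ B.Rs K o) {p q e f : κ} (hpq : p ≠ q) (hef : e ≠ f) :
    ap (B.sw p q) (ap (B.sw e f) x) ∈ B.Rs K o := by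
  rw [← ap_mul]
  exact B.rs_mono hM (B.sw_pair_in hM hpq hef)
    (B.mono_mul (B.mono_root hpq (one_mul 1)) (B.mono_root hef (one_mul 1))) hx

theorem co_sw {p q : κ} (hpq : p ≠ q) (x : ι → F) (l : κ) :
    B.co (ap (B.sw p q) x) l = B.co x (Equiv.swap p q l) := by
  have hinv : ∀ i, ap (B.sw p q) (B.b i) = B.b (Equiv.swap p q i) := fun i => by
    rw [B.sw_b hpq, Equiv.swap_apply_def]
    split_ifs <;> rfl
  rw [← B.ip_b_left, ← B.ip_b_left x,
    show B.b l = ap (B.sw p q) (B.b (Equiv.swap p q l)) by rw [hinv, Equiv.swap_apply_self], B.ip_ap]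

include hM in
/-- A unit vector with support at least three gives one with support five or a singular line. -/
theorem five_or_rpair (hp : (Fintype.card F).Prime) (h3 : (3 : F) ≠ 0) (hn : Fintype.card κ = 5) {u : ι → F}
    (hu : u ∈ B.Rs K o) (hs : 3 ≤ (B.supp u).card) :
    (∃ y ∈ B.Rs K o, 5 ≤ (B.supp y).card) ∨
      ∃ a v, v ≠ 0 ∧ B.co v a = 0 ∧ B.RPair K o v (B.b a) := by
  classical
  set q : κ → F := fun l => B.co u l * B.co u l with hq
  have hsum : ∑ l ∈ B.supp u, q l = 1 := by
    rw [hq, ← B.ip_supp (Finset.Subset.refl _)]; exact B.rs_unit hu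
  have five : ∀ y, y ∈ B.Rs K o → (∀ l, B.co y l ≠ 0) → ∃ y ∈ B.Rs K o, 5 ≤ (B.supp y).card := fun y hy h =>
    ⟨y, hy, by rw [show B.supp y = Finset.univ from Finset.eq_univ_iff_forall.mpr fun l => B.mem_supp.mpr (h l),
      Finset.card_univ, hn]⟩
  have hle : (B.supp u).card ≤ 5 := hn ▸ Finset.card_le_univ _
  obtain h | h | h : (B.supp u).card = 3 ∨ (B.supp u).card = 4 ∨ (B.supp u).card = 5 := by omega
  · left
    obtain ⟨l, hl, hl2⟩ : ∃ l ∈ B.supp u, 2 * q l ≠ 1 := by
      by_contra hc
      push Not at hc
      have := congrArg ((2 : F) * ·) hsum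
      simp only [Finset.mul_sum, Finset.sum_congr rfl hc, Finset.sum_const, h, nsmul_eq_mul, mul_one,
        Nat.cast_ofNat] at this
      exact one_ne_zero (show (1 : F) = 0 by linear_combination this)
    obtain ⟨i, j, hij, hsu⟩ := Finset.card_eq_two.mp
      (show ((B.supp u).erase l).card = 2 by rw [Finset.card_erase_of_mem hl, h])
    obtain ⟨d, e, hde, hce⟩ := Finset.card_eq_two.mp
      (show (B.supp u)ᶜ.card = 2 by rw [Finset.card_compl, h, hn])
    obtain ⟨hil, hi⟩ := Finset.mem_erase.mp (show i ∈ (B.supp u).erase l by rw [hsu]; simp)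
    obtain ⟨hjl, hj⟩ := Finset.mem_erase.mp (show j ∈ (B.supp u).erase l by rw [hsu]; simp)
    have hd : d ∉ B.supp u := Finset.mem_compl.mp (by rw [hce]; simp)
    have he : e ∉ B.supp u := Finset.mem_compl.mp (by rw [hce]; simp)
    have hid : i ≠ d := fun h => hd (h ▸ hi)
    have hie : i ≠ e := fun h => he (h ▸ hi)
    have hjd : j ≠ d := fun h => hd (h ▸ hj)
    have hje : j ≠ e := fun h => he (h ▸ hj)
    have hld : l ≠ d := fun h => hd (h ▸ hl)
    have hle' : l ≠ e := fun h => he (h ▸ hl)
    have hcov : ∀ m, m = i ∨ m = j ∨ m = l ∨ m = d ∨ m = e := fun m => by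
      by_cases hm : m ∈ B.supp u
      · by_cases hml : m = l
        · exact Or.inr (Or.inr (Or.inl hml))
        · have := Finset.mem_erase.mpr ⟨hml, hm⟩
          rw [hsu] at this
          simp only [Finset.mem_insert, Finset.mem_singleton] at this
          tauto
      · have := Finset.mem_compl.mpr hm
        rw [hce] at this
        simp only [Finset.mem_insert, Finset.mem_singleton] at this
        tauto
    set w := ap (B.sw i d) (ap (B.sw j e) u) with hw
    have hwR : w ∈ B.Rs K o := B.rs_sw2 hM hu hid hje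
    have hco : ∀ m, B.co w m = B.co u (Equiv.swap j e (Equiv.swap i d m)) := fun m => by
      rw [hw, B.co_sw hid, B.co_sw hje]
    have wi : B.co w i = 0 := by
      rw [hco, Equiv.swap_apply_left, Equiv.swap_apply_of_ne_of_ne hjd.symm hde]; exact B.notMem_supp.mp hd
    have wj : B.co w j = 0 := by
      rw [hco, Equiv.swap_apply_of_ne_of_ne hij.symm hjd, Equiv.swap_apply_left]; exact B.notMem_supp.mp he
    have wl : B.co w l = B.co u l := by
      rw [hco, Equiv.swap_apply_of_ne_of_ne hil.symm hld, Equiv.swap_apply_of_ne_of_ne hjl.symm hle']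
    have wd : B.co w d = B.co u i := by
      rw [hco, Equiv.swap_apply_right, Equiv.swap_apply_of_ne_of_ne hij hie]
    have we : B.co w e = B.co u j := by
      rw [hco, Equiv.swap_apply_of_ne_of_ne hie.symm hde.symm, Equiv.swap_apply_right]
    have hip : B.ip u w = q l := by
      rw [B.ip_supp (T := {i, j, l}) (fun m hm => by
          rcases hcov m with rfl | rfl | rfl | rfl | rfl <;> first | (simp; done) | exact absurd hm hd | exact absurd hm he),
        Finset.sum_insert (by simp [hij, hil]), Finset.sum_pair hjl, wi, wj, wl, hq]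
      ring
    refine five _ (B.rs_refl hu hwR) fun m => ?_
    rw [B.rr_apply_one (B.rs_unit hu), hip, B.co_sub, B.co_smul]
    have hl0 : q l ≠ 0 := mul_ne_zero (B.mem_supp.mp hl) (B.mem_supp.mp hl)
    rcases hcov m with rfl | rfl | rfl | rfl | rfl
    · rw [wi, zero_sub, neg_ne_zero]; exact mul_ne_zero (mul_ne_zero B.two hl0) (B.mem_supp.mp hi)
    · rw [wj, zero_sub, neg_ne_zero]; exact mul_ne_zero (mul_ne_zero B.two hl0) (B.mem_supp.mp hj)
    · rw [wl, show B.co u m - 2 * q m * B.co u m = (1 - 2 * q m) * B.co u m by ring]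
      exact mul_ne_zero (sub_ne_zero.mpr (Ne.symm hl2)) (B.mem_supp.mp hl)
    · rw [wd, B.notMem_supp.mp hd, mul_zero, sub_zero]; exact B.mem_supp.mp hi
    · rw [we, B.notMem_supp.mp he, mul_zero, sub_zero]; exact B.mem_supp.mp hj
  · by_cases hl : ∃ l ∈ B.supp u, 2 * q l ≠ 1 ∧ 2 * q l ≠ -1
    · left
      obtain ⟨l, hl, hl1, hl2⟩ := hl
      obtain ⟨i, j, k, hij, hik, hjk, hsu⟩ := Finset.card_eq_three.mp
        (show ((B.supp u).erase l).card = 3 by rw [Finset.card_erase_of_mem hl, h])
      obtain ⟨d, hce⟩ := Finset.card_eq_one.mp (show (B.supp u)ᶜ.card = 1 by rw [Finset.card_compl, h, hn])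
      obtain ⟨hil, hi⟩ := Finset.mem_erase.mp (show i ∈ (B.supp u).erase l by rw [hsu]; simp)
      obtain ⟨hjl, hj⟩ := Finset.mem_erase.mp (show j ∈ (B.supp u).erase l by rw [hsu]; simp)
      obtain ⟨hkl, hk⟩ := Finset.mem_erase.mp (show k ∈ (B.supp u).erase l by rw [hsu]; simp)
      have hd : d ∉ B.supp u := Finset.mem_compl.mp (by rw [hce]; simp)
      have hid : i ≠ d := fun h => hd (h ▸ hi)
      have hjd : j ≠ d := fun h => hd (h ▸ hj)
      have hkd : k ≠ d := fun h => hd (h ▸ hk)
      have hld : l ≠ d := fun h => hd (h ▸ hl)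
      have hcov : ∀ m, m = i ∨ m = j ∨ m = k ∨ m = l ∨ m = d := fun m => by
        by_cases hm : m ∈ B.supp u
        · by_cases hml : m = l
          · exact Or.inr (Or.inr (Or.inr (Or.inl hml)))
          · have := Finset.mem_erase.mpr ⟨hml, hm⟩
            rw [hsu] at this
            simp only [Finset.mem_insert, Finset.mem_singleton] at this
            tauto
        · have := Finset.mem_compl.mpr hm
          rw [hce] at this
          simp only [Finset.mem_singleton] at this
          tauto
      -- one of the two signs avoids both zeros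
      obtain ⟨ε, hε, e1, e2⟩ : ∃ ε : F, ε * ε = 1 ∧ ε * B.co u k - 2 * q l * B.co u j ≠ 0 ∧
          -(ε * B.co u j) - 2 * q l * B.co u k ≠ 0 := by
        by_contra hc
        push Not at hc
        have c1 := hc 1 (one_mul 1)
        have c2 := hc (-1) (by ring)
        have hj0 := B.mem_supp.mp hj
        have hk0 := B.mem_supp.mp hk
        have key : ∀ σ : F, B.co u k = σ * (2 * q l) * B.co u j → B.co u j = σ * (2 * q l) * B.co u k →
            σ * σ = 1 → False := fun σ a b hσ => by
          have : ((2 * q l) * (2 * q l) - 1) * B.co u k = 0 := by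
            linear_combination (-(2 * q l) * (2 * q l) * B.co u k) * hσ - σ * (2 * q l) * b - a
          rcases mul_eq_zero.mp (show (2 * q l - 1) * (2 * q l + 1) = 0 by
            linear_combination (mul_eq_zero.mp this).resolve_right hk0) with h | h
          · exact hl1 (sub_eq_zero.mp h)
          · exact hl2 (eq_neg_of_add_eq_zero_left h)
        by_cases a1 : B.co u k - 2 * q l * B.co u j = 0
        · by_cases a2 : -B.co u k - 2 * q l * B.co u j = 0
          · exact hk0 ((mul_eq_zero.mp (show (2 : F) * B.co u k = 0 by linear_combination a1 - a2)).resolve_left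
              B.two)
          · have b2 := c2 (by simpa using a2)
            exact key 1 (by linear_combination a1) (by linear_combination b2) (one_mul 1)
        · have b1 := c1 (by simpa using a1)
          by_cases a2 : -B.co u k - 2 * q l * B.co u j = 0
          · exact key (-1) (by linear_combination -a2) (by linear_combination -b1) (by ring)
          · have b2 := c2 (by simpa using a2)
            exact hj0 ((mul_eq_zero.mp (show (2 : F) * B.co u j = 0 by linear_combination b2 - b1)).resolve_left
              B.two)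
      set S : Finset κ := if ε = 1 then {k} else {j} with hS
      obtain ⟨x, hx, hxco⟩ := B.flip_set hM (B.rs_sw2 hM hu hid hjk) S
      have hco : ∀ m, B.co (ap (B.sw i d) (ap (B.sw j k) u)) m =
          B.co u (Equiv.swap j k (Equiv.swap i d m)) := fun m => by
        rw [B.co_sw hid, B.co_sw hjk]
      have hS' : ∀ m, m ≠ j → m ≠ k → m ∉ S := fun m h1 h2 => by rw [hS]; split_ifs <;> simp [h1, h2]
      have wi : B.co x i = 0 := by
        rw [hxco, if_neg (hS' i hij hik), hco, Equiv.swap_apply_left,
          Equiv.swap_apply_of_ne_of_ne hjd.symm hkd.symm]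
        exact B.notMem_supp.mp hd
      have wl : B.co x l = B.co u l := by
        rw [hxco, if_neg (hS' l hjl.symm hkl.symm), hco, Equiv.swap_apply_of_ne_of_ne hil.symm hld,
          Equiv.swap_apply_of_ne_of_ne hjl.symm hkl.symm]
      have wd : B.co x d = B.co u i := by
        rw [hxco, if_neg (hS' d hjd.symm hkd.symm), hco, Equiv.swap_apply_right,
          Equiv.swap_apply_of_ne_of_ne hij hik]
      have hε' : ε = 1 ∨ ε = -1 := mul_self_eq_one_iff.mp hε
      have h11 : (-1 : F) ≠ 1 := fun h => B.two (by linear_combination -h)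
      have wj : B.co x j = ε * B.co u k := by
        rw [hxco, hco, Equiv.swap_apply_of_ne_of_ne hij.symm hjd, Equiv.swap_apply_left, hS]
        rcases hε' with rfl | rfl <;> simp [hjk, h11]
      have wk : B.co x k = -(ε * B.co u j) := by
        rw [hxco, hco, Equiv.swap_apply_of_ne_of_ne hik.symm hkd, Equiv.swap_apply_right, hS]
        rcases hε' with rfl | rfl <;> simp [hjk.symm, h11]
      have hip : B.ip u x = q l := by
        rw [B.ip_supp (T := {i, j, k, l}) (fun m hm => by
            rcases hcov m with rfl | rfl | rfl | rfl | rfl <;> first | (simp; done) | exact absurd hm hd),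
          Finset.sum_insert (by simp [hij, hik, hil]), Finset.sum_insert (by simp [hjk, hjl]), Finset.sum_pair hkl,
          wi, wj, wk, wl, hq]
        ring
      refine five _ (B.rs_refl hu hx) fun m => ?_
      rw [B.rr_apply_one (B.rs_unit hu), hip, B.co_sub, B.co_smul]
      have hl0 : q l ≠ 0 := mul_ne_zero (B.mem_supp.mp hl) (B.mem_supp.mp hl)
      rcases hcov m with rfl | rfl | rfl | rfl | rfl
      · rw [wi, zero_sub, neg_ne_zero]; exact mul_ne_zero (mul_ne_zero B.two hl0) (B.mem_supp.mp hi)
      · rw [wj]; exact e1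
      · rw [wk]; exact e2
      · rw [wl, show B.co u m - 2 * q m * B.co u m = (1 - 2 * q m) * B.co u m by ring]
        exact mul_ne_zero (sub_ne_zero.mpr (Ne.symm hl1)) (B.mem_supp.mp hl)
      · rw [wd, B.notMem_supp.mp hd, mul_zero, sub_zero]; exact B.mem_supp.mp hi
    · right
      push Not at hl
      set N := (B.supp u).filter fun m => 2 * q m = 1 with hN
      have hN2 : 2 ≤ N.card := by
        by_contra hlt
        have hsplit := Finset.sum_filter_add_sum_filter_not (B.supp u) (fun m => 2 * q m = 1) (fun m => 2 * q m)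
        rw [Finset.sum_congr rfl (fun m hm => (Finset.mem_filter.mp hm).2),
          Finset.sum_congr rfl (fun m hm => hl m (Finset.mem_filter.mp hm).1 (Finset.mem_filter.mp hm).2),
          ← Finset.mul_sum, hsum, Finset.sum_const, Finset.sum_const, nsmul_eq_mul, nsmul_eq_mul] at hsplit
        have hc := Finset.card_filter_add_card_filter_not (s := B.supp u) (p := fun m => 2 * q m = 1)
        rw [← hN] at hsplit hc
        obtain h0 | h0 : N.card = 0 ∨ N.card = 1 := by omega
        · rw [h0, show ((B.supp u).filter fun m => ¬2 * q m = 1).card = 4 by omega] at hsplit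
          push_cast at hsplit
          exact mul_ne_zero B.two h3 (by linear_combination -hsplit)
        · rw [h0, show ((B.supp u).filter fun m => ¬2 * q m = 1).card = 3 by omega] at hsplit
          push_cast at hsplit
          exact mul_ne_zero B.two B.two (by linear_combination -hsplit)
      obtain ⟨S, hSN, hS2⟩ := Finset.exists_subset_card_eq hN2
      obtain ⟨a, ha⟩ := Finset.card_pos.mp (by omega : 0 < S.card)
      have hSs : S ⊆ B.supp u := hSN.trans (Finset.filter_subset _ _)
      obtain ⟨c, hc, hcS⟩ := Finset.exists_mem_notMem_of_card_lt_card (s := S) (t := B.supp u) (by omega)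
      obtain ⟨v, h0, hva, -, hP⟩ := B.rpair_of_subset hM hp hu (S := S) (by
          refine mul_left_cancel₀ B.two ?_
          rw [Finset.mul_sum, Finset.sum_congr rfl fun m hm => (Finset.mem_filter.mp (hSN hm)).2, Finset.sum_const,
            hS2, mul_one]
          simp) ha (B.mem_supp.mp (hSs ha)) hcS (B.mem_supp.mp hc)
      exact ⟨a, v, h0, hva, hP⟩
  · exact Or.inl ⟨u, hu, by omega⟩

include hM in
/-- In dimension five an element outside the monomial group gives a singular line over a frame vector. -/
theorem rpair_five (hp : (Fintype.card F).Prime) (h3 : (3 : F) ≠ 0) (hn : Fintype.card κ = 5)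
    {g : Cfsg.isometryGroup F (⇑Q)} (hg : g ∈ K) (hgm : ¬ B.Mono g) :
    ∃ a v, v ≠ 0 ∧ B.co v a = 0 ∧ B.RPair K o v (B.b a) := by
  obtain ⟨u, hu, hs⟩ := B.seed_five (o := o) hM (by rw [hn]; decide) (by omega) hg hgm
  rcases B.five_or_rpair hM hp h3 hn hu hs with ⟨y, hy, h5⟩ | h
  · obtain ⟨a, v, h0, hva, -, hP⟩ := B.rpair_smaller hM hp hy h5
    exact ⟨a, v, h0, hva, hP⟩
  · exact h

end OFrame

end Cfsg.Lib.Classical.OFr
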