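import Mathlib
import Cfsg.Prelude.Def_GeometricClasses
import Cfsg.Agent.Classical.Orth.Frame.Endgame
import Cfsg.Agent.Classical.Orth.Frame.Odd
import Cfsg.Agent.Classical.Orth.DecompMax

set_option autoImplicit false
set_option linter.unusedVariables false
set_option linter.unusedSimpArgs false
set_option linter.unusedSectionVars false
set_option linter.style.haveILetI false
set_option linter.flexible false

/-! The stabiliser of an orthogonal frame is maximal in `Ω` over a prime field, in dimension at least 10, and in odd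
dimension at least 7. -/

namespace Cfsg.Lib.Classical.OFr

open Matrix Cfsg.Lib.Classical.Refl

universe u

variable {F : Type u} [Field F] [Fintype F] [DecidableEq F] {ι : Type} [Fintype ι] [DecidableEq ι]

theorem exists_frame {Q : QuadraticForm F (ι → F)} (h2 : (2 : F) ≠ 0) {t : ℕ} {D : Fin t → Submodule F (ι → F)}
    (hD : Cfsg.Geo.IsOrthogonalMDecomposition (⇑Q) 1 D) :
    ∃ B : OFrame Q (Fin t), ∀ i, D i = Submodule.span F {B.b i} := by
  classical
  have ht := hD.decomp.decomp.two_le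
  set i₀ : Fin t := ⟨0, by omega⟩
  have hne : D i₀ ≠ ⊥ := fun h => by
    have := hD.decomp.decomp.finrank_eq i₀
    rw [h, finrank_bot] at this
    omega
  obtain ⟨w, hw, hw0⟩ := Submodule.exists_mem_ne_zero_of_ne_bot hne
  have key : ∀ i, ∀ v ∈ D i, v ≠ 0 → D i = Submodule.span F {v} := fun i v hv hv0 =>
    (Submodule.eq_of_le_of_finrank_le ((Submodule.span_singleton_le_iff_mem v _).mpr hv)
      (by rw [finrank_span_singleton hv0, hD.decomp.decomp.finrank_eq])).symm
  have hQw : Q w ≠ 0 := fun h => by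
    obtain ⟨-, y, hy, hwy⟩ := hD.decomp.nondegenerate i₀ w hw hw0
    rw [key i₀ w hw hw0, Submodule.mem_span_singleton] at hy
    obtain ⟨s, rfl⟩ := hy
    rw [QuadraticMap.polar_smul_right, QuadraticMap.polar_self, h, smul_zero, smul_zero] at hwy
    exact hwy rfl
  have hex : ∀ i, ∃ v ∈ D i, v ≠ 0 ∧ Q v = Q w := fun i => by
    obtain ⟨e, he⟩ := hD.isometric i₀ i
    have h := he ⟨w, hw⟩
    exact ⟨_, (e ⟨w, hw⟩).2, fun h0 => hQw (by rw [h0, QuadraticMap.map_zero] at h; exact h.symm), h⟩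
  choose b hbD hb0 hbQ using hex
  have horth : ∀ i j, QuadraticMap.polar (⇑Q) (b i) (b j) = if i = j then 2 * Q w else 0 := fun i j => by
    split_ifs with h
    · subst h; rw [QuadraticMap.polar_self, hbQ, nsmul_eq_mul, Nat.cast_ofNat]
    · exact hD.decomp.orthogonal i j h _ (hbD i) _ (hbD j)
  have hli : LinearIndependent F b := Fintype.linearIndependent_iff.mpr fun g hg j => by
    have h : QuadraticMap.polarBilin Q (∑ i, g i • b i) (b j) = 0 := by rw [hg]; simp
    simp only [map_sum, map_smul, LinearMap.sum_apply, LinearMap.smul_apply, QuadraticMap.polarBilin_apply_apply,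
      horth, smul_eq_mul, mul_ite, mul_zero, Finset.sum_ite_eq', Finset.mem_univ, if_true] at h
    exact (mul_eq_zero.mp h).resolve_right (mul_ne_zero h2 hQw)
  have hsp : ⊤ ≤ Submodule.span F (Set.range b) := by
    rw [← hD.decomp.decomp.iSup_eq_top]
    refine iSup_le fun i => ?_
    rw [key i _ (hbD i) (hb0 i)]
    exact Submodule.span_mono (by simp)
  refine ⟨⟨Module.Basis.mk hli hsp, Q w, h2, hQw, fun i j => ?_⟩, fun i => ?_⟩
  · rw [Module.Basis.mk_apply, Module.Basis.mk_apply]; exact horth i j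
  · simp only [Module.Basis.mk_apply]; exact key i _ (hbD i) (hb0 i)

theorem frame_maximal_of {Q : QuadraticForm F (ι → F)} (h2 : (2 : F) ≠ 0)
    (hn : 7 ≤ Fintype.card ι) {t : ℕ} {D : Fin t → Submodule F (ι → F)}
    (hD : Cfsg.Geo.IsOrthogonalMDecomposition (⇑Q) 1 D)
    (hle : ∀ (B : OFrame Q (Fin t)) (K : Subgroup (Cfsg.isometryGroup F (⇑Q))),
      (∀ g ∈ Cfsg.Omega F (⇑Q), B.Mono g → g ∈ K) → K ≤ Cfsg.Omega F (⇑Q) → ∀ g ∈ K, ¬ B.Mono g →
        Cfsg.Omega F (⇑Q) ≤ K) :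
    Cfsg.Geo.IsMaximalIn (Cfsg.Geo.omegaGL (⇑Q)) (Cfsg.Geo.decompositionStabilizer D ⊓ Cfsg.Geo.omegaGL (⇑Q)) := by
  classical
  obtain ⟨B, hB⟩ := exists_frame h2 hD
  have ht : 7 ≤ Fintype.card (Fin t) := by
    rwa [← Module.finrank_eq_card_basis B.b, Module.finrank_fintype_fun_eq_card]
  have hiff : ∀ g : Cfsg.isometryGroup F (⇑Q),
      (g : GL ι F) ∈ Cfsg.Geo.decompositionStabilizer D ↔ B.Mono g := by
    intro g
    constructor
    · rintro ⟨σ, hσ⟩ i
      have h : ap g (B.b i) ∈ D (σ i) := by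
        rw [← hσ i]; exact Submodule.mem_map_of_mem (by rw [hB]; exact Submodule.mem_span_singleton_self _)
      rw [hB, Submodule.mem_span_singleton] at h
      obtain ⟨s, hs⟩ := h
      rw [← hs]
      exact le_trans (Finset.card_le_card (B.supp_smul_subset _ _)) (by rw [B.supp_b, Finset.card_singleton])
    · intro h
      obtain ⟨π, l, hl⟩ := B.mono_iff.mp h
      refine ⟨π, fun i => ?_⟩
      rw [hB, hB, Submodule.map_span, Set.image_singleton,
        show Matrix.toLin' ((g : GL ι F) : Matrix ι ι F) (B.b i) = l i • B.b (π i) from (hl i).1]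
      exact Submodule.span_singleton_smul_eq (hl i).2.isUnit _
  refine ⟨lt_of_le_of_ne inf_le_right fun heq => ?_, fun M hHM hMO => ?_⟩
  · obtain ⟨x, y, hxy⟩ := binary_universal h2 (one_ne_zero (α := F)) (one_ne_zero (α := F)) (-1)
    obtain ⟨p, q, r, s, hpq, hpr, hps, hqr, hqs, hrs⟩ : ∃ p q r s : Fin t, p ≠ q ∧ p ≠ r ∧ p ≠ s ∧ q ≠ r ∧ q ≠ s ∧
        r ≠ s := by
      rw [Fintype.card_fin] at ht
      exact ⟨⟨0, by omega⟩, ⟨1, by omega⟩, ⟨2, by omega⟩, ⟨3, by omega⟩, by simp, by simp, by simp, by simp,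
        by simp, by simp⟩
    set v := x • B.b p + y • B.b q + B.b r with hv
    have hQv : Q v = 0 := by
      rw [B.q_ip, hv]
      simp only [OFrame.ip_add_left, OFrame.ip_add_right, OFrame.ip_smul_left, OFrame.ip_smul_right, OFrame.ip_bb,
        hpq, hpr, hqr, hpq.symm, hpr.symm, hqr.symm, if_false, if_true, ↓reduceIte]
      linear_combination B.c * hxy
    have hvs : B.co v s = 0 := by
      simp [hv, OFrame.co_add, OFrame.co_smul, OFrame.co_b, hps, hqs, hrs]
    have hvz : QuadraticMap.polar (⇑Q) v (B.b s) = 0 := by rw [B.polar_ip, B.ip_b_right, hvs, mul_zero]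
    have hS : (siegelG Q hQv hvz : GL ι F) ∈ Cfsg.Geo.decompositionStabilizer D ⊓ Cfsg.Geo.omegaGL (⇑Q) :=
      heq.symm ▸ (mem_omegaGL Q _).mpr ⟨_, siegelG_mem_omega Q B.nondeg (by omega) hQv hvz, rfl⟩
    have hm := (hiff _).mp hS.1 s
    rw [B.ap_siegelG, B.ip_b_right, hvs, B.ip_b_self] at hm
    have h2s : ({r, s} : Finset (Fin t)) ⊆ B.supp (B.b s + (2 * B.c * 0) • B.b s +
        (-(2 * B.c * 1) - B.c * 1 * (2 * B.c * 0)) • v) := by
      intro l hl
      simp only [Finset.mem_insert, Finset.mem_singleton] at hl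
      rw [B.mem_supp]
      simp only [OFrame.co_add, OFrame.co_smul, OFrame.co_b]
      rcases hl with rfl | rfl
      · simp [hv, OFrame.co_add, OFrame.co_smul, OFrame.co_b, hrs.symm, hpr, hqr, h2, B.hc]
      · simp [hvs]
    have := (Finset.card_le_card h2s).trans hm
    rw [Finset.card_pair hrs] at this
    omega
  · by_cases hM : M ≤ Cfsg.Geo.decompositionStabilizer D
    · exact Or.inl (le_antisymm (le_inf hM hMO) hHM)
    right
    obtain ⟨g, hgM, hgW⟩ := SetLike.not_le_iff_exists.mp hM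
    obtain ⟨g₀, hg₀, rfl⟩ := (mem_omegaGL Q g).mp (hMO hgM)
    have h := hle B (M.comap (Cfsg.isometryGroup F (⇑Q)).subtype ⊓ Cfsg.Omega F (⇑Q))
      (fun x hx hxW => Subgroup.mem_inf.mpr ⟨hHM ⟨(hiff x).mpr hxW, (mem_omegaGL Q _).mpr ⟨x, hx, rfl⟩⟩, hx⟩)
      inf_le_right g₀ (Subgroup.mem_inf.mpr ⟨hgM, hg₀⟩) (fun hb => hgW ((hiff g₀).mpr hb))
    refine le_antisymm hMO fun x hx => ?_
    obtain ⟨y, hy, rfl⟩ := (mem_omegaGL Q x).mp hx
    exact (h hy).1

theorem frame_maximal {Q : QuadraticForm F (ι → F)} (h2 : (2 : F) ≠ 0) (hp : (Fintype.card F).Prime)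
    (hn : 10 ≤ Fintype.card ι) {t : ℕ} {D : Fin t → Submodule F (ι → F)}
    (hD : Cfsg.Geo.IsOrthogonalMDecomposition (⇑Q) 1 D) :
    Cfsg.Geo.IsMaximalIn (Cfsg.Geo.omegaGL (⇑Q)) (Cfsg.Geo.decompositionStabilizer D ⊓ Cfsg.Geo.omegaGL (⇑Q)) :=
  frame_maximal_of h2 (by omega) hD fun B K hM hKO g hg hgm =>
    B.omega_le hM hKO hp (by rw [B.frame_card]; exact hn) hg hgm

theorem frame_maximal_odd {Q : QuadraticForm F (ι → F)} (h2 : (2 : F) ≠ 0) (hp : (Fintype.card F).Prime)
    (hn : 7 ≤ Fintype.card ι) (hodd : Odd (Fintype.card ι)) {t : ℕ} {D : Fin t → Submodule F (ι → F)}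
    (hD : Cfsg.Geo.IsOrthogonalMDecomposition (⇑Q) 1 D) :
    Cfsg.Geo.IsMaximalIn (Cfsg.Geo.omegaGL (⇑Q)) (Cfsg.Geo.decompositionStabilizer D ⊓ Cfsg.Geo.omegaGL (⇑Q)) :=
  frame_maximal_of h2 hn hD fun B K hM hKO g hg hgm =>
    B.omega_le_odd hM hp (by rw [B.frame_card]; exact hodd) (by rw [B.frame_card]; exact hn) hg hgm

end Cfsg.Lib.Classical.OFr
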