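import Mathlib
import Cfsg.Agent.Classical.Orth.Frame.FiveSeed
import Cfsg.Agent.Classical.Orth.Frame.Main

set_option autoImplicit false
set_option linter.unusedVariables false
set_option linter.unusedSimpArgs false
set_option linter.unusedSectionVars false
set_option linter.style.haveILetI false
set_option linter.flexible false

/-!
Five dimensions over a prime field: a singular line over a frame vector makes the unit vectors of a four-space paired
with the frame, and two such four-spaces give two centres seeing each other.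
-/

namespace Cfsg.Lib.Classical.OFr

open Matrix Cfsg.Lib.Classical.Refl

universe u w

theorem isSquare_nn {F : Type u} [Field F] [Fintype F] (h2 : (2 : F) ≠ 0) {a b : F} (ha : ¬ IsSquare a)
    (hb : ¬ IsSquare b) : IsSquare (a * b) := by
  have hF : ringChar F ≠ 2 := fun h => h2 (by haveI := ringChar.of_eq h; exact CharTwo.two_eq_zero)
  have ha0 : a ≠ 0 := fun h => ha (h ▸ IsSquare.zero)
  have hb0 : b ≠ 0 := fun h => hb (h ▸ IsSquare.zero)
  rw [FiniteField.isSquare_iff hF ha0] at ha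
  rw [FiniteField.isSquare_iff hF hb0] at hb
  rw [FiniteField.isSquare_iff hF (mul_ne_zero ha0 hb0), mul_pow,
    (FiniteField.pow_dichotomy hF ha0).resolve_left ha, (FiniteField.pow_dichotomy hF hb0).resolve_left hb,
    neg_mul_neg, one_mul]

namespace OFrame

variable {F : Type u} [Field F] [Fintype F] [DecidableEq F] {ι : Type} [Fintype ι] [DecidableEq ι]
  {Q : QuadraticForm F (ι → F)} {κ : Type w} [Fintype κ] [DecidableEq κ] (B : OFrame Q κ)
  {K : Subgroup (Cfsg.isometryGroup F (⇑Q))} {o : κ}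
  (hM : ∀ g ∈ Cfsg.Omega F (⇑Q), B.Mono g → g ∈ K)

variable (K o) in
/-- A three-space with a hyperbolic pair and a unit vector, Siegel elements in `K`, unit vectors in `Rs`. -/
structure Three (v x z : ι → F) : Prop where
  vv : B.ip v v = 0
  xx : B.ip x x = 0
  vx : B.ip v x = 1
  vz : B.ip v z = 0
  xz : B.ip x z = 0
  zz : B.ip z z = 1
  sv : z ∈ zset Q K v
  sx : z ∈ zset Q K x
  units : ∀ p r σ : F, 2 * p * r + σ * σ = 1 → p • v + r • x + σ • z ∈ B.Rs K o

include hM in
theorem rs_inv_iff (hodd : Odd (Fintype.card κ)) {g : Cfsg.isometryGroup F (⇑Q)} (hg : g ∈ K) (x : ι → F) :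
    ap g x ∈ B.Rs K o ↔ x ∈ B.Rs K o := by
  refine ⟨fun h => ?_, B.rs_map hg (B.rs_img hM hodd hg o)⟩
  have := B.rs_map (K.inv_mem hg) (B.rs_img hM hodd (K.inv_mem hg) o) h
  rwa [ap_inv_ap] at this

include hM in
/-- A singular line over a frame vector gives a three-space of unit vectors. -/
theorem three_of_rpair (hp : (Fintype.card F).Prime) (h3 : (3 : F) ≠ 0) {v : ι → F} {a l : κ}
    (hva : B.co v a = 0) (hvl : B.co v l ≠ 0) (hP : B.RPair K o v (B.b a)) :
    B.Three K o v ((-(2 * (B.co v l * B.co v l)))⁻¹ • ap (rr Q (B.b l)) v) (B.b a) := by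
  have hal : a ≠ l := fun h => hvl (h ▸ hva)
  set k := (-(2 * (B.co v l * B.co v l)))⁻¹ with hk
  set x := k • ap (rr Q (B.b l)) v with hx
  have hk0 : -(2 * (B.co v l * B.co v l)) ≠ 0 := neg_ne_zero.mpr (mul_ne_zero B.two (mul_ne_zero hvl hvl))
  have hxx : B.ip x x = 0 := by rw [hx, B.ip_smul_left, B.ip_smul_right, B.ip_ap, hP.sing]; ring
  have hvx : B.ip v x = 1 := by
    rw [hx, B.ip_smul_right, B.rr_apply_one (B.ip_b_self l), B.ip_sub_right, B.ip_smul_right, B.ip_b_left,
      B.ip_b_right, hP.sing, zero_sub, show -(2 * B.co v l * B.co v l) = -(2 * (B.co v l * B.co v l)) by ring, hk,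
      inv_mul_cancel₀ hk0]
  have hxa : B.co x a = 0 := by rw [hx, B.co_smul, B.co_rr_b, if_neg hal, hva, mul_zero]
  have hP' : B.RPair K o x (B.b a) := ⟨hxx, by rw [B.ip_b_right, hxa], fun t => by
    have h := B.rs_refl (B.rs_b hM l) (hP.line (t * k))
    rw [map_add, map_smul, B.rr_b_b, if_neg hal] at h
    rwa [hx, smul_smul]⟩
  let E : Tri B := ⟨a, l, B.b a + (1 : F) • v, hal, B.rs_unit (hP.line 1), by
    rw [B.co_add, B.co_add, B.co_smul, B.co_smul, B.co_b, B.co_b, if_pos rfl, if_neg hal, hva]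
    simpa using mul_ne_zero hvl hvl⟩
  have hvE : E.InE v := by
    have h := E.inE_sub E.inE_u E.inE_a
    rwa [show E.u - B.b E.a = v by show B.b a + (1 : F) • v - B.b a = v; module] at h
  have hxE : E.InE x := E.inE_smul _ (E.fixes_inE (E.fixes_rr E.inE_b) hvE)
  have hroot : ∀ {y : ι → F}, B.RPair K o y (B.b a) → E.InE y → ∀ t : F, ∀ (hQy : Q y = 0)
      (h : QuadraticMap.polar (⇑Q) y (t • B.b a) = 0), siegelG Q hQy h ∈ E.G3 K o := fun {y} hy hyE t hQy h => by
    rw [B.rpair_siegel hy t hQy h]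
    exact (E.G3 K o).mul_mem (E.rr_mem_G3 (B.rs_b hM a) E.inE_a)
      (E.rr_mem_G3 (hy.line _) (E.inE_add E.inE_a (E.inE_smul _ hyE)))
  have hvz : B.ip v (B.b a) = 0 := hP.perp
  have P : E.Roots K o v x (B.b a) := ⟨hvE, hxE, E.inE_a, hP.sing, hxx, hvx, hvz, hP'.perp,
    by rw [B.ip_b_self]; exact one_ne_zero, hroot hP hvE, hroot hP' hxE⟩
  refine ⟨hP.sing, hxx, hvx, hvz, hP'.perp, B.ip_b_self a, B.rpair_zset hP, B.rpair_zset hP', fun p r σ h => ?_⟩
  refine Tri.units_mem P hM (hP.line 1) hp h3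
    (E.inE_add (E.inE_add (E.inE_smul _ hvE) (E.inE_smul _ hxE)) (E.inE_smul _ E.inE_a)) ?_
  simp only [OFrame.ip_add_left, OFrame.ip_add_right, OFrame.ip_smul_left, OFrame.ip_smul_right, hP.sing, hxx, hvx,
    hvz, hP'.perp, B.ip_comm x v, B.ip_comm (B.b a) v, B.ip_comm (B.b a) x, B.ip_b_self]
  linear_combination h

include hM in
/-- A three-space of unit vectors and one unit vector of every height make all unit vectors of the four-space `Rs`. -/
theorem four_units (hp : (Fintype.card F).Prime) (h3 : (3 : F) ≠ 0) (hodd : Odd (Fintype.card κ)) {v x z n : ι → F}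
    (H : B.Three K o v x z) (hvn : B.ip v n = 0) (hxn : B.ip x n = 0) (hzn : B.ip z n = 0) (hn : B.ip n n ≠ 0)
    (hsrc : ∀ s : F, ∃ p r σ : F, p • v + r • x + σ • z + s • n ∈ B.Rs K o) :
    ∀ p r σ s : F, 2 * p * r + σ * σ + B.ip n n * (s * s) = 1 →
      p • v + r • x + σ • z + s • n ∈ B.Rs K o := by
  classical
  set δ := B.ip n n with hδ
  let G : F → F → F → F → Prop := fun p r σ s => p • v + r • x + σ • z + s • n ∈ B.Rs K o
  have ipv : ∀ p r σ s : F, B.ip v (p • v + r • x + σ • z + s • n) = r := fun p r σ s => by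
    simp only [B.ip_add_right, B.ip_smul_right, H.vv, H.vx, H.vz, hvn]; ring
  have ipx : ∀ p r σ s : F, B.ip x (p • v + r • x + σ • z + s • n) = p := fun p r σ s => by
    simp only [B.ip_add_right, B.ip_smul_right, H.xx, B.ip_comm x v, H.vx, H.xz, hxn]; ring
  have ipz : ∀ p r σ s : F, B.ip z (p • v + r • x + σ • z + s • n) = σ := fun p r σ s => by
    simp only [B.ip_add_right, B.ip_smul_right, B.ip_comm z v, H.vz, B.ip_comm z x, H.xz, H.zz, hzn]; ring
  have ipn : ∀ p r σ s : F, B.ip n (p • v + r • x + σ • z + s • n) = s * δ := fun p r σ s => by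
    simp only [B.ip_add_right, B.ip_smul_right, B.ip_comm n v, hvn, B.ip_comm n x, hxn, B.ip_comm n z, hzn, ← hδ]
    ring
  have h2 := B.two
  have hc := B.hc
  have hQ : ∀ y, B.ip y y = 0 → Q y = 0 := fun y hy => by rw [B.q_ip, hy, mul_zero]
  -- the three operations
  have hSv : ∀ A p r σ s, G p r σ s ↔ G (p - A * σ - A * A * r / 2) r (σ + A * r) s := fun A p r σ s => by
    have hvz : QuadraticMap.polar (⇑Q) v ((A / (2 * B.c)) • z) = 0 := by
      rw [QuadraticMap.polar_smul_right, B.polar_ip, H.vz, mul_zero, smul_zero]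
    refine ((B.rs_inv_iff hM hodd (H.sv.2 (hQ v H.vv) _ hvz) _).symm).trans (Iff.of_eq (congrArg (· ∈ B.Rs K o) ?_))
    rw [B.ap_siegelG, ipv, B.ip_smul_left, B.ip_smul_left, B.ip_smul_right, ipz, H.zz]
    match_scalars <;> field_simp <;> ring
  have hSx : ∀ A p r σ s, G p r σ s ↔ G p (r - A * σ - A * A * p / 2) (σ + A * p) s := fun A p r σ s => by
    have hxz : QuadraticMap.polar (⇑Q) x ((A / (2 * B.c)) • z) = 0 := by
      rw [QuadraticMap.polar_smul_right, B.polar_ip, H.xz, mul_zero, smul_zero]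
    refine ((B.rs_inv_iff hM hodd (H.sx.2 (hQ x H.xx) _ hxz) _).symm).trans (Iff.of_eq (congrArg (· ∈ B.Rs K o) ?_))
    rw [B.ap_siegelG, ipx, B.ip_smul_left, B.ip_smul_left, B.ip_smul_right, ipz, H.zz]
    match_scalars <;> field_simp <;> ring
  have hR : ∀ β, β ≠ 0 → ∀ p r σ s, G p r σ s ↔ G (-r / (2 * (β * β))) (-(2 * (β * β)) * p) σ s :=
      fun β hβ p r σ s => by
    have hw := H.units (1 / (2 * β)) β 0 (by field_simp; ring)
    refine ((B.rs_refl_iff hw).symm).trans (Iff.of_eq (congrArg (· ∈ B.Rs K o) ?_))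
    rw [B.rr_apply_one (B.rs_unit hw), B.ip_add_left, B.ip_add_left, B.ip_smul_left, B.ip_smul_left, B.ip_smul_left,
      ipv, ipx, ipz]
    match_scalars <;> field_simp <;> ring
  have hnorm : ∀ p r σ s ν, r ≠ 0 → 2 * p * r + σ * σ = ν → (G p r σ s ↔ G (ν / (2 * r)) r 0 s) := by
    intro p r σ s ν hr hν
    rw [hSv (-σ / r), show σ + -σ / r * r = 0 by field_simp; ring,
      show p - -σ / r * σ - -σ / r * (-σ / r) * r / 2 = ν / (2 * r) by rw [← hν]; field_simp; ring]
  -- nonsingular part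
  have hclass : ∀ ν s, ν ≠ 0 → ∀ r r', r ≠ 0 → r' ≠ 0 → (G (ν / (2 * r)) r 0 s ↔ G (ν / (2 * r')) r' 0 s) := by
    intro ν s hν
    have hsq : ∀ r g, r ≠ 0 → g ≠ 0 → (G (ν / (2 * r)) r 0 s ↔ G (ν / (2 * (g * g * r))) (g * g * r) 0 s) := by
      intro r g hr hg
      rw [hR 1 one_ne_zero, hR g hg]
      refine Iff.of_eq ?_
      congr 1 <;> field_simp
    have hnn : ∀ r σ, r ≠ 0 → 1 - 1 / ν * (σ * σ) ≠ 0 →
        (G (ν / (2 * r)) r 0 s ↔ G (ν / (2 * (r * (1 - 1 / ν * (σ * σ))))) (r * (1 - 1 / ν * (σ * σ))) 0 s) := by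
      intro r σ hr hσ
      rw [hSx (σ / (ν / (2 * r)))]
      have e1 : r - σ / (ν / (2 * r)) * 0 - σ / (ν / (2 * r)) * (σ / (ν / (2 * r))) * (ν / (2 * r)) / 2 =
          r * (1 - 1 / ν * (σ * σ)) := by field_simp; ring
      have e2 : (0 : F) + σ / (ν / (2 * r)) * (ν / (2 * r)) = σ := by field_simp; ring
      rw [e1, e2]
      exact hnorm _ _ _ _ _ (mul_ne_zero hr hσ) (by field_simp; ring)
    intro r r' hr hr'
    by_cases hs : IsSquare (r' / r)
    · obtain ⟨g, hg⟩ := hs
      have hg0 : g ≠ 0 := fun h => by rw [h, mul_zero] at hg; exact div_ne_zero hr' hr hg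
      have := hsq r g hr hg0
      rwa [← hg, div_mul_cancel₀ _ hr] at this
    · obtain ⟨σ, hσ⟩ := exists_nonsquare_value hp h2 h3 (k := 1 / ν) (one_div_ne_zero hν)
      set t := 1 - 1 / ν * (σ * σ) with ht
      have ht0 : t ≠ 0 := fun h => hσ (h ▸ IsSquare.zero)
      obtain ⟨g, hg⟩ : IsSquare (r' / r * t⁻¹) := isSquare_nn h2 hs (by rwa [isSquare_inv])
      have hg0 : g ≠ 0 := fun h => by
        rw [h, mul_zero] at hg
        exact mul_ne_zero (div_ne_zero hr' hr) (inv_ne_zero ht0) hg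
      have := (hnn r σ hr ht0).trans (hsq (r * t) g (mul_ne_zero hr ht0) hg0)
      rwa [← hg, show r' / r * t⁻¹ * (r * t) = r' by field_simp] at this
  have hfin : ∀ p r σ s ν, ν ≠ 0 → 2 * p * r + σ * σ = ν → (G p r σ s ↔ G (ν / 2) 1 0 s) := by
    intro p r σ s ν hν hpr
    have step : ∀ p r σ, 2 * p * r + σ * σ = ν → r ≠ 0 → (G p r σ s ↔ G (ν / 2) 1 0 s) := fun p r σ h hr => by
      rw [hnorm p r σ s ν hr h, hclass ν s hν r 1 hr one_ne_zero, mul_one]
    by_cases hr : r = 0
    · subst hr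
      have hσ : σ ≠ 0 := fun h => hν (by rw [← hpr, h]; ring)
      have stepp : ∀ p σ, 2 * p * 0 + σ * σ = ν → p ≠ 0 → (G p 0 σ s ↔ G (ν / 2) 1 0 s) := fun p σ h hp0 => by
        rw [hR 1 one_ne_zero]
        exact step _ _ _ (by rw [← h]; field_simp)
          (mul_ne_zero (neg_ne_zero.mpr (by simp [h2])) hp0)
      by_cases hp0 : p = 0
      · subst hp0
        rw [hSv 1]
        exact stepp _ _ (by rw [← hpr]; ring) (by simpa using hσ)
      · exact stepp p σ hpr hp0
    · exact step p r σ hpr hr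
  have hreg : ∀ p r σ s, 2 * p * r + σ * σ + δ * (s * s) = 1 → 1 - δ * (s * s) ≠ 0 → G p r σ s := by
    intro p r σ s h hν
    obtain ⟨p', r', σ', hsr⟩ := hsrc s
    have hu := B.rs_unit hsr
    have hu' : 2 * p' * r' + σ' * σ' + δ * (s * s) = 1 := by
      rw [B.ip_add_left, B.ip_add_left, B.ip_add_left, B.ip_smul_left, B.ip_smul_left, B.ip_smul_left,
        B.ip_smul_left, ipv, ipx, ipz, ipn] at hu
      linear_combination hu
    rw [hfin p r σ s _ hν (by linear_combination h), ← hfin p' r' σ' s _ hν (by linear_combination hu')]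
    exact hsr
  intro p r σ s h
  by_cases hν : 1 - δ * (s * s) ≠ 0
  · exact hreg p r σ s h hν
  push Not at hν
  have hs0 : s ≠ 0 := fun h => by rw [h] at hν; simp at hν
  obtain ⟨r', hr'⟩ : ∃ r', G p r σ s ↔ G 0 r' 0 s := by
    have h0 : 2 * p * r + σ * σ = 0 := by linear_combination h + hν
    by_cases hr : r = 0
    · subst hr
      have hσ : σ = 0 := mul_self_eq_zero.mp (by linear_combination h0)
      subst hσ
      refine ⟨-(2 * (1 * 1)) * p, ?_⟩
      rw [hR 1 one_ne_zero, neg_zero, zero_div]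
    · exact ⟨r, by rw [hnorm p r σ s 0 hr h0, zero_div]⟩
  refine hr'.mpr ?_
  obtain ⟨τ, hτ0, hτ⟩ : ∃ τ : F, τ ≠ 0 ∧ 1 - δ * (τ * τ) ≠ 0 := by
    by_cases h1 : 1 - δ * (1 * 1) ≠ 0
    · exact ⟨1, one_ne_zero, h1⟩
    · push Not at h1
      refine ⟨2, h2, fun h' => h3 ?_⟩
      linear_combination 4 * h1 - h'
  obtain ⟨α, hα0, hA, hA'⟩ : ∃ α : F, α ≠ 0 ∧ α * r' + τ * (s * δ) ≠ 0 ∧ (α * r' + τ * (s * δ)) * τ ≠ s := by
    by_cases hr0 : r' = 0
    · refine ⟨1, one_ne_zero, ?_, fun h' => hτ ?_⟩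
      · rw [hr0, one_mul, zero_add]
        exact mul_ne_zero hτ0 (mul_ne_zero hs0 (fun h => by rw [h] at hν; simp at hν))
      · rw [hr0, one_mul, zero_add] at h'
        exact (mul_eq_zero.mp (show s * (1 - δ * (τ * τ)) = 0 by linear_combination -h')).resolve_left hs0
    · obtain ⟨α, -, hα⟩ := Finset.exists_mem_notMem_of_card_lt_card
        (s := ({0, -(τ * (s * δ)) / r', (s / τ - τ * (s * δ)) / r'} : Finset F)) (t := Finset.univ) (by
          rw [Finset.card_univ]
          refine lt_of_le_of_lt Finset.card_le_three ?_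
          have h2' : Fintype.card F ≠ 2 := fun h => h2 (by
            have := FiniteField.cast_card_eq_zero F; rw [h] at this; exact_mod_cast this)
          have h3' : Fintype.card F ≠ 3 := fun h => h3 (by
            have := FiniteField.cast_card_eq_zero F; rw [h] at this; exact_mod_cast this)
          have := hp.two_le
          omega)
      simp only [Finset.mem_insert, Finset.mem_singleton, not_or] at hα
      refine ⟨α, hα.1, fun h' => hα.2.1 ?_, fun h' => hα.2.2 ?_⟩
      · field_simp; linear_combination h'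
      · field_simp; linear_combination h'
  set ρ := (1 - δ * (τ * τ)) / (2 * α) with hρ
  have hw : G α ρ 0 τ := hreg _ _ _ _ (by rw [hρ]; field_simp; ring) hτ
  refine (B.rs_refl_iff hw).mp ?_
  set A := α * r' + τ * (s * δ) with hAdef
  rw [B.rr_apply_one (B.rs_unit hw)]
  have hip : B.ip (α • v + ρ • x + (0 : F) • z + τ • n) ((0 : F) • v + r' • x + (0 : F) • z + s • n) = A := by
    rw [B.ip_add_left, B.ip_add_left, B.ip_add_left, B.ip_smul_left, B.ip_smul_left, B.ip_smul_left, B.ip_smul_left,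
      ipv, ipx, ipz, ipn, hAdef]
    ring
  rw [hip, show ((0 : F) • v + r' • x + (0 : F) • z + s • n) - (2 * A) • (α • v + ρ • x + (0 : F) • z + τ • n) =
    (-(2 * A * α)) • v + (r' - 2 * A * ρ) • x + (0 : F) • z + (s - 2 * A * τ) • n by module]
  refine hreg _ _ _ _ ?_ ?_
  · have hρ2 : 2 * α * ρ = 1 - δ * (τ * τ) := by rw [hρ]; field_simp
    linear_combination 4 * A * A * hρ2 - hν + 4 * A * hAdef
  · intro h'
    have : (A * τ) * (s - A * τ) * (4 * δ) = 0 := by linear_combination h' - hν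
    refine mul_ne_zero (mul_ne_zero (mul_ne_zero hA hτ0) (sub_ne_zero.mpr (Ne.symm hA'))) ?_ this
    refine mul_ne_zero (by rw [show (4 : F) = 2 * 2 by ring]; exact mul_ne_zero h2 h2) hn

include B in
theorem zset_self {c : ι → F} (hc : B.ip c c = 0) : c ∈ zset Q K c := by
  refine ⟨by rw [B.polar_ip, hc, mul_zero], fun hu a h => ?_⟩
  convert K.one_mem
  refine ap_ext fun y => ?_
  rw [B.ap_siegelG, ap_one, B.ip_smul_left, B.ip_smul_left, B.ip_smul_right, hc]
  module

include hM in
/-- Two root elements along a hyperbolic pair from reflections in unit vectors of a four-space. -/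
theorem local_zset (h3 : (3 : F) ≠ 0) {m : ι → F} (hT : ∀ y, B.ip m y = 0 → B.ip y y = 1 → y ∈ B.Rs K o)
    {v x z : ι → F} (hvv : B.ip v v = 0) (hxx : B.ip x x = 0) (hvx : B.ip v x = 1) (hvz : B.ip v z = 0)
    (hxz : B.ip x z = 0) (hmv : B.ip m v = 0) (hmx : B.ip m x = 0) (hmz : B.ip m z = 0) : z ∈ zset Q K x := by
  refine ⟨by rw [B.polar_ip, hxz, mul_zero], fun hQx a ha => ?_⟩
  have h2 := B.two
  have hQv : Q v = 0 := by rw [B.q_ip, hvv, mul_zero]
  have pv : ∀ t : F, QuadraticMap.polar (⇑Q) v (t • z) = 0 := fun t => by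
    rw [QuadraticMap.polar_smul_right, B.polar_ip, hvz, mul_zero, smul_zero]
  have px : ∀ t : F, QuadraticMap.polar (⇑Q) x (t • z) = 0 := fun t => by
    rw [QuadraticMap.polar_smul_right, B.polar_ip, hxz, mul_zero, smul_zero]
  set t := a / 6 with ht
  set s := siegelG Q hQv (pv t) with hs
  have e : ∀ β : F, β ≠ 0 → siegelG Q hQx (px (-(2 * (β * β)) * t)) * s⁻¹ ∈ K := by
    intro β hβ
    set y := (1 / (2 * β)) • v + β • x with hy
    have hyy : B.ip y y = 1 := by
      rw [hy]
      simp only [B.ip_add_left, B.ip_add_right, B.ip_smul_left, B.ip_smul_right, hvv, hxx, hvx, B.ip_comm x v]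
      field_simp
      ring
    have hmy : B.ip m y = 0 := by rw [hy, B.ip_add_right, B.ip_smul_right, B.ip_smul_right, hmv, hmx]; ring
    have hmsy : B.ip m (ap s y) = 0 := by
      rw [hs, B.ap_siegelG]
      simp only [B.ip_add_right, B.ip_smul_right, hmy, hmz, hmv]
      ring
    have hk := B.rs_pair (hT y hmy hyy) (hT _ hmsy (by rw [B.ip_ap, hyy]))
    rw [← rr_conj] at hk
    have hconj : rr Q y * s * rr Q y = siegelG Q hQx (px (-(2 * (β * β)) * t)) := by
      refine ap_ext fun w => ?_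
      rw [ap_mul, ap_mul, B.ap_siegelG, B.ap_siegelG, map_add, map_add, map_smul, map_smul, map_smul,
        ← ap_mul, rr_mul_self, ap_one, B.rr_fix (x := z) (by rw [hyy]; exact one_ne_zero) (by
          rw [hy, B.ip_add_left, B.ip_smul_left, B.ip_smul_left, hvz, hxz]; ring)]
      have ev : ap (rr Q y) v = (-(2 * (β * β))) • x := by
        rw [B.rr_apply_one hyy, hy, B.ip_add_left, B.ip_smul_left, B.ip_smul_left, hvv, B.ip_comm x v, hvx]
        match_scalars <;> field_simp <;> ring
      have e1 : B.ip v (ap (rr Q y) w) = -(2 * (β * β)) * B.ip x w := by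
        rw [B.ip_comm, B.ip_ap_left, rr_inv, ev, B.ip_smul_right, B.ip_comm]
      have e2 : B.ip z (ap (rr Q y) w) = B.ip z w := by
        rw [B.ip_comm, B.ip_ap_left, rr_inv, B.rr_fix (by rw [hyy]; exact one_ne_zero) (by
          rw [hy, B.ip_add_left, B.ip_smul_left, B.ip_smul_left, hvz, hxz]; ring), B.ip_comm]
      simp only [B.ip_smul_left, B.ip_smul_right, e1, e2, ev]
      match_scalars <;> ring
    rw [← hconj]
    simpa [mul_assoc] using hk
  have h := K.mul_mem (e 1 one_ne_zero) (K.inv_mem (e 2 h2))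
  rw [show ∀ p q r : Cfsg.isometryGroup F (⇑Q), p * r * (q * r)⁻¹ = p * q⁻¹ from fun p q r => by group] at h
  have key : siegelG Q hQx (px (-(2 * (1 * 1)) * t)) = siegelG Q hQx ha * siegelG Q hQx (px (-(2 * (2 * 2)) * t)) := by
    rw [siegelG_mul]
    congr 1
    rw [← add_smul]
    congr 1
    have h6 : (6 : F) ≠ 0 := by rw [show (6 : F) = 2 * 3 by ring]; exact mul_ne_zero h2 h3
    rw [ht]; field_simp; ring
  rwa [key, mul_inv_cancel_right] at h

include hM in
/-- Two four-spaces of unit vectors give all of `Ω`. -/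
theorem omega_le_of_two (h3 : (3 : F) ≠ 0) (hn : Fintype.card κ = 5) {m m' : ι → F} {μ : F}
    (hm : B.ip m m = μ) (hm' : B.ip m' m' = μ) (hμ : μ * μ - B.ip m m' * B.ip m m' ≠ 0) (hμ0 : μ ≠ 0)
    (hT : ∀ y, B.ip m y = 0 → B.ip y y = 1 → y ∈ B.Rs K o)
    (hT' : ∀ y, B.ip m' y = 0 → B.ip y y = 1 → y ∈ B.Rs K o) : Cfsg.Omega F (⇑Q) ≤ K := by
  classical
  have hκ := B.frame_card
  set β := B.ip m m' with hβ
  let L : (ι → F) →ₗ[F] F × F := (QuadraticMap.polarBilin Q m).prod (QuadraticMap.polarBilin Q m')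
  have hX : 3 ≤ Module.finrank F (LinearMap.ker L) := by
    have h1 := L.finrank_range_add_finrank_ker
    have h2 := (LinearMap.range L).finrank_le
    rw [Module.finrank_prod, Module.finrank_self] at h2
    rw [Module.finrank_fintype_fun_eq_card] at h1
    omega
  obtain ⟨c, hcL, hc0, hQc⟩ := exists_singular Q (LinearMap.ker L) hX
  have hmc : B.ip m c = 0 := by
    have h : QuadraticMap.polar (⇑Q) m c = 0 := congrArg Prod.fst (LinearMap.mem_ker.mp hcL)
    rw [B.polar_ip] at h
    exact (mul_eq_zero.mp h).resolve_left (mul_ne_zero B.two B.hc)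
  have hmc' : B.ip m' c = 0 := by
    have h : QuadraticMap.polar (⇑Q) m' c = 0 := congrArg Prod.snd (LinearMap.mem_ker.mp hcL)
    rw [B.polar_ip] at h
    exact (mul_eq_zero.mp h).resolve_left (mul_ne_zero B.two B.hc)
  have hcc : B.ip c c = 0 := (mul_eq_zero.mp ((B.q_ip c).symm.trans hQc)).resolve_left B.hc
  obtain ⟨i, hi⟩ := B.supp_nonempty hc0
  set y₀ := (B.co c i)⁻¹ • B.b i with hy₀
  have hcy : B.ip c y₀ = 1 := by rw [hy₀, B.ip_smul_right, B.ip_b_right, inv_mul_cancel₀ (B.mem_supp.mp hi)]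
  set ξ := (μ * B.ip m y₀ - β * B.ip m' y₀) / (μ * μ - β * β) with hξ
  set η := (μ * B.ip m' y₀ - β * B.ip m y₀) / (μ * μ - β * β) with hη
  clear_value y₀
  set y₁ := y₀ - ξ • m - η • m' with hy₁
  have hcy₁ : B.ip c y₁ = 1 := by
    rw [hy₁, B.ip_sub_right, B.ip_sub_right, B.ip_smul_right, B.ip_smul_right, B.ip_comm c m, hmc, B.ip_comm c m',
      hmc', hcy]
    ring
  have hmy₁ : B.ip m y₁ = 0 := by
    rw [hy₁, B.ip_sub_right, B.ip_sub_right, B.ip_smul_right, B.ip_smul_right, hm, ← hβ, hξ, hη,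
      div_mul_eq_mul_div, div_mul_eq_mul_div, sub_sub, ← add_div, sub_eq_zero, eq_div_iff hμ]
    ring
  have hmy₁' : B.ip m' y₁ = 0 := by
    rw [hy₁, B.ip_sub_right, B.ip_sub_right, B.ip_smul_right, B.ip_smul_right, hm', B.ip_comm m' m, ← hβ, hξ, hη,
      div_mul_eq_mul_div, div_mul_eq_mul_div, sub_sub, ← add_div, sub_eq_zero, eq_div_iff hμ]
    ring
  set x := y₁ - (B.ip y₁ y₁ / 2) • c with hx
  have hxx : B.ip x x = 0 := by
    rw [hx]
    simp only [B.ip_sub_left, B.ip_sub_right, B.ip_smul_left, B.ip_smul_right, hcc, B.ip_comm y₁ c, hcy₁]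
    field_simp [B.two]
    ring
  have hcx : B.ip c x = 1 := by rw [hx, B.ip_sub_right, B.ip_smul_right, hcc, hcy₁]; ring
  have hmx : B.ip m x = 0 := by rw [hx, B.ip_sub_right, B.ip_smul_right, hmy₁, hmc]; ring
  have hmx' : B.ip m' x = 0 := by rw [hx, B.ip_sub_right, B.ip_smul_right, hmy₁', hmc']; ring
  -- the centre of the pair
  have centre : ∀ {p q : ι → F}, B.ip p p = 0 → B.ip q q = 0 → B.ip p q = 1 → B.ip m p = 0 → B.ip m' p = 0 →
      B.ip m q = 0 → B.ip m' q = 0 → p ∈ sCentres Q K := by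
    intro p q hpp hqq hpq hmp hmp' hmq hmq'
    have part : ∀ {n : ι → F}, (∀ y, B.ip n y = 0 → B.ip y y = 1 → y ∈ B.Rs K o) → B.ip n p = 0 → B.ip n q = 0 →
        ∀ w, B.ip n w = 0 → B.ip p w = 0 → w ∈ zset Q K p := by
      intro n hn hnp hnq w hnw hpw
      rw [show w = (w - B.ip q w • p) + B.ip q w • p by abel]
      refine (zset Q K p).add_mem (B.local_zset hM h3 hn hqq hpp (by rw [B.ip_comm, hpq]) ?_ ?_ hnq hnp ?_)
        ((zset Q K p).smul_mem _ (B.zset_self hpp))
      · rw [B.ip_sub_right, B.ip_smul_right, B.ip_comm q p, hpq, mul_one, sub_self]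
      · rw [B.ip_sub_right, B.ip_smul_right, hpp, hpw]; ring
      · rw [B.ip_sub_right, B.ip_smul_right, hnp, hnw]; ring
    refine sCentres_of_zset (by rw [B.q_ip, hpp, mul_zero]) fun w hw => ?_
    rw [B.polar_ip, mul_eq_zero, or_iff_right (mul_ne_zero B.two B.hc)] at hw
    set n₁ := m - (β / μ) • m' with hn₁
    have hmn : B.ip m n₁ = (μ * μ - β * β) / μ := by
      rw [hn₁, B.ip_sub_right, B.ip_smul_right, hm, ← hβ]; field_simp
    have hpn : B.ip p n₁ = 0 := by
      rw [hn₁, B.ip_sub_right, B.ip_smul_right, B.ip_comm p m, hmp, B.ip_comm p m', hmp']; ring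
    set t := B.ip m w / B.ip m n₁ with ht
    rw [show w = (w - t • n₁) + t • n₁ by abel]
    refine (zset Q K p).add_mem (part hT hmp hmq _ ?_ ?_)
      ((zset Q K p).smul_mem _ (part hT' hmp' hmq' _ ?_ hpn))
    · rw [B.ip_sub_right, B.ip_smul_right, ht, div_mul_cancel₀ _ (by rw [hmn]; exact div_ne_zero hμ hμ0), sub_self]
    · rw [B.ip_sub_right, B.ip_smul_right, hw, hpn]; ring
    · rw [hn₁, B.ip_sub_right, B.ip_smul_right, B.ip_comm m' m, ← hβ, hm']; field_simp; ring
  refine B.omega_le_of_pair (centre hcc hxx hcx hmc hmc' hmx hmx')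
    (centre hxx hcc (by rw [B.ip_comm, hcx]) hmx hmx' hmc hmc') ?_ (by omega)
  rw [B.polar_ip, hcx, mul_one]
  exact mul_ne_zero B.two B.hc

include hM in
/-- A four-space of unit vectors gives all of `Ω`. -/
theorem omega_le_of_four (hp : (Fintype.card F).Prime) (h3 : (3 : F) ≠ 0) (hn : Fintype.card κ = 5) {m : ι → F}
    (hm : B.ip m m ≠ 0) (hT : ∀ y, B.ip m y = 0 → B.ip y y = 1 → y ∈ B.Rs K o) : Cfsg.Omega F (⇑Q) ≤ K := by
  classical
  have hodd : Odd (Fintype.card κ) := by rw [hn]; decide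
  have hm0 : m ≠ 0 := fun h => hm (by rw [h, B.ip_zero_left])
  obtain ⟨g, hg, hd⟩ : ∃ g ∈ K, B.ip m m * B.ip m m - B.ip m (ap g m) * B.ip m (ap g m) ≠ 0 := by
    by_cases hl : ∃ l, B.co m l ≠ 0 ∧ B.co m l * B.co m l ≠ B.ip m m
    · obtain ⟨l, hl0, hl1⟩ := hl
      obtain ⟨e, he, hee⟩ := B.neg_rr_in hM hodd l
      refine ⟨e, he, ?_⟩
      rw [hee, B.rr_apply_one (B.ip_b_self l), B.ip_b_left, B.ip_neg_right, B.ip_sub_right, B.ip_smul_right,
        B.ip_b_right, show ∀ μ r : F, μ * μ - -(μ - 2 * r * r) * -(μ - 2 * r * r) =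
          2 * 2 * (r * r) * (μ - r * r) from fun μ r => by ring]
      exact mul_ne_zero (mul_ne_zero (mul_ne_zero B.two B.two) (mul_ne_zero hl0 hl0))
        (sub_ne_zero.mpr (Ne.symm hl1))
    · push Not at hl
      obtain ⟨l, hls⟩ := B.supp_nonempty hm0
      have hk1 : B.supp m ⊆ {l} := by
        have hs : B.ip m m = ∑ i ∈ B.supp m, B.co m i * B.co m i := B.ip_supp (Finset.Subset.refl _) m
        rw [Finset.sum_congr rfl fun i hi => hl i (B.mem_supp.mp hi), Finset.sum_const, nsmul_eq_mul] at hs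
        have hcast : (((B.supp m).card - 1 : ℕ) : F) = 0 := by
          have h1 := Finset.card_pos.mpr ⟨l, hls⟩
          rw [Nat.cast_sub h1, Nat.cast_one]
          exact (mul_eq_zero.mp (show (((B.supp m).card : F) - 1) * B.ip m m = 0 by
            linear_combination -hs)).resolve_right hm
        haveI := Fact.mk hp
        haveI : CharP F (Fintype.card F) := charP_of_card_eq_prime rfl
        rw [CharP.cast_eq_zero_iff F (Fintype.card F)] at hcast
        have h5 : (B.supp m).card ≤ 5 := hn ▸ Finset.card_le_univ _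
        have h2' : Fintype.card F ≠ 2 := fun h => B.two (by
          have := FiniteField.cast_card_eq_zero F; rw [h] at this; exact_mod_cast this)
        have h3' : Fintype.card F ≠ 3 := fun h => h3 (by
          have := FiniteField.cast_card_eq_zero F; rw [h] at this; exact_mod_cast this)
        have h4' : Fintype.card F ≠ 4 := fun h => by rw [h] at hp; exact absurd hp (by decide)
        have := hp.two_le
        have hc1 : (B.supp m).card = 1 := by
          have h1 := Finset.card_pos.mpr ⟨l, hls⟩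
          by_contra hne
          have := Nat.le_of_dvd (by omega) hcast
          omega
        obtain ⟨i, hi⟩ := Finset.card_eq_one.mp hc1
        rw [hi, Finset.mem_singleton] at hls
        rw [hi, hls]
      obtain ⟨l', hl'⟩ := exists_out ({l} : Finset κ) (by rw [Finset.card_singleton]; omega)
      rw [Finset.mem_singleton] at hl'
      obtain ⟨e, f, hef, he, hf⟩ := exists_two_out (S := ({l, l'} : Finset κ)) (by
        have := Finset.card_le_two (a := l) (b := l'); omega)
      simp only [Finset.mem_insert, Finset.mem_singleton, not_or] at he hf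
      refine ⟨_, B.sw_pair_in hM (Ne.symm hl') hef, ?_⟩
      have hz : B.ip m (ap (B.sw l l' * B.sw e f) m) = 0 := by
        rw [ap_mul, B.sw_fix hef (B.co_eq_zero hk1 (by simp [he.1])) (B.co_eq_zero hk1 (by simp [hf.1])),
          B.ip_supp hk1, Finset.sum_singleton, B.co_sw (Ne.symm hl'), Equiv.swap_apply_left,
          B.co_eq_zero hk1 (i := l') (by simp [hl']), mul_zero]
      rw [hz, mul_zero, sub_zero]
      exact mul_ne_zero hm hm
  refine B.omega_le_of_two hM h3 hn rfl (B.ip_ap g m m) hd hm hT fun y hy hyy => ?_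
  have h := hT (ap g⁻¹ y) (by rw [← B.ip_ap g, ap_ap_inv]; exact hy) (by rw [B.ip_ap]; exact hyy)
  rwa [B.rs_inv_iff hM hodd (K.inv_mem hg)] at h

include hM in
/-- In dimension five a singular line over a frame vector gives all of `Ω`. -/
theorem omega_le_of_line (hp : (Fintype.card F).Prime) (h3 : (3 : F) ≠ 0) (hn : Fintype.card κ = 5) {v : ι → F}
    {a : κ} (hv0 : v ≠ 0) (hva : B.co v a = 0) (hP : B.RPair K o v (B.b a)) : Cfsg.Omega F (⇑Q) ≤ K := by
  classical
  have hodd : Odd (Fintype.card κ) := by rw [hn]; decide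
  have hκ := B.frame_card
  obtain ⟨l, hl⟩ := B.supp_nonempty hv0
  have hvl := B.mem_supp.mp hl
  have hal : a ≠ l := fun h => hvl (h ▸ hva)
  by_cases hc : ∃ c ∈ B.supp v, c ≠ l ∧ B.co v c * B.co v c + B.co v l * B.co v l ≠ 0
  · obtain ⟨c, hcs, hcl, hcne⟩ := hc
    have hvc := B.mem_supp.mp hcs
    have hca : c ≠ a := fun h => hvc (h ▸ hva)
    have H := B.three_of_rpair hM hp h3 hva hvl hP
    set x := (-(2 * (B.co v l * B.co v l)))⁻¹ • ap (rr Q (B.b l)) v with hx
    have hxc : B.co x c = (-(2 * (B.co v l * B.co v l)))⁻¹ * B.co v c := by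
      rw [hx, B.co_smul, B.co_rr_b, if_neg hcl]
    have hxc0 : B.co x c ≠ 0 := by
      rw [hxc]; exact mul_ne_zero (inv_ne_zero (neg_ne_zero.mpr (mul_ne_zero B.two (mul_ne_zero hvl hvl)))) hvc
    have hxa : B.co x a = 0 := by rw [← B.ip_b_right]; exact H.xz
    clear_value x
    set n := B.b c - B.co x c • v - B.co v c • x with hn'
    have hvn : B.ip v n = 0 := by
      rw [hn']; simp only [B.ip_sub_right, B.ip_smul_right, B.ip_b_right, H.vv, H.vx]; ring
    have hxn : B.ip x n = 0 := by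
      rw [hn']; simp only [B.ip_sub_right, B.ip_smul_right, B.ip_b_right, H.xx, B.ip_comm x v, H.vx]; ring
    have hzn : B.ip (B.b a) n = 0 := by
      rw [hn', B.ip_b_left, B.co_sub, B.co_sub, B.co_smul, B.co_smul, B.co_b, if_neg hca, hva, hxa]
      ring
    have hnn : B.ip n n ≠ 0 := by
      have e : B.ip n n = 1 - 2 * B.co x c * B.co v c := by
        rw [hn']
        simp only [B.ip_sub_left, B.ip_sub_right, B.ip_smul_left, B.ip_smul_right, B.ip_b_right, B.ip_b_left,
          B.co_sub, B.co_smul, B.co_b, if_pos, H.vv, H.xx, H.vx, B.ip_comm x v]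
        ring
      rw [e, hxc]
      intro h0
      apply hcne
      have h2 := B.two
      field_simp at h0
      linear_combination h0
    have hU := B.four_units hM hp h3 hodd H hvn hxn hzn hnn fun s => by
      refine ⟨s * B.co x c, -s / (2 * B.co x c) + s * B.co v c, 1, ?_⟩
      have ht := H.units 0 (-s / (2 * B.co x c)) 1 (by ring)
      have h := B.rs_refl (B.rs_b hM c) ht
      simp only [B.rr_apply_one (B.ip_b_self c), B.ip_b_left, B.co_add, B.co_smul, B.co_b,
        if_neg (Ne.symm hca)] at h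
      convert h using 1
      rw [hn']
      match_scalars <;> field_simp [B.two] <;> ring
    -- the orthogonal line
    have h2c : 2 * B.c ≠ 0 := mul_ne_zero B.two B.hc
    let L : (ι → F) →ₗ[F] (Fin 4 → F) :=
      LinearMap.pi fun i => QuadraticMap.polarBilin Q (![v, x, B.b a, n] i)
    have hL : ∀ y, L y = ![2 * B.c * B.ip v y, 2 * B.c * B.ip x y, 2 * B.c * B.ip (B.b a) y,
        2 * B.c * B.ip n y] := fun y => by
      funext i
      fin_cases i <;> simp [L, B.polar_ip]
    have hLs : LinearMap.range L = ⊤ := LinearMap.range_eq_top.mpr fun f => by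
      refine ⟨(f 1 / (2 * B.c)) • v + (f 0 / (2 * B.c)) • x + (f 2 / (2 * B.c)) • B.b a +
        (f 3 / (2 * B.c * B.ip n n)) • n, ?_⟩
      rw [hL]
      simp only [B.ip_add_right, B.ip_smul_right, H.vv, H.xx, H.vx, H.vz, H.xz, H.zz, hvn, hxn, hzn,
        B.ip_comm x v, B.ip_comm (B.b a) v, B.ip_comm (B.b a) x, B.ip_comm n v, B.ip_comm n x, B.ip_comm n (B.b a)]
      funext i
      have h2 := B.two
      have hc := B.hc
      fin_cases i <;> simp <;> field_simp
    have hk1 : Module.finrank F (LinearMap.ker L) = 1 := by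
      have h1 := L.finrank_range_add_finrank_ker
      rw [hLs, finrank_top, Module.finrank_fintype_fun_eq_card, Fintype.card_fin,
        Module.finrank_fintype_fun_eq_card] at h1
      omega
    obtain ⟨m, hmL, hm0⟩ := Submodule.exists_mem_ne_zero_of_ne_bot (p := LinearMap.ker L)
      (fun h => by rw [h, finrank_bot] at hk1; omega)
    have hker : ∀ y, L y = 0 → ∃ e : F, y = e • m := fun y hy => by
      have hs : LinearMap.ker L = Submodule.span F {m} :=
        (Submodule.eq_of_le_of_finrank_le ((Submodule.span_singleton_le_iff_mem m _).mpr hmL)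
          (by rw [finrank_span_singleton hm0, hk1])).symm
      have : y ∈ Submodule.span F {m} := hs ▸ LinearMap.mem_ker.mpr hy
      obtain ⟨e, he⟩ := Submodule.mem_span_singleton.mp this
      exact ⟨e, he.symm⟩
    have hm4 : B.ip v m = 0 ∧ B.ip x m = 0 ∧ B.ip (B.b a) m = 0 ∧ B.ip n m = 0 := by
      have h := LinearMap.mem_ker.mp hmL
      rw [hL] at h
      refine ⟨?_, ?_, ?_, ?_⟩ <;>
        [have h' := congrFun h 0; have h' := congrFun h 1; have h' := congrFun h 2; have h' := congrFun h 3] <;>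
        simpa [B.two, B.hc] using h'
    have hdec : ∀ y, ∃ e : F, y = B.ip x y • v + B.ip v y • x + B.ip (B.b a) y • B.b a +
        (B.ip n y / B.ip n n) • n + e • m := fun y => by
      obtain ⟨e, he⟩ := hker (y - (B.ip x y • v + B.ip v y • x + B.ip (B.b a) y • B.b a +
          (B.ip n y / B.ip n n) • n)) (by
        rw [hL]
        simp only [B.ip_sub_right, B.ip_add_right, B.ip_smul_right, H.vv, H.xx, H.vx, H.vz, H.xz, H.zz, hvn, hxn,
          hzn, B.ip_comm x v, B.ip_comm (B.b a) v, B.ip_comm (B.b a) x, B.ip_comm n v, B.ip_comm n x,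
          B.ip_comm n (B.b a)]
        funext i
        fin_cases i <;> simp [div_mul_cancel₀ _ hnn])
      exact ⟨e, by rw [← he]; abel⟩
    have hmm : B.ip m m ≠ 0 := fun h => hm0 <| B.eq_zero_of_ip fun y => by
      obtain ⟨e, he⟩ := hdec y
      rw [he]
      simp only [B.ip_add_right, B.ip_smul_right, B.ip_comm m v, B.ip_comm m x, B.ip_comm m (B.b a), B.ip_comm m n,
        hm4.1, hm4.2.1, hm4.2.2.1, hm4.2.2.2, h]
      ring
    refine B.omega_le_of_four (o := o) hM hp h3 hn hmm fun y hy hyy => ?_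
    obtain ⟨e, he⟩ := hdec y
    have he0 : e = 0 := by
      rw [he] at hy
      simp only [B.ip_add_right, B.ip_smul_right, B.ip_comm m v, B.ip_comm m x, B.ip_comm m (B.b a), B.ip_comm m n,
        hm4.1, hm4.2.1, hm4.2.2.1, hm4.2.2.2, mul_zero, zero_add, mul_eq_zero] at hy
      exact hy.resolve_right hmm
    rw [he0, zero_smul, add_zero] at he
    rw [he] at hyy ⊢
    refine hU _ _ _ _ ?_
    simp only [B.ip_add_left, B.ip_add_right, B.ip_smul_left, B.ip_smul_right, H.vv, H.xx, H.vx, H.vz, H.xz, H.zz,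
      hvn, hxn, hzn, B.ip_comm x v, B.ip_comm (B.b a) v, B.ip_comm (B.b a) x, B.ip_comm n v, B.ip_comm n x,
      B.ip_comm n (B.b a)] at hyy
    linear_combination hyy
  -- the line lies in the plane of two frame vectors
  push Not at hc
  have hsum : ∑ i ∈ B.supp v, B.co v i * B.co v i = 0 := by
    rw [← B.ip_supp (Finset.Subset.refl _)]; exact hP.sing
  rw [← Finset.add_sum_erase _ _ hl, Finset.sum_congr rfl (fun i hi => show B.co v i * B.co v i =
      -(B.co v l * B.co v l) by
        obtain ⟨h1, h2⟩ := Finset.mem_erase.mp hi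
        linear_combination hc i h2 h1), Finset.sum_const, nsmul_eq_mul] at hsum
  set k := ((B.supp v).erase l).card with hk
  have hk3 : k ≤ 3 := by
    have : (B.supp v).erase l ⊆ ((Finset.univ : Finset κ).erase a).erase l := fun i hi => by
      obtain ⟨h1, h2⟩ := Finset.mem_erase.mp hi
      exact Finset.mem_erase.mpr ⟨h1, Finset.mem_erase.mpr ⟨fun h => B.mem_supp.mp h2 (h ▸ hva), Finset.mem_univ _⟩⟩
    have := Finset.card_le_card this
    rw [Finset.card_erase_of_mem (Finset.mem_erase.mpr ⟨hal.symm, Finset.mem_univ l⟩),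
      Finset.card_erase_of_mem (Finset.mem_univ a), Finset.card_univ, hn] at this
    exact this
  have hkk : ((k : F) - 1) = 0 := (mul_eq_zero.mp (show ((k : F) - 1) * (B.co v l * B.co v l) = 0 by
    linear_combination -hsum)).resolve_right (mul_ne_zero hvl hvl)
  have hk1 : k = 1 := by
    rcases (show k = 0 ∨ k = 1 ∨ k = 2 ∨ k = 3 by omega) with h | h | h | h <;> rw [h] at hkk <;>
      push_cast at hkk
    · exact absurd (show (1 : F) = 0 by linear_combination -hkk) one_ne_zero
    · exact h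
    · exact absurd (show (1 : F) = 0 by linear_combination hkk) one_ne_zero
    · exact absurd (show (2 : F) = 0 by linear_combination hkk) B.two
  obtain ⟨c, hce⟩ := Finset.card_eq_one.mp hk1
  obtain ⟨hcl, hcs⟩ := Finset.mem_erase.mp (show c ∈ (B.supp v).erase l by rw [hce]; simp)
  have hvc := B.mem_supp.mp hcs
  have hca : c ≠ a := fun h => hvc (h ▸ hva)
  have hsq : B.co v c * B.co v c = -(B.co v l * B.co v l) := by linear_combination hc c hcs hcl
  obtain ⟨d, e, hde, hd, he⟩ := exists_two_out (S := ({a, l, c} : Finset κ)) (by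
    have := Finset.card_le_three (a := a) (b := l) (c := c); omega)
  simp only [Finset.mem_insert, Finset.mem_singleton, not_or] at hd he
  have hsupp : ∀ i, i ≠ l → i ≠ c → B.co v i = 0 := fun i h1 h2 => B.notMem_supp.mp fun h => h2 (by
    have := Finset.mem_erase.mpr ⟨h1, h⟩
    rwa [hce, Finset.mem_singleton] at this)
  have hva' := B.rpair_zset hP
  have move : ∀ d' e', d' ≠ e' → d' ≠ a → e' ≠ a → d' ≠ l → d' ≠ c → e' ≠ l → e' ≠ c →
      B.b d' ∈ zset Q K v := by
    intro d' e' h1 h2 h3' h4 h5 h6 h7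
    have h := zset_ap hva' (B.sw_pair_in hM h2.symm h1)
    rwa [ap_mul, ap_mul, B.sw_fix h1 (hsupp _ h4 h5) (hsupp _ h6 h7),
      B.sw_fix h2.symm (hsupp a hal hca.symm) (hsupp _ h4 h5), B.sw_b h1, if_neg h2.symm, if_neg h3'.symm,
      B.sw_b h2.symm, if_pos rfl] at h
  have hbd := move d e hde hd.1 he.1 hd.2.1 hd.2.2 he.2.1 he.2.2
  have hbe := move e d hde.symm he.1 hd.1 he.2.1 he.2.2 hd.2.1 hd.2.2
  have hQv : Q v = 0 := by rw [B.q_ip, hP.sing, mul_zero]
  have hvC : v ∈ sCentres Q K := sCentres_of_zset hQv fun w hw => by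
    rw [B.polar_ip, mul_eq_zero, or_iff_right (mul_ne_zero B.two B.hc),
      B.ip_supp (T := {l, c}) (fun i hi => by
        by_contra hh
        simp only [Finset.mem_insert, Finset.mem_singleton, not_or] at hh
        exact B.mem_supp.mp hi (hsupp i hh.1 hh.2)), Finset.sum_pair hcl.symm] at hw
    have hcov : ∀ i, i = a ∨ i = l ∨ i = c ∨ i = d ∨ i = e := by
      have h5 : ({a, l, c, d, e} : Finset κ) = Finset.univ := by
        refine Finset.eq_univ_of_card _ ?_
        rw [hn, Finset.card_insert_of_notMem (by simp [hal, hca.symm, Ne.symm hd.1, Ne.symm he.1]),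
          Finset.card_insert_of_notMem (by simp [hcl.symm, Ne.symm hd.2.1, Ne.symm he.2.1]),
          Finset.card_insert_of_notMem (by simp [Ne.symm hd.2.2, Ne.symm he.2.2]), Finset.card_pair hde]
      intro i
      have := Finset.mem_univ i
      rw [← h5] at this
      simpa using this
    have key : w = (B.co w l / B.co v l) • v + B.co w a • B.b a + B.co w d • B.b d + B.co w e • B.b e := by
      refine B.ext_co fun i => ?_
      simp only [B.co_add, B.co_smul, B.co_b]
      rcases hcov i with rfl | rfl | rfl | rfl | rfl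
      · simp [hva, hd.1, he.1]
      · simp [hal, hd.2.1, he.2.1]; field_simp
      · simp only [hca.symm, hd.2.2, he.2.2, if_false, mul_zero, add_zero]
        have : (B.co w i * B.co v l - B.co w l * B.co v i) * B.co v i = 0 := by
          linear_combination B.co v l * hw - B.co w l * hsq
        rw [div_mul_eq_mul_div, eq_div_iff hvl]
        linear_combination (mul_eq_zero.mp this).resolve_right hvc
      · simp [hsupp _ hd.2.1 hd.2.2, Ne.symm hd.1, hde.symm]
      · simp [hsupp _ he.2.1 he.2.2, Ne.symm he.1, hde]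
    rw [key]
    exact (zset Q K v).add_mem ((zset Q K v).add_mem ((zset Q K v).add_mem
      ((zset Q K v).smul_mem _ (B.zset_self hP.sing)) ((zset Q K v).smul_mem _ hva'))
      ((zset Q K v).smul_mem _ hbd)) ((zset Q K v).smul_mem _ hbe)
  refine B.omega_le_of_pair hvC (centre_ap hvC (B.d_in hM c a)) ?_ (by omega)
  have e1 : ap (B.d c a) v = v - (2 * B.co v c) • B.b c := B.ext_co fun i => by
    rw [B.co_d hca, B.co_sub, B.co_smul, B.co_b]
    by_cases h1 : i = c
    · subst h1; simp; ring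
    by_cases h2 : i = a
    · subst h2; simp [hva, hca]
    simp [h1, h2, Ne.symm h1]
  rw [e1, B.polar_ip, B.ip_sub_right, B.ip_smul_right, hP.sing, B.ip_b_right, zero_sub]
  exact mul_ne_zero (mul_ne_zero B.two B.hc) (neg_ne_zero.mpr (mul_ne_zero (mul_ne_zero B.two hvc) hvc))

include hM in
/-- Characteristic three: a seed gives all unit vectors, and they give two centres. -/
theorem omega_le_three (h30 : (3 : F) = 0) (hp : (Fintype.card F).Prime) (hn : Fintype.card κ = 5) {u : ι → F}
    (hu : u ∈ B.Rs K o) (hs : 3 ≤ (B.supp u).card) : Cfsg.Omega F (⇑Q) ≤ K := by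
  classical
  have hκ := B.frame_card
  have hsq : ∀ {x : ι → F} {i}, i ∈ B.supp x → B.co x i * B.co x i = 1 := fun hi =>
    sq_one_of_three hp h30 (B.mem_supp.mp hi)
  have hcard : ∀ x, B.ip x x = 1 → (B.supp x).card = 1 ∨ (B.supp x).card = 4 := fun x hx => by
    rw [B.ip_supp (Finset.Subset.refl _), Finset.sum_congr rfl (fun i hi => hsq hi), Finset.sum_const,
      nsmul_eq_mul, mul_one] at hx
    have h5 : (B.supp x).card ≤ 5 := hn ▸ Finset.card_le_univ _
    rcases (show (B.supp x).card = 0 ∨ (B.supp x).card = 1 ∨ (B.supp x).card = 2 ∨ (B.supp x).card = 3 ∨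
      (B.supp x).card = 4 ∨ (B.supp x).card = 5 by omega) with h | h | h | h | h | h <;> rw [h] at hx <;>
      push_cast at hx
    · exact absurd hx zero_ne_one
    · exact Or.inl h
    · exact absurd (show (1 : F) = 0 by linear_combination hx) one_ne_zero
    · exact absurd (show (2 : F) = 0 by linear_combination hx) B.two
    · exact Or.inr h
    · exact absurd (show (1 : F) = 0 by linear_combination hx - h30) one_ne_zero
  have hu4 : (B.supp u).card = 4 := by rcases hcard u (B.rs_unit hu) with h | h <;> omega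
  have hall : ∀ x, B.ip x x = 1 → x ∈ B.Rs K o := by
    intro x hx
    rcases hcard x hx with h1 | h4
    · obtain ⟨l, hl⟩ := Finset.card_eq_one.mp h1
      exact B.rs_line hM hx hl.subset
    obtain ⟨w, hw, hws⟩ : ∃ w ∈ B.Rs K o, B.supp w = B.supp x := by
      by_cases h : B.supp u = B.supp x
      · exact ⟨u, hu, h⟩
      obtain ⟨d, hd⟩ := Finset.card_eq_one.mp (show (B.supp u)ᶜ.card = 1 by rw [Finset.card_compl, hu4, hn])
      obtain ⟨d', hd'⟩ := Finset.card_eq_one.mp (show (B.supp x)ᶜ.card = 1 by rw [Finset.card_compl, h4, hn])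
      have hdd : d ≠ d' := fun h' => h (compl_injective (by rw [hd, hd', h']))
      obtain ⟨e, f, hef, he, hf⟩ := exists_two_out (S := ({d, d'} : Finset κ)) (by
        have := Finset.card_le_two (a := d) (b := d'); omega)
      simp only [Finset.mem_insert, Finset.mem_singleton, not_or] at he hf
      refine ⟨_, B.rs_sw2 hM hu hdd hef, ?_⟩
      have hu' : ∀ i, B.co u i ≠ 0 ↔ i ≠ d := fun i => by
        rw [← B.mem_supp, ← Finset.notMem_compl, hd, Finset.mem_singleton]
      have hx' : ∀ i, B.co x i ≠ 0 ↔ i ≠ d' := fun i => by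
        rw [← B.mem_supp, ← Finset.notMem_compl, hd', Finset.mem_singleton]
      ext i
      rw [B.mem_supp, B.mem_supp, B.co_sw hdd, B.co_sw hef, hu', hx']
      refine not_congr ⟨fun h' => ?_, fun h' => ?_⟩
      · have := congrArg (Equiv.swap e f) h'
        rw [Equiv.swap_apply_self, Equiv.swap_apply_of_ne_of_ne (Ne.symm he.1) (Ne.symm hf.1)] at this
        have := congrArg (Equiv.swap d d') this
        rwa [Equiv.swap_apply_self, Equiv.swap_apply_left] at this
      · rw [h', Equiv.swap_apply_right, Equiv.swap_apply_of_ne_of_ne (Ne.symm he.1) (Ne.symm hf.1)]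
    obtain ⟨y, hy, hyco⟩ := B.flip_set hM hw (Finset.univ.filter fun i => B.co w i ≠ B.co x i)
    convert hy using 1
    refine B.ext_co fun i => ?_
    rw [hyco]
    simp only [Finset.mem_filter, Finset.mem_univ, true_and]
    by_cases hix : i ∈ B.supp x
    · have h1 := hsq hix
      have h2 := hsq (show i ∈ B.supp w by rw [hws]; exact hix)
      rcases mul_self_eq_mul_self_iff.mp (h2.trans h1.symm) with h' | h'
      · simp [h']
      · split_ifs with h''
        · rw [h', neg_neg]
        · exact (not_not.mp h'').symm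
    · have h1 := B.notMem_supp.mp hix
      have h2 := B.notMem_supp.mp (show i ∉ B.supp w by rw [hws]; exact hix)
      simp [h1, h2]
  obtain ⟨i, j, k, d, e, hij, hik, hid, hie, hjk, hjd, hje, hkd, hke, hde, huniv⟩ : ∃ i j k d e : κ, i ≠ j ∧
      i ≠ k ∧ i ≠ d ∧ i ≠ e ∧ j ≠ k ∧ j ≠ d ∧ j ≠ e ∧ k ≠ d ∧ k ≠ e ∧ d ≠ e ∧
      ∀ m, m = i ∨ m = j ∨ m = k ∨ m = d ∨ m = e := by
    let φ := Fintype.equivFinOfCardEq hn
    refine ⟨φ.symm 0, φ.symm 1, φ.symm 2, φ.symm 3, φ.symm 4, ?_, ?_, ?_, ?_, ?_, ?_, ?_, ?_, ?_, ?_, fun m => ?_⟩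
    · exact φ.symm.injective.ne (by decide)
    · exact φ.symm.injective.ne (by decide)
    · exact φ.symm.injective.ne (by decide)
    · exact φ.symm.injective.ne (by decide)
    · exact φ.symm.injective.ne (by decide)
    · exact φ.symm.injective.ne (by decide)
    · exact φ.symm.injective.ne (by decide)
    · exact φ.symm.injective.ne (by decide)
    · exact φ.symm.injective.ne (by decide)
    · exact φ.symm.injective.ne (by decide)
    · obtain ⟨n, rfl⟩ := φ.symm.surjective m
      fin_cases n <;> simp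
  set v := B.b i + B.b j + B.b k with hv
  have hvv : B.ip v v = 0 := by
    rw [hv]
    simp only [B.ip_add_left, B.ip_add_right, B.ip_bb, hij, hik, hjk, hij.symm, hik.symm, hjk.symm, if_false,
      if_true, ↓reduceIte]
    linear_combination h30
  have hQv : Q v = 0 := by rw [B.q_ip, hvv, mul_zero]
  have hz : ∀ x, B.ip x x = 1 → B.ip v x = 0 → x ∈ zset Q K v := fun x hxx hvx =>
    B.rpair_zset (B.rpair_of hp hvv hvx (hall x hxx) (hall _ (by
      simp only [B.ip_add_left, B.ip_add_right, hxx, hvv, hvx, B.ip_comm x v]; ring)))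
  have hvco : ∀ m, B.co v m = (if i = m then 1 else 0) + (if j = m then 1 else 0) + (if k = m then 1 else 0) :=
    fun m => by rw [hv, B.co_add, B.co_add, B.co_b, B.co_b, B.co_b]
  have hbd : B.b d ∈ zset Q K v := hz _ (B.ip_b_self d) (by
    rw [B.ip_b_right, hvco]; simp [hid, hjd, hkd])
  have hbe : B.b e ∈ zset Q K v := hz _ (B.ip_b_self e) (by
    rw [B.ip_b_right, hvco]; simp [hie, hje, hke])
  have hdiff : ∀ p q, p ≠ q → p ≠ d → p ≠ e → q ≠ d → q ≠ e → B.co v p = 1 → B.co v q = 1 →
      B.b p - B.b q ∈ zset Q K v := by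
    intro p q hpq h1 h2 h3' h4 hp1 hq1
    have h := hz (B.b p - B.b q + B.b d + B.b e) ?_ ?_
    · have := (zset Q K v).sub_mem ((zset Q K v).sub_mem h hbe) hbd
      convert this using 1
      abel
    · simp only [B.ip_add_left, B.ip_add_right, B.ip_sub_left, B.ip_sub_right, B.ip_bb, hpq, hpq.symm, h1, h2, h3',
        h4, h1.symm, h2.symm, h3'.symm, h4.symm, hde, hde.symm, if_false, if_true, ↓reduceIte]
      linear_combination h30
    · rw [B.ip_add_right, B.ip_add_right, B.ip_sub_right, B.ip_b_right, B.ip_b_right, B.ip_b_right, B.ip_b_right,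
        hp1, hq1, hvco d, hvco e]
      simp [hid, hjd, hkd, hie, hje, hke]
  have hvC : v ∈ sCentres Q K := sCentres_of_zset hQv fun w hw => by
    rw [B.polar_ip, mul_eq_zero, or_iff_right (mul_ne_zero B.two B.hc), hv, B.ip_add_left, B.ip_add_left,
      B.ip_b_left, B.ip_b_left, B.ip_b_left] at hw
    have key : w = B.co w i • (B.b i - B.b j) + (B.co w i + B.co w j) • (B.b j - B.b k) + B.co w d • B.b d +
        B.co w e • B.b e := by
      refine B.ext_co fun m => ?_
      simp only [B.co_add, B.co_smul, B.co_sub, B.co_b]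
      rcases huniv m with rfl | rfl | rfl | rfl | rfl
      · simp [hij.symm, hik.symm, hid.symm, hie.symm]
      · simp [hij, hjk.symm, hjd.symm, hje.symm]
      · simp [hik, hjk, hkd.symm, hke.symm]; linear_combination hw
      · simp [hid, hjd, hkd, hde.symm]
      · simp [hie, hje, hke, hde]
    rw [key]
    refine (zset Q K v).add_mem ((zset Q K v).add_mem ((zset Q K v).add_mem ((zset Q K v).smul_mem _ ?_)
      ((zset Q K v).smul_mem _ ?_)) ((zset Q K v).smul_mem _ hbd)) ((zset Q K v).smul_mem _ hbe)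
    · exact hdiff i j hij hid hie hjd hje (by simp [hvco, hij.symm, hik.symm]) (by simp [hvco, hij, hjk.symm])
    · exact hdiff j k hjk hjd hje hkd hke (by simp [hvco, hij, hjk.symm]) (by simp [hvco, hik, hjk])
  refine B.omega_le_of_pair hvC (centre_ap hvC (B.d_in hM k d)) ?_ (by omega)
  have e1 : ap (B.d k d) v = v - (2 : F) • B.b k := B.ext_co fun m => by
    rw [B.co_d hkd, B.co_sub, B.co_smul, B.co_b, hvco]
    rcases huniv m with rfl | rfl | rfl | rfl | rfl
    · simp [hik, hid, hij.symm, hik.symm]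
    · simp [hjk, hjd, hij, hjk.symm]
    · simp [hik, hjk]; ring
    · simp [hid, hjd, hkd]
    · simp [hie, hje, hke, hke.symm, hde.symm]
  rw [e1, B.polar_ip, B.ip_sub_right, B.ip_smul_right, hvv, B.ip_b_right, hvco, if_neg hik, if_neg hjk, if_pos rfl]
  refine mul_ne_zero (mul_ne_zero B.two B.hc) ?_
  simpa using B.two

include hM in
/-- In dimension five an overgroup with an element outside the monomial group is all of `Ω`. -/
theorem omega_le_five (hp : (Fintype.card F).Prime) (hn : Fintype.card κ = 5)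
    {g : Cfsg.isometryGroup F (⇑Q)} (hg : g ∈ K) (hgm : ¬ B.Mono g) : Cfsg.Omega F (⇑Q) ≤ K := by
  obtain ⟨o⟩ : Nonempty κ := Fintype.card_pos_iff.mp (by omega)
  by_cases h3 : (3 : F) = 0
  · obtain ⟨u, hu, hs⟩ := B.seed_five (o := o) hM (by rw [hn]; decide) (by omega) hg hgm
    exact B.omega_le_three hM h3 hp hn hu hs
  · obtain ⟨a, v, hv0, hva, hP⟩ := B.rpair_five (o := o) hM hp h3 hn hg hgm
    exact B.omega_le_of_line hM hp h3 hn hv0 hva hP

end OFrame

variable {F : Type u} [Field F] [Fintype F] [DecidableEq F] {ι : Type} [Fintype ι] [DecidableEq ι]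

/-- The stabiliser of an orthogonal frame of five points is maximal in `Ω` over a prime field. -/
theorem frame_maximal_five {Q : QuadraticForm F (ι → F)} (h2 : (2 : F) ≠ 0)
    (hp : (Fintype.card F).Prime) (hn : Fintype.card ι = 5) {t : ℕ} {D : Fin t → Submodule F (ι → F)}
    (hD : Cfsg.Geo.IsOrthogonalMDecomposition (⇑Q) 1 D) :
    Cfsg.Geo.IsMaximalIn (Cfsg.Geo.omegaGL (⇑Q)) (Cfsg.Geo.decompositionStabilizer D ⊓ Cfsg.Geo.omegaGL (⇑Q)) := by
  classical
  obtain ⟨B, hB⟩ := exists_frame h2 hD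
  have ht : Fintype.card (Fin t) = 5 := by
    rw [← Module.finrank_eq_card_basis B.b, Module.finrank_fintype_fun_eq_card, hn]
  have hiff : ∀ g : Cfsg.isometryGroup F (⇑Q),
      (g : GL ι F) ∈ Cfsg.Geo.decompositionStabilizer D ↔ B.Mono g := by
    intro g
    constructor
    · rintro ⟨σ, hσ⟩ i
      have h : ap g (B.b i) ∈ D (σ i) := by
        rw [← hσ i]; exact Submodule.mem_map_of_mem (by rw [hB]; exact Submodule.mem_span_singleton_self _)
      rw [hB, Submodule.mem_span_singleton] at h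
      obtain ⟨s, hs⟩ := h
      rw [← hs]
      exact le_trans (Finset.card_le_card (B.supp_smul_subset _ _)) (by rw [B.supp_b, Finset.card_singleton])
    · intro h
      obtain ⟨π, l, hl⟩ := B.mono_iff.mp h
      refine ⟨π, fun i => ?_⟩
      rw [hB, hB, Submodule.map_span, Set.image_singleton,
        show Matrix.toLin' ((g : GL ι F) : Matrix ι ι F) (B.b i) = l i • B.b (π i) from (hl i).1]
      exact Submodule.span_singleton_smul_eq (hl i).2.isUnit _
  refine ⟨lt_of_le_of_ne inf_le_right fun heq => ?_, fun M hHM hMO => ?_⟩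
  · obtain ⟨x, y, hxy⟩ := binary_universal h2 (one_ne_zero (α := F)) (one_ne_zero (α := F)) (-1)
    obtain ⟨p, q, r, s, hpq, hpr, hps, hqr, hqs, hrs⟩ : ∃ p q r s : Fin t, p ≠ q ∧ p ≠ r ∧ p ≠ s ∧ q ≠ r ∧ q ≠ s ∧
        r ≠ s := by
      rw [Fintype.card_fin] at ht
      exact ⟨⟨0, by omega⟩, ⟨1, by omega⟩, ⟨2, by omega⟩, ⟨3, by omega⟩, by simp, by simp, by simp, by simp,
        by simp, by simp⟩
    set v := x • B.b p + y • B.b q + B.b r with hv
    have hQv : Q v = 0 := by
      rw [B.q_ip, hv]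
      simp only [OFrame.ip_add_left, OFrame.ip_add_right, OFrame.ip_smul_left, OFrame.ip_smul_right, OFrame.ip_bb,
        hpq, hpr, hqr, hpq.symm, hpr.symm, hqr.symm, if_false, if_true, ↓reduceIte]
      linear_combination B.c * hxy
    have hvs : B.co v s = 0 := by
      simp [hv, OFrame.co_add, OFrame.co_smul, OFrame.co_b, hps, hqs, hrs]
    have hvz : QuadraticMap.polar (⇑Q) v (B.b s) = 0 := by rw [B.polar_ip, B.ip_b_right, hvs, mul_zero]
    have hS : (siegelG Q hQv hvz : GL ι F) ∈ Cfsg.Geo.decompositionStabilizer D ⊓ Cfsg.Geo.omegaGL (⇑Q) :=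
      heq.symm ▸ (mem_omegaGL Q _).mpr ⟨_, siegelG_mem_omega Q B.nondeg (by omega) hQv hvz, rfl⟩
    have hm := (hiff _).mp hS.1 s
    rw [B.ap_siegelG, B.ip_b_right, hvs, B.ip_b_self] at hm
    have h2s : ({r, s} : Finset (Fin t)) ⊆ B.supp (B.b s + (2 * B.c * 0) • B.b s +
        (-(2 * B.c * 1) - B.c * 1 * (2 * B.c * 0)) • v) := by
      intro l hl
      simp only [Finset.mem_insert, Finset.mem_singleton] at hl
      rw [B.mem_supp]
      simp only [OFrame.co_add, OFrame.co_smul, OFrame.co_b]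
      rcases hl with rfl | rfl
      · simp [hv, OFrame.co_add, OFrame.co_smul, OFrame.co_b, hrs.symm, hpr, hqr, h2, B.hc]
      · simp [hvs]
    have := (Finset.card_le_card h2s).trans hm
    rw [Finset.card_pair hrs] at this
    omega
  · by_cases hM : M ≤ Cfsg.Geo.decompositionStabilizer D
    · exact Or.inl (le_antisymm (le_inf hM hMO) hHM)
    right
    obtain ⟨g, hgM, hgW⟩ := SetLike.not_le_iff_exists.mp hM
    obtain ⟨g₀, hg₀, rfl⟩ := (mem_omegaGL Q g).mp (hMO hgM)
    have h := B.omega_le_five (K := M.comap (Cfsg.isometryGroup F (⇑Q)).subtype ⊓ Cfsg.Omega F (⇑Q))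
      (fun x hx hxW => Subgroup.mem_inf.mpr ⟨hHM ⟨(hiff x).mpr hxW, (mem_omegaGL Q _).mpr ⟨x, hx, rfl⟩⟩, hx⟩)
      hp ht (g := g₀) (Subgroup.mem_inf.mpr ⟨hgM, hg₀⟩) (fun hb => hgW ((hiff g₀).mpr hb))
    refine le_antisymm hMO fun x hx => ?_
    obtain ⟨y, hy, rfl⟩ := (mem_omegaGL Q x).mp hx
    exact (h hy).1


end Cfsg.Lib.Classical.OFr
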