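import Mathlib
import Cfsg.Agent.Classical.Orth.Frame.Five
import Cfsg.Agent.Classical.Orth.LowRankIso

set_option autoImplicit false
set_option linter.unusedVariables false
set_option linter.unusedSimpArgs false
set_option linter.unusedSectionVars false
set_option linter.style.haveILetI false
set_option linter.flexible false

/-!
Six dimensions: an element of an overgroup that fixes a frame vector and is not monomial gives all of `Ω`, by the
result in dimension five on the orthogonal of that vector.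
-/

namespace Cfsg.Lib.Classical.OFr

open Matrix Cfsg.Lib.Classical.Refl

universe u w

namespace OFrame

variable {F : Type u} [Field F] [Fintype F] [DecidableEq F] {ι : Type} [Fintype ι] [DecidableEq ι]
  {Q : QuadraticForm F (ι → F)} {κ : Type w} [Fintype κ] [DecidableEq κ] (B : OFrame Q κ)
  {K : Subgroup (Cfsg.isometryGroup F (⇑Q))}
  (hM : ∀ g ∈ Cfsg.Omega F (⇑Q), B.Mono g → g ∈ K)

/-- The inclusion of the coordinates `ω`. -/
noncomputable def incl (ω : Fin 5 → κ) : (Fin 5 → F) →ₗ[F] (ι → F) :=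
  (Pi.basisFun F (Fin 5)).constr F fun i => B.b (ω i)

/-- The coordinates along `ω`. -/
noncomputable def proj (ω : Fin 5 → κ) : (ι → F) →ₗ[F] (Fin 5 → F) where
  toFun x i := B.co x (ω i)
  map_add' x y := funext fun i => B.co_add x y (ω i)
  map_smul' a x := funext fun i => B.co_smul a x (ω i)

theorem incl_apply (ω : Fin 5 → κ) (y : Fin 5 → F) : B.incl ω y = ∑ i, y i • B.b (ω i) := by
  simp [incl, Module.Basis.constr_apply_fintype]

theorem co_incl {ω : Fin 5 → κ} (hω : Function.Injective ω) (y : Fin 5 → F) (i : Fin 5) :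
    B.co (B.incl ω y) (ω i) = y i := by
  simp [incl_apply, co_sum, co_smul, co_b, hω.eq_iff]

theorem co_incl_out {ω : Fin 5 → κ} {l : κ} (hl : ∀ i, ω i ≠ l) (y : Fin 5 → F) :
    B.co (B.incl ω y) l = 0 := by
  simp [incl_apply, co_sum, co_smul, co_b, hl]

theorem proj_incl {ω : Fin 5 → κ} (hω : Function.Injective ω) (y : Fin 5 → F) : B.proj ω (B.incl ω y) = y :=
  funext fun i => B.co_incl hω y i

theorem split_at {ω : Fin 5 → κ} (hω : Function.Injective ω) {o : κ} (ho : ∀ i, ω i ≠ o)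
    (hcov : ∀ l, l = o ∨ ∃ i, ω i = l) (x : ι → F) : B.co x o • B.b o + B.incl ω (B.proj ω x) = x := by
  refine B.ext_co fun l => ?_
  rw [co_add, co_smul, co_b]
  rcases hcov l with rfl | ⟨i, rfl⟩
  · rw [if_pos rfl, B.co_incl_out ho]; ring
  · rw [if_neg (Ne.symm (ho i)), B.co_incl hω]
    show B.co x o * 0 + B.co x (ω i) = _
    ring

theorem polar_o_incl {ω : Fin 5 → κ} {o : κ} (ho : ∀ i, ω i ≠ o) (y : Fin 5 → F) :
    QuadraticMap.polar (⇑Q) (B.b o) (B.incl ω y) = 0 := by
  rw [B.polar_ip, B.ip_b_left, B.co_incl_out ho, mul_zero]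

theorem q_split {ω : Fin 5 → κ} {o : κ} (ho : ∀ i, ω i ≠ o) (a : F) (y : Fin 5 → F) :
    Q (a • B.b o + B.incl ω y) = Q (a • B.b o) + Q (B.incl ω y) := by
  rw [QuadraticMap.map_add (f := Q), QuadraticMap.polar_smul_left, B.polar_o_incl ho, smul_zero, add_zero]

/-- The frame on the five coordinates `ω`. -/
noncomputable def five (ω : Fin 5 → κ) (hω : Function.Injective ω) : OFrame (Q.comp (B.incl ω)) (Fin 5) where
  b := Pi.basisFun F (Fin 5)
  c := B.c
  two := B.two
  hc := B.hc
  hb i j := by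
    have e : ∀ x y : Fin 5 → F, QuadraticMap.polar (⇑(Q.comp (B.incl ω))) x y =
        QuadraticMap.polar (⇑Q) (B.incl ω x) (B.incl ω y) := fun x y => by
      simp [QuadraticMap.polar]
    rw [e, incl, Module.Basis.constr_basis, Module.Basis.constr_basis, B.hb]
    simp [hω.eq_iff]

include hM in
/-- An element fixing a frame vector, outside the monomial group, gives all of `Ω`. -/
theorem omega_le_of_fix (hp : (Fintype.card F).Prime) (hn : Fintype.card κ = 6) {o : κ}
    {g : Cfsg.isometryGroup F (⇑Q)} (hg : g ∈ K) (hfix : ap g (B.b o) = B.b o) (hgm : ¬ B.Mono g) :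
    Cfsg.Omega F (⇑Q) ≤ K := by
  classical
  let e : Fin 5 ≃ {l : κ // l ≠ o} := (Fintype.equivFinOfCardEq (by
    rw [Fintype.card_subtype_compl, Fintype.card_subtype_eq, hn])).symm
  set ω : Fin 5 → κ := fun i => (e i).1 with hωdef
  have hω : Function.Injective ω := fun i j h => e.injective (Subtype.ext h)
  have ho : ∀ i, ω i ≠ o := fun i => (e i).2
  have hcov : ∀ l, l = o ∨ ∃ i, ω i = l := fun l => by
    by_cases h : l = o
    · exact Or.inl h
    · exact Or.inr ⟨e.symm ⟨l, h⟩, by simp [hωdef]⟩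
  set L := B.incl ω with hL
  set P := B.proj ω with hP
  set Q' := Q.comp L with hQ'
  set B' := B.five ω hω with hB'
  have hPL : ∀ y, P (L y) = y := B.proj_incl hω
  have hsp : ∀ x, B.co x o • B.b o + L (P x) = x := B.split_at hω ho hcov
  have hLo : ∀ y, B.co (L y) o = 0 := B.co_incl_out ho
  have hco' : ∀ (y : Fin 5 → F) i, B'.co y i = y i := fun y i => by
    simp [OFrame.co, hB', five]
  have hQ'ap : ∀ y, Q' y = Q (L y) := fun y => rfl
  have hip : ∀ x y, B'.ip x y = B.ip (L x) (L y) := fun x y => by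
    have h := B'.polar_ip x y
    rw [show QuadraticMap.polar (⇑Q') x y = QuadraticMap.polar (⇑Q) (L x) (L y) by
      simp [QuadraticMap.polar, hQ'], B.polar_ip] at h
    exact mul_left_cancel₀ (mul_ne_zero B.two B.hc) h.symm
  -- the extension
  let E : Cfsg.isometryGroup F (⇑Q') → (ι → F) →ₗ[F] (ι → F) := fun g' =>
    { toFun := fun x => B.co x o • B.b o + L (ap g' (P x))
      map_add' := fun x y => by simp only [B.co_add, map_add, add_smul]; abel
      map_smul' := fun a x => by
        simp only [B.co_smul, map_smul, RingHom.id_apply, smul_add, mul_smul] }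
  have hEap : ∀ g' x, E g' x = B.co x o • B.b o + L (ap g' (P x)) := fun g' x => rfl
  have hEo : ∀ g' x, B.co (E g' x) o = B.co x o := fun g' x => by
    rw [hEap, B.co_add, B.co_smul, B.co_b, if_pos rfl, hLo]; ring
  have hEP : ∀ g' x, P (E g' x) = ap g' (P x) := fun g' x => by
    rw [hEap, map_add, map_smul, hPL]
    have : P (B.b o) = 0 := funext fun i => by
      show B.co (B.b o) (ω i) = 0
      rw [B.co_b, if_neg (Ne.symm (ho i))]
    rw [this, smul_zero, zero_add]
  have hE1 : E 1 = LinearMap.id := LinearMap.ext fun x => by rw [hEap, ap_one, hsp, LinearMap.id_apply]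
  have hEmul : ∀ a b, E (a * b) = (E a).comp (E b) := fun a b => LinearMap.ext fun x => by
    rw [LinearMap.comp_apply, hEap a (E b x), hEo, hEP, hEap, ap_mul]
  have hEQ : ∀ g' x, Q (E g' x) = Q x := fun g' x => by
    have hQg : Q' (ap g' (P x)) = Q' (P x) := by rw [ap_apply]; exact (mem_iff Q').mp g'.2 _
    rw [hQ'ap, hQ'ap] at hQg
    conv_rhs => rw [← hsp x]
    rw [hEap, hL, B.q_split ho, B.q_split ho, ← hL, hQg]
  let Φ := LowRank.repHom (⇑Q) E hE1 hEmul hEQ
  have hΦ : ∀ g' x, ap (Φ g') x = E g' x := fun g' x => by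
    rw [ap_apply]
    exact LinearMap.toMatrix'_mulVec (E g') x
  have hΦo : ∀ g', ap (Φ g') (B.b o) = B.b o := fun g' => by
    rw [hΦ, hEap]
    have : P (B.b o) = 0 := funext fun i => by
      show B.co (B.b o) (ω i) = 0
      rw [B.co_b, if_neg (Ne.symm (ho i))]
    rw [this, map_zero, map_zero, add_zero, B.co_b, if_pos rfl, one_smul]
  have hΦL : ∀ g' y, ap (Φ g') (L y) = L (ap g' y) := fun g' y => by
    rw [hΦ, hEap, hLo, zero_smul, zero_add, hPL]
  have hΦΩ : ∀ g' ∈ Cfsg.Omega F (⇑Q'), Φ g' ∈ Cfsg.Omega F (⇑Q) := fun g' hg' => by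
    have h : (commutator (Cfsg.isometryGroup F (⇑Q'))).map Φ ≤ commutator (Cfsg.isometryGroup F (⇑Q)) := by
      rw [commutator_def, commutator_def, Subgroup.map_commutator]
      exact Subgroup.commutator_mono le_top le_top
    exact h ⟨g', hg', rfl⟩
  have hsupp : ∀ y, (B.supp (L y)).card = (B'.supp y).card := fun y => by
    rw [show B.supp (L y) = (B'.supp y).image ω by
      ext l
      rw [B.mem_supp, Finset.mem_image]
      constructor
      · intro h
        rcases hcov l with rfl | ⟨i, rfl⟩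
        · exact absurd (hLo y) h
        · exact ⟨i, B'.mem_supp.mpr (by rwa [hco', ← B.co_incl hω y i]), rfl⟩
      · rintro ⟨i, hi, rfl⟩
        rw [hL, B.co_incl hω]
        rw [B'.mem_supp, hco'] at hi
        exact hi, Finset.card_image_of_injective _ hω]
  have hLb : ∀ i, L (B'.b i) = B.b (ω i) := fun i => Module.Basis.constr_basis _ _ _ _
  have hM' : ∀ g' ∈ Cfsg.Omega F (⇑Q'), B'.Mono g' → g' ∈ K.comap Φ := fun g' hg' hm => by
    refine hM _ (hΦΩ g' hg') fun l => ?_
    rcases hcov l with rfl | ⟨i, rfl⟩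
    · rw [hΦo, B.supp_b, Finset.card_singleton]
    · rw [← hLb, hΦL, hsupp]; exact hm i
  -- the element on the orthogonal of the fixed vector
  let S : Subgroup (Cfsg.isometryGroup F (⇑Q)) :=
    { carrier := {a | ap a (B.b o) = B.b o}
      mul_mem' := fun {a b} ha hb => by
        show ap (a * b) (B.b o) = B.b o
        rw [ap_mul, show ap b (B.b o) = B.b o from hb]; exact ha
      one_mem' := ap_one _
      inv_mem' := fun {a} ha => by
        show ap a⁻¹ (B.b o) = B.b o
        conv_lhs => rw [← show ap a (B.b o) = B.b o from ha, ap_inv_ap] }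
  have hS : ∀ (a : S) x, B.co (ap a.1 x) o = B.co x o := fun a x => by
    rw [← B.ip_b_right, ← show ap a.1 (B.b o) = B.b o from a.2, B.ip_ap, B.ip_b_right]
  have hLP : ∀ (a : S) y, L (P (ap a.1 (L y))) = ap a.1 (L y) := fun a y => by
    conv_rhs => rw [← hsp (ap a.1 (L y))]
    rw [hS, hLo, zero_smul, zero_add]
  let R : S → (Fin 5 → F) →ₗ[F] (Fin 5 → F) := fun a => (P.comp (ap a.1)).comp L
  have hR1 : R 1 = LinearMap.id := LinearMap.ext fun y => by
    show P (ap (1 : Cfsg.isometryGroup F (⇑Q)) (L y)) = y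
    rw [ap_one, hPL]
  have hRmul : ∀ a b, R (a * b) = (R a).comp (R b) := fun a b => LinearMap.ext fun y => by
    show P (ap (a.1 * b.1) (L y)) = P (ap a.1 (L (P (ap b.1 (L y)))))
    rw [hLP, ap_mul]
  have hRQ : ∀ a y, Q' (R a y) = Q' y := fun a y => by
    show Q (L (P (ap a.1 (L y)))) = Q (L y)
    rw [hLP, ap_apply]
    exact (mem_iff Q).mp a.1.2 _
  let Ψ := LowRank.repHom (⇑Q') R hR1 hRmul hRQ
  set g' := Ψ ⟨g, hfix⟩ with hg'def
  have hΨ : ∀ y, ap g' y = P (ap g (L y)) := fun y => by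
    rw [ap_apply]
    exact LinearMap.toMatrix'_mulVec (R ⟨g, hfix⟩) y
  have hΦΨ : Φ g' = g := ap_ext fun x => by
    rw [hΦ, hEap, hΨ, hLP ⟨g, hfix⟩]
    conv_rhs => rw [← hsp x, map_add, map_smul, hfix]
  have hgK : g' ∈ K.comap Φ := by rw [Subgroup.mem_comap, hΦΨ]; exact hg
  have hg'm : ¬ B'.Mono g' := fun hm => hgm fun l => by
    rcases hcov l with rfl | ⟨i, rfl⟩
    · rw [hfix, B.supp_b, Finset.card_singleton]
    · rw [← hLb, ← hΦΨ, hΦL, hsupp]; exact hm i
  have hΩ' := B'.omega_le_five hM' hp (Fintype.card_fin 5) hgK hg'm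
  -- two centres
  obtain ⟨x, y, hxy⟩ := binary_universal B.two (one_ne_zero (α := F)) (one_ne_zero (α := F)) (-1)
  set v : Fin 5 → F := ![x, y, 1, 0, 0] with hv
  have hQv' : Q' v = 0 := by
    rw [B'.q_ip, B'.ip_supp (T := Finset.univ) (Finset.subset_univ _), Fin.sum_univ_five]
    simp only [hco', hv]
    simp
    exact Or.inr (by linear_combination hxy)
  have hQv : Q (L v) = 0 := hQv'
  have hvz : ∀ z', QuadraticMap.polar (⇑Q) (L v) (L z') = 0 → L z' ∈ zset Q K (L v) := fun z' hz => by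
    refine ⟨hz, fun hu a ha => ?_⟩
    have ha' : QuadraticMap.polar (⇑Q') v (a • z') = 0 := by
      rw [B'.polar_ip, hip, map_smul]
      rwa [B.polar_ip] at ha
    have hK : Φ (siegelG Q' hQv' ha') ∈ K :=
      hΩ' (siegelG_mem_omega Q' B'.nondeg (by simp) hQv' ha')
    convert hK using 1
    refine ap_ext fun X => ?_
    rw [hΦ, hEap, B'.ap_siegelG, B.ap_siegelG]
    rw [show B'.c = B.c from rfl, hip, hip, hip, map_add, map_add, map_smul, map_smul, map_smul]
    have e1 : ∀ w, B.ip (L w) (L (P X)) = B.ip (L w) X := fun w => by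
      conv_rhs => rw [← hsp X, B.ip_add_right, B.ip_smul_right, B.ip_b_right, hLo, mul_zero, zero_add]
    simp only [e1, B.ip_smul_left, B.ip_smul_right]
    rw [← add_assoc (B.co X o • B.b o), ← add_assoc (B.co X o • B.b o), hsp X]
  have hvco : ∀ i, B.co (L v) (ω i) = v i := B.co_incl hω v
  have h34 : ω 3 ≠ ω 4 := hω.ne (by decide)
  have hb4 : L (B'.b 4) ∈ zset Q K (L v) := hvz _ (by
    rw [hLb, B.polar_ip, B.ip_b_right, hvco]; simp [hv])
  have hbo : B.b o ∈ zset Q K (L v) := by
    have hmK : B.sw (ω 3) o * B.sw (ω 3) (ω 4) ∈ K :=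
      B.sw_pair_in hM (ho 3) h34
    have h := zset_ap hb4 hmK
    rwa [ap_mul, ap_mul, B.sw_fix h34 (by rw [hvco]; simp [hv]) (by rw [hvco]; simp [hv]),
      B.sw_fix (ho 3) (by rw [hvco]; simp [hv]) (hLo v), hLb, B.sw_b h34, if_neg h34.symm, if_pos rfl,
      B.sw_b (ho 3), if_pos rfl] at h
  have hvC : L v ∈ sCentres Q K := sCentres_of_zset hQv fun z hz => by
    rw [← hsp z]
    refine (zset Q K (L v)).add_mem ((zset Q K (L v)).smul_mem _ hbo) (hvz _ ?_)
    rw [← hsp z, QuadraticMap.polar_add_right, QuadraticMap.polar_smul_right,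
      QuadraticMap.polar_comm (⇑Q) (L v) (B.b o), hL, B.polar_o_incl ho, smul_zero, zero_add] at hz
    exact hz
  have hι : 5 ≤ Fintype.card ι := by
    rw [← B.frame_card, hn]; norm_num
  refine B.omega_le_of_pair hvC (centre_ap hvC (B.d_in hM (ω 2) (ω 3))) ?_ hι
  have h23 : ω 2 ≠ ω 3 := hω.ne (by decide)
  have e1 : ap (B.d (ω 2) (ω 3)) (L v) = L v - (2 : F) • B.b (ω 2) := B.ext_co fun l => by
    rw [B.co_d h23, B.co_sub, B.co_smul, B.co_b]
    by_cases h1 : l = ω 2
    · subst h1; rw [hvco]; simp [hv]; ring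
    by_cases h2 : l = ω 3
    · subst h2; rw [hvco]; simp [hv, h23]
    simp [h1, h2, Ne.symm h1]
  rw [e1, B.polar_ip, B.ip_sub_right, B.ip_smul_right, B.ip_b_right, hvco, (mul_eq_zero.mp
    ((B.q_ip (L v)).symm.trans hQv)).resolve_left B.hc]
  simp [hv]
  exact ⟨⟨B.two, B.hc⟩, B.two⟩

end OFrame

end Cfsg.Lib.Classical.OFr
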