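import Mathlib
import Cfsg.Agent.Classical.Orth.Frame.SixPoint

set_option autoImplicit false
set_option linter.unusedVariables false
set_option linter.unusedSimpArgs false
set_option linter.unusedSectionVars false
set_option linter.style.haveILetI false
set_option linter.flexible false

/-!
Six dimensions, a proper overgroup `K` of the monomial group in `Ω`: an element of `K` outside the monomial group
takes no frame pair to a frame pair and no frame line to a line with two or four equal squared coordinates.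
-/

namespace Cfsg.Lib.Classical.OFr

open Matrix Cfsg.Lib.Classical.Refl

universe u w

theorem odd_fixed {α : Type*} [DecidableEq α] {s : Finset α} (hs : Odd s.card) (f : α → α) (hf : ∀ x ∈ s, f x ∈ s)
    (hff : ∀ x ∈ s, f (f x) = x) : Odd (s.filter fun x => f x = x).card := by
  have h0 : ∑ x ∈ s.filter (fun x => ¬ f x = x), (1 : ZMod 2) = 0 := by
    refine Finset.sum_involution (fun x _ => f x) (fun x _ => by decide) (fun x hx _ => (Finset.mem_filter.mp hx).2)
      (fun x hx => ?_) (fun x hx => hff x (Finset.mem_filter.mp hx).1)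
    obtain ⟨h1, h2⟩ := Finset.mem_filter.mp hx
    exact Finset.mem_filter.mpr ⟨hf x h1, by rw [hff x h1]; exact fun h => h2 h.symm⟩
  rw [Finset.sum_const, nsmul_one, ← ZMod.natCast_self 2, ZMod.natCast_self, ZMod.natCast_eq_zero_iff_even] at h0
  have hsplit := Finset.card_filter_add_card_filter_not (s := s) (p := fun x => f x = x)
  obtain ⟨a, ha⟩ := hs
  obtain ⟨b, hb⟩ := h0
  exact ⟨a - b, by omega⟩

namespace OFrame

variable {F : Type u} [Field F] [Fintype F] [DecidableEq F] {ι : Type} [Fintype ι] [DecidableEq ι]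
  {Q : QuadraticForm F (ι → F)} {κ : Type w} [Fintype κ] [DecidableEq κ] (B : OFrame Q κ)
  {K : Subgroup (Cfsg.isometryGroup F (⇑Q))}
  (hM : ∀ g ∈ Cfsg.Omega F (⇑Q), B.Mono g → g ∈ K)
  (hp : (Fintype.card F).Prime) (hn : Fintype.card κ = 6) (hno : ¬ Cfsg.Omega F (⇑Q) ≤ K)

theorem ap_line {g : Cfsg.isometryGroup F (⇑Q)} {i j : κ} (h : B.supp (ap g (B.b i)) ⊆ {j}) :
    ap g (B.b i) = B.co (ap g (B.b i)) j • B.b j ∧ B.co (ap g (B.b i)) j * B.co (ap g (B.b i)) j = 1 :=
  ⟨B.eq_smul_b h, B.co_self_sq h (by rw [B.ip_ap, B.ip_b_self])⟩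

theorem supp_ap_ne (g : Cfsg.isometryGroup F (⇑Q)) (i : κ) : (B.supp (ap g (B.b i))).Nonempty :=
  B.supp_nonempty fun h => B.b_ne_zero i (ap_injective g (h.trans (map_zero (ap g)).symm))

include hM hn in
theorem move_avoid {a b c : κ} (hac : a ≠ c) (hbc : b ≠ c) :
    ∃ m ∈ K, B.Mono m ∧ ap m (B.b a) = B.b b ∧ ap m (B.b c) = B.b c := by
  rcases eq_or_ne a b with rfl | hab
  · exact ⟨1, K.one_mem, B.mono_one, ap_one _, ap_one _⟩
  obtain ⟨e, f, hef, he, hf⟩ := exists_two_out (S := ({a, b, c} : Finset κ)) (by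
    have := Finset.card_le_three (a := a) (b := b) (c := c); omega)
  simp only [Finset.mem_insert, Finset.mem_singleton, not_or] at he hf
  refine ⟨_, B.sw_pair_in hM hab hef, B.mono_mul (B.mono_root hab (one_mul 1)) (B.mono_root hef (one_mul 1)), ?_, ?_⟩
  · rw [ap_mul, B.sw_b hef, if_neg (Ne.symm he.1), if_neg (Ne.symm hf.1), B.sw_b hab, if_pos rfl]
  · rw [ap_mul, B.sw_b hef, if_neg (Ne.symm he.2.2), if_neg (Ne.symm hf.2.2), B.sw_b hab, if_neg hac.symm,
      if_neg hbc.symm]

include hM hn in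
theorem exists_move {p q i j : κ} (hpq : p ≠ q) (hij : i ≠ j) :
    ∃ m ∈ K, B.Mono m ∧ ap m (B.b p) = B.b i ∧ ap m (B.b q) = B.b j := by
  obtain ⟨c, hc⟩ := exists_out ({p, i} : Finset κ) (by
    have := Finset.card_le_two (a := p) (b := i); omega)
  simp only [Finset.mem_insert, Finset.mem_singleton, not_or] at hc
  obtain ⟨m₁, h1, h1m, h1p, -⟩ := B.move_avoid hM hn (a := p) (b := i) (Ne.symm hc.1) (Ne.symm hc.2)
  haveI : Nonempty κ := ⟨p⟩
  obtain ⟨q', hq'⟩ := Finset.card_le_one_iff_subset_singleton.mp (h1m q)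
  obtain ⟨he, hs⟩ := B.ap_line hq'
  have hq'i : q' ≠ i := fun h => by
    have := B.ip_ap m₁ (B.b p) (B.b q)
    rw [h1p, B.ip_b_ne hpq, he, h, B.ip_smul_right, B.ip_b_self, mul_one] at this
    rw [h] at hs
    rw [this, mul_zero] at hs
    exact zero_ne_one hs
  obtain ⟨m₂, h2, h2m, h2q, h2i⟩ := B.move_avoid hM hn (a := q') (b := j) (c := i) hq'i hij.symm
  rcases sq_one_cases hs with h | h
  · exact ⟨m₂ * m₁, K.mul_mem h2 h1, B.mono_mul h2m h1m, by rw [ap_mul, h1p, h2i],
      by rw [ap_mul, he, h, one_smul, h2q]⟩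
  obtain ⟨e, he'⟩ := exists_out ({i, j} : Finset κ) (by
    have := Finset.card_le_two (a := i) (b := j); omega)
  simp only [Finset.mem_insert, Finset.mem_singleton, not_or] at he'
  refine ⟨B.d j e * (m₂ * m₁), K.mul_mem (B.d_in hM j e) (K.mul_mem h2 h1),
    B.mono_mul (B.mono_d j e) (B.mono_mul h2m h1m), ?_, ?_⟩
  · rw [ap_mul, ap_mul, h1p, h2i, OFrame.d, ap_mul, B.rr_b_b, if_neg (Ne.symm he'.1), B.rr_b_b, if_neg hij]
  · rw [ap_mul, ap_mul, he, h, map_smul, h2q, map_smul, OFrame.d, ap_mul, B.rr_b_b, if_neg (Ne.symm he'.2),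
      B.rr_b_b, if_pos rfl, neg_one_smul, neg_neg]

include hM hp hn hno in
/-- An element of `K` taking a frame line to a frame line is monomial. -/
theorem line_mono {g : Cfsg.isometryGroup F (⇑Q)} (hg : g ∈ K) {i j : κ} (h : B.supp (ap g (B.b i)) ⊆ {j}) :
    B.Mono g := by
  by_contra hgm
  obtain ⟨he, hs⟩ := B.ap_line h
  obtain ⟨c, hc⟩ := exists_out ({j} : Finset κ) (by rw [Finset.card_singleton]; omega)
  rw [Finset.mem_singleton] at hc
  obtain ⟨d, hd⟩ := exists_out ({i} : Finset κ) (by rw [Finset.card_singleton]; omega)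
  rw [Finset.mem_singleton] at hd
  obtain ⟨m, hm, hmm, hmj, -⟩ := B.exists_move hM hn (p := j) (q := c) (i := i) (j := d) (Ne.symm hc) (Ne.symm hd)
  obtain ⟨m', hm', hm'm, hm'i⟩ : ∃ m' ∈ K, B.Mono m' ∧ ap m' (B.co (ap g (B.b i)) j • B.b j) = B.b i := by
    rcases sq_one_cases hs with h1 | h1
    · exact ⟨m, hm, hmm, by rw [h1, one_smul, hmj]⟩
    · refine ⟨B.d i d * m, K.mul_mem (B.d_in hM i d) hm, B.mono_mul (B.mono_d i d) hmm, ?_⟩
      rw [h1, ap_mul, map_smul, hmj, map_smul, OFrame.d, ap_mul, B.rr_b_b, if_neg (Ne.symm hd), B.rr_b_b,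
        if_pos rfl, neg_one_smul, neg_neg]
  refine hno (B.omega_le_of_fix hM hp hn (K.mul_mem hm' hg) (o := i) (by rw [ap_mul, he, hm'i]) fun hmon => hgm ?_)
  have := B.mono_mul (B.mono_inv hm'm) hmon
  rwa [← mul_assoc, inv_mul_cancel, one_mul] at this

/-- The other columns avoid a preserved pair. -/
theorem pair_avoid {z : Cfsg.isometryGroup F (⇑Q)} {i j : κ} (hij : i ≠ j) (hi : B.supp (ap z (B.b i)) ⊆ {i, j})
    (hj : B.supp (ap z (B.b j)) ⊆ {i, j}) {l : κ} (hli : l ≠ i) (hlj : l ≠ j) :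
    B.co (ap z (B.b l)) i = 0 ∧ B.co (ap z (B.b l)) j = 0 := by
  set α := B.co (ap z (B.b i)) i
  set β := B.co (ap z (B.b i)) j
  set γ := B.co (ap z (B.b j)) i
  set δ := B.co (ap z (B.b j)) j
  set s := B.co (ap z (B.b l)) i
  set t := B.co (ap z (B.b l)) j
  have e : ∀ x y : ι → F, B.supp x ⊆ {i, j} → B.ip x y = B.co x i * B.co y i + B.co x j * B.co y j := fun x y h => by
    rw [B.ip_supp h, Finset.sum_pair hij]
  have h1 : α * s + β * t = 0 := by rw [← e _ _ hi, B.ip_ap, B.ip_b_ne (Ne.symm hli)]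
  have h2 : γ * s + δ * t = 0 := by rw [← e _ _ hj, B.ip_ap, B.ip_b_ne (Ne.symm hlj)]
  have h3 : α * α + β * β = 1 := by rw [← e _ _ hi, B.ip_ap, B.ip_b_self]
  have h4 : γ * γ + δ * δ = 1 := by rw [← e _ _ hj, B.ip_ap, B.ip_b_self]
  have h5 : α * γ + β * δ = 0 := by rw [← e _ _ hi, B.ip_ap, B.ip_b_ne hij]
  have hD : (α * δ - β * γ) * (α * δ - β * γ) = 1 := by
    linear_combination (γ * γ + δ * δ) * h3 + h4 - (α * γ + β * δ) * h5
  exact ⟨by linear_combination (α * δ - β * γ) * δ * h1 - (α * δ - β * γ) * β * h2 - s * hD,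
    by linear_combination (α * δ - β * γ) * α * h2 - (α * δ - β * γ) * γ * h1 - t * hD⟩

include hM hp hn hno in
/-- An element of `K` preserving a frame pair is monomial. -/
theorem pair_mono {z : Cfsg.isometryGroup F (⇑Q)} (hz : z ∈ K) {i j : κ} (hij : i ≠ j)
    (hi : B.supp (ap z (B.b i)) ⊆ {i, j}) (hj : B.supp (ap z (B.b j)) ⊆ {i, j}) : B.Mono z := by
  classical
  by_contra hzm
  have axis : ∀ a c, ¬ B.supp (ap z (B.b a)) ⊆ {c} := fun a c h => hzm (B.line_mono hM hp hn hno hz h)
  set v := ap z (B.b i) with hv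
  set α := B.co v i with hα
  set β := B.co v j with hβ
  have hα0 : α ≠ 0 := fun h => axis i j fun l hl => by
    have := hi hl
    simp only [Finset.mem_insert, Finset.mem_singleton] at this ⊢
    exact this.resolve_left fun e => B.mem_supp.mp hl (by rw [e]; exact h)
  have hβ0 : β ≠ 0 := fun h => axis i i fun l hl => by
    have := hi hl
    simp only [Finset.mem_insert, Finset.mem_singleton] at this ⊢
    exact this.resolve_right fun e => B.mem_supp.mp hl (by rw [e]; exact h)
  have hvv : B.ip v v = 1 := by rw [hv, B.ip_ap, B.ip_b_self]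
  have hvo : ∀ l, l ≠ i → l ≠ j → B.co v l = 0 := fun l h1 h2 => B.co_eq_zero hi (by simp [h1, h2])
  have hu : ∀ l, l ≠ i → l ≠ j → B.co (ap z (B.b l)) i = 0 ∧ B.co (ap z (B.b l)) j = 0 :=
    fun l h1 h2 => B.pair_avoid hij hi hj h1 h2
  have huu : ∀ l, B.ip (ap z (B.b l)) (ap z (B.b l)) = 1 := fun l => by rw [B.ip_ap, B.ip_b_self]
  have conjd : ∀ a c, rr Q (ap z (B.b a)) * rr Q (ap z (B.b c)) ∈ K := fun a c => by
    have : z * B.d a c * z⁻¹ ∈ K := K.mul_mem (K.mul_mem hz (B.d_in hM a c)) (K.inv_mem hz)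
    rwa [show z * B.d a c * z⁻¹ = rr Q (ap z (B.b a)) * rr Q (ap z (B.b c)) by
      rw [← rr_conj, ← rr_conj, OFrame.d]; group] at this
  by_cases hfull : ∃ k n, k ≠ i ∧ k ≠ j ∧ n ≠ i ∧ n ≠ j ∧ B.co (ap z (B.b k)) n = 0
  · -- a short column: it is a root, and a three cycle moves it
    obtain ⟨k, n, hki, hkj, hni, hnj, hun⟩ := hfull
    set u := ap z (B.b k) with hu'
    have hvu : B.ip v u = 0 := by rw [hv, hu', B.ip_ap, B.ip_b_ne (Ne.symm hki)]
    have hw : B.Mono (rr Q v * rr Q u) := B.line_mono hM hp hn hno (conjd i k) (i := n) (j := n) (by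
      rw [ap_mul, B.rr_fix (v := u) (x := B.b n) (by rw [huu]; exact one_ne_zero) (by rw [B.ip_b_right, hun]),
        B.rr_fix (v := v) (x := B.b n) (by rw [hvv]; exact one_ne_zero) (by rw [B.ip_b_right, hvo n hni hnj]), B.supp_b])
    have single : ∀ c a b, a ≠ b → B.co (ap (rr Q v * rr Q u) (B.b c)) a = 0 ∨
        B.co (ap (rr Q v * rr Q u) (B.b c)) b = 0 := fun c a b hab => by
      by_contra h
      push Not at h
      exact hab (Finset.card_le_one.mp (hw c) a (B.mem_supp.mpr h.1) b (B.mem_supp.mpr h.2))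
    have h2α : 2 * (α * α) = 1 := by
      have := single i i j hij
      rw [ap_mul, B.rr_fix (v := u) (x := B.b i) (by rw [huu]; exact one_ne_zero) (by rw [B.ip_b_right]; exact (hu k hki hkj).1),
        B.rr_apply_one hvv, B.ip_b_right, B.co_sub, B.co_sub, B.co_smul, B.co_smul, B.co_b, B.co_b, if_pos rfl,
        if_neg hij, ← hα, ← hβ] at this
      rcases this with h | h
      · linear_combination -h
      · exact absurd (by linear_combination -h : (2 : F) * (α * β) = 0) (mul_ne_zero B.two (mul_ne_zero hα0 hβ0))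
    obtain ⟨p, hps⟩ := B.supp_ap_ne z k
    have hp0 := B.mem_supp.mp hps
    rw [← hu'] at hp0
    have hpi : p ≠ i := fun h => hp0 (h ▸ (hu k hki hkj).1)
    have hpj : p ≠ j := fun h => hp0 (h ▸ (hu k hki hkj).2)
    have wp : ∀ a, B.co (ap (rr Q v * rr Q u) (B.b p)) a =
        (if p = a then 1 else 0) - 2 * B.co u p * B.co u a := fun a => by
      rw [ap_mul, B.rr_apply_one (huu k), B.ip_b_right, map_sub, map_smul,
        B.rr_fix (v := v) (x := B.b p) (by rw [hvv]; exact one_ne_zero) (by rw [B.ip_b_right, hvo p hpi hpj]),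
        B.rr_fix (v := v) (x := u) (by rw [hvv]; exact one_ne_zero) hvu, B.co_sub, B.co_smul, B.co_b]
    obtain ⟨r, hrp, hr0⟩ : ∃ r, r ≠ p ∧ B.co u r ≠ 0 := by
      by_contra h
      push Not at h
      exact axis k p fun l hl => Finset.mem_singleton.mpr (by_contra fun hne => B.mem_supp.mp hl (h l hne))
    have hri : r ≠ i := fun h => hr0 (h ▸ (hu k hki hkj).1)
    have hrj : r ≠ j := fun h => hr0 (h ▸ (hu k hki hkj).2)
    have hwr : B.co (ap (rr Q v * rr Q u) (B.b p)) r ≠ 0 := by
      rw [wp, if_neg (Ne.symm hrp), zero_sub, neg_ne_zero]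
      exact mul_ne_zero (mul_ne_zero B.two hp0) hr0
    have hsupp : ∀ a, a ≠ p → a ≠ r → B.co u a = 0 := fun a hap har => by
      have := (single p a r har).resolve_right hwr
      rw [wp, if_neg (Ne.symm hap), zero_sub, neg_eq_zero] at this
      exact (mul_eq_zero.mp this).resolve_left (mul_ne_zero B.two hp0)
    obtain ⟨s, t, hst, hs, ht⟩ := exists_two_out (S := ({i, j, p, r} : Finset κ)) (by
      have := Finset.card_insert_le i ({j, p, r} : Finset κ)
      have := Finset.card_le_three (a := j) (b := p) (c := r)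
      omega)
    simp only [Finset.mem_insert, Finset.mem_singleton, not_or] at hs ht
    have hrs : r ≠ s := Ne.symm hs.2.2.2
    set m := B.sw r s * B.sw s t with hm
    have hmK : m ∈ K := B.sw_pair_in hM hrs hst
    set k' := z⁻¹ * m * z with hk'
    have hk'K : k' ∈ K := K.mul_mem (K.mul_mem (K.inv_mem hz) hmK) hz
    have hmv : ap m v = v := by
      rw [hm, ap_mul, B.sw_fix hst (hvo s hs.1 hs.2.1) (hvo t ht.1 ht.2.1),
        B.sw_fix hrs (hvo r hri hrj) (hvo s hs.1 hs.2.1)]
    have hk'm : B.Mono k' := B.line_mono hM hp hn hno hk'K (i := i) (j := i) (by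
      rw [hk', ap_mul, ap_mul, ← hv, hmv, hv, ap_inv_ap, B.supp_b])
    haveI : Nonempty κ := ⟨i⟩
    obtain ⟨n', hn'⟩ := Finset.card_le_one_iff_subset_singleton.mp (hk'm k)
    obtain ⟨he, hσ⟩ := B.ap_line hn'
    set σ := B.co (ap k' (B.b k)) n'
    have hσ0 : σ ≠ 0 := fun h => zero_ne_one (by rw [← hσ, h, mul_zero])
    have hmu : ap m u = σ • ap z (B.b n') := by
      have := congrArg (ap z) he
      rwa [map_smul, hk', ap_mul, ap_mul, ap_ap_inv, ← hu'] at this
    have hco : ∀ a, B.co (ap m u) a = B.co u (Equiv.swap r s a) := fun a => by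
      rw [hm, ap_mul, B.sw_fix hst (hsupp s hs.2.2.1 hs.2.2.2) (hsupp t ht.2.2.1 ht.2.2.2), B.co_sw hrs]
    have hipu : B.ip (ap m u) u = B.co u p * B.co u p := by
      rw [B.ip_comm, B.ip_supp (T := {p, r}) (fun l hl => by
        by_contra hh
        simp only [Finset.mem_insert, Finset.mem_singleton, not_or] at hh
        exact B.mem_supp.mp hl (hsupp l hh.1 hh.2)), Finset.sum_pair hrp.symm, hco, hco, Equiv.swap_apply_left,
        Equiv.swap_apply_of_ne_of_ne hrp.symm (Ne.symm hs.2.2.1), hsupp s hs.2.2.1 hs.2.2.2, mul_zero, add_zero]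
    have hnk : n' = k := by
      by_contra hne
      rw [hmu, B.ip_smul_left, hu', B.ip_ap, B.ip_b_ne hne, mul_zero] at hipu
      exact mul_ne_zero hp0 hp0 hipu.symm
    have h := congrArg (fun x => B.co x r) hmu
    simp only [B.co_smul, hnk, ← hu', hco, Equiv.swap_apply_left, hsupp s hs.2.2.1 hs.2.2.2] at h
    exact mul_ne_zero hσ0 hr0 h.symm
  · -- full columns: two squares agree
    push Not at hfull
    obtain ⟨k, l, hkl, hk, hl⟩ := exists_two_out (S := ({i, j} : Finset κ)) (by
      have := Finset.card_le_two (a := i) (b := j); omega)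
    simp only [Finset.mem_insert, Finset.mem_singleton, not_or] at hk hl
    set u := ap z (B.b k) with hu'
    set u' := ap z (B.b l) with hu''
    have hf : ∀ a, a ≠ i → a ≠ j → B.co u a ≠ 0 := fun a h1 h2 => hfull k a hk.1 hk.2 h1 h2
    have hf' : ∀ a, a ≠ i → a ≠ j → B.co u' a ≠ 0 := fun a h1 h2 => hfull l a hl.1 hl.2 h1 h2
    have huu' : B.ip u u' = 0 := by rw [hu', hu'', B.ip_ap, B.ip_b_ne hkl]
    set ww := rr Q u * rr Q u' with hww
    have hw : B.Mono ww := B.line_mono hM hp hn hno (conjd k l) (i := i) (j := i) (by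
      rw [hww, ap_mul, B.rr_fix (v := u') (x := B.b i) (by rw [huu]; exact one_ne_zero) (by rw [B.ip_b_right]; exact (hu l hl.1 hl.2).1),
        B.rr_fix (v := u) (x := B.b i) (by rw [huu]; exact one_ne_zero) (by rw [B.ip_b_right]; exact (hu k hk.1 hk.2).1), B.supp_b])
    have wap : ∀ c a, B.co (ap ww (B.b c)) a =
        (if c = a then 1 else 0) - 2 * B.co u c * B.co u a - 2 * B.co u' c * B.co u' a := fun c a => by
      rw [hww, ap_mul, B.rr_apply_one (huu l), B.ip_b_right, map_sub, map_smul, B.rr_fix (by rw [huu]; exact one_ne_zero)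
        huu', B.rr_apply_one (huu k), B.ip_b_right, B.co_sub, B.co_sub, B.co_smul, B.co_smul, B.co_b]
    obtain ⟨m, hm⟩ := exists_out ({i, j} : Finset κ) (by
      have := Finset.card_le_two (a := i) (b := j); omega)
    simp only [Finset.mem_insert, Finset.mem_singleton, not_or] at hm
    haveI : Nonempty κ := ⟨i⟩
    obtain ⟨n, hn'⟩ := Finset.card_le_one_iff_subset_singleton.mp (hw m)
    obtain ⟨he, hσ⟩ := B.ap_line hn'
    set σ := B.co (ap ww (B.b m)) n with hσdef
    have hσ0 : σ ≠ 0 := fun h => zero_ne_one (by rw [← hσ, h, mul_zero])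
    have hni : n ≠ i := fun h => hσ0 (by
      rw [hσdef, h, wap, if_neg hm.1, (hu k hk.1 hk.2).1, (hu l hl.1 hl.2).1]; ring)
    have hnj : n ≠ j := fun h => hσ0 (by
      rw [hσdef, h, wap, if_neg hm.2, (hu k hk.1 hk.2).2, (hu l hl.1 hl.2).2]; ring)
    by_cases hnm : n = m
    · -- a fixed axis is impossible
      subst hnm
      set a := B.co u n with hadef
      set c := B.co u' n with hcdef
      have hrel : ∀ r, r ≠ n → a * B.co u r + c * B.co u' r = 0 := fun r hr => by
        have h := B.co_eq_zero hn' (i := r) (by simpa using hr)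
        rw [wap, if_neg (Ne.symm hr)] at h
        exact (mul_eq_zero.mp (show (2 : F) * (a * B.co u r + c * B.co u' r) = 0 by
          linear_combination -h)).resolve_left B.two
      have hy : B.supp (a • u + c • u') ⊆ {n} := fun r hr => by
        rw [Finset.mem_singleton]
        by_contra hne
        exact B.mem_supp.mp hr (by rw [B.co_add, B.co_smul, B.co_smul]; exact hrel r hne)
      have h1 : a * a + c * c = 1 := by
        have hL : B.ip (a • u + c • u') u = a := by
          rw [B.ip_add_left, B.ip_smul_left, B.ip_smul_left, huu, B.ip_comm u', huu']; ring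
        rw [B.ip_supp hy, Finset.sum_singleton, B.co_add, B.co_smul, B.co_smul] at hL
        exact mul_right_cancel₀ (hf n hni hnj) (show (a * a + c * c) * a = 1 * a by linear_combination hL)
      obtain ⟨r, s, hrs, hr, hs⟩ := exists_two_out (S := ({i, j, n} : Finset κ)) (by
        have := Finset.card_le_three (a := i) (b := j) (c := n); omega)
      simp only [Finset.mem_insert, Finset.mem_singleton, not_or] at hr hs
      obtain ⟨t, ht⟩ := exists_out ({i, j, n, r, s} : Finset κ) (by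
        have := Finset.card_insert_le i ({j, n, r, s} : Finset κ)
        have := Finset.card_insert_le j ({n, r, s} : Finset κ)
        have := Finset.card_le_three (a := n) (b := r) (c := s)
        omega)
      simp only [Finset.mem_insert, Finset.mem_singleton, not_or] at ht
      have nz : ∀ b, b ≠ r → b ≠ n → b ≠ i → b ≠ j → B.co (ap ww (B.b r)) b ≠ 0 := fun b hbr hbn hbi hbj h => by
        rw [wap, if_neg (Ne.symm hbr)] at h
        have : (-2 : F) * (B.co u r * B.co u b) = 0 := by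
          linear_combination (c * c) * h + 2 * (B.co u r * B.co u b) * h1
            + 2 * c * B.co u' b * hrel r hr.2.2 - 2 * a * B.co u r * hrel b hbn
        exact mul_ne_zero (neg_ne_zero.mpr B.two) (mul_ne_zero (hf r hr.1 hr.2.1) (hf b hbi hbj)) this
      exact ht.2.2.2.2 (Finset.card_le_one.mp (hw r) t (B.mem_supp.mpr (nz t ht.2.2.2.1 ht.2.2.1 ht.1 ht.2.1))
        s (B.mem_supp.mpr (nz s hrs.symm hs.2.2 hs.1 hs.2.1)))
    · have hwu : ap ww u = -u := by
        rw [hww, ap_mul, B.rr_fix (v := u') (x := u) (by rw [huu]; exact one_ne_zero) (by rw [B.ip_comm, huu']),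
          B.rr_self (by rw [huu]; exact one_ne_zero)]
      have hrel : -(σ * B.co u n) = B.co u m := by
        have h := B.ip_ap ww u (B.b m)
        rw [he, hwu, B.ip_smul_right, B.ip_b_right, B.ip_b_right, B.co_neg] at h
        linear_combination h
      have hε : -σ * -σ = 1 := by linear_combination hσ
      have hru : ap (rr Q (B.b m - (-σ) • B.b n)) u = u :=
        B.rr_fix (by rw [B.ip_root (Ne.symm hnm) hε]; exact B.two) (by
          rw [B.ip_sub_left, B.ip_smul_left, B.ip_b_left, B.ip_b_left]; linear_combination -hrel)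
      have fixv : ap (rr Q (B.b m - (-σ) • B.b n)) v = v :=
        B.rr_fix (by rw [B.ip_root (Ne.symm hnm) hε]; exact B.two) (by
          rw [B.ip_sub_left, B.ip_smul_left, B.ip_b_left, B.ip_b_left, hvo m hm.1 hm.2, hvo n hni hnj]; ring)
      -- a root column at the pair is impossible
      have noroot : β * β ≠ α * α := by
        intro hsq
        set ε := -(β / α) with hεdef
        have hε1 : ε * ε = 1 := by rw [hεdef]; field_simp; linear_combination hsq
        have hvr : v = α • (B.b i - ε • B.b j) := B.ext_co fun a => by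
          rw [B.co_smul, B.co_sub, B.co_smul, B.co_b, B.co_b]
          by_cases h1 : a = i
          · subst h1; simp [hij.symm, ← hα]
          by_cases h2 : a = j
          · subst h2; simp [hij, ← hβ, hεdef]; field_simp
          simp [hvo a h1 h2, Ne.symm h1, Ne.symm h2]
        have hpK := K.mul_mem (B.root_pair_in hM hij (Ne.symm hnm) hε1 hε) (conjd i k)
        rw [← hv, ← hu', hvr, rr_smul _ hα0] at hpK
        set r₀ := B.b i - ε • B.b j
        set r₁ := B.b m - (-σ) • B.b n
        have hcm : rr Q r₀ * rr Q r₁ = rr Q r₁ * rr Q r₀ := by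
          have h := rr_conj (rr Q r₁) r₀
          rw [show ap (rr Q r₁) r₀ = r₀ by
            refine B.rr_fix (by rw [B.ip_root (Ne.symm hnm) hε]; exact B.two) ?_
            rw [B.ip_sub_left, B.ip_smul_left, B.ip_b_left, B.ip_b_left, B.co_sub, B.co_sub, B.co_smul, B.co_smul,
              B.co_b, B.co_b, B.co_b, B.co_b, if_neg (Ne.symm hm.1), if_neg (Ne.symm hm.2), if_neg (Ne.symm hni),
              if_neg (Ne.symm hnj)]
            ring, rr_inv] at h
          calc rr Q r₀ * rr Q r₁ = rr Q r₁ * rr Q r₀ * rr Q r₁ * rr Q r₁ := by rw [h]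
            _ = _ := by rw [mul_assoc, rr_mul_self, mul_one]
        rw [hcm, show ∀ x y : Cfsg.isometryGroup F (⇑Q), x * rr Q r₀ * (rr Q r₀ * y) = x * y from fun x y => by
          rw [mul_assoc, ← mul_assoc (rr Q r₀), rr_mul_self, one_mul]] at hpK
        have hpm : B.Mono (rr Q r₁ * rr Q u) := B.line_mono hM hp hn hno hpK (i := i) (j := i) (by
          rw [ap_mul, B.rr_fix (v := u) (x := B.b i) (by rw [huu]; exact one_ne_zero) (by rw [B.ip_b_right]; exact (hu k hk.1 hk.2).1),
            B.rr_fix (v := r₁) (x := B.b i) (by rw [B.ip_root (Ne.symm hnm) hε]; exact B.two) (by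
              rw [B.ip_b_right, B.co_sub, B.co_smul, B.co_b, B.co_b, if_neg hm.1, if_neg hni]; ring), B.supp_b])
        obtain ⟨r, hr⟩ := exists_out ({i, j, m, n} : Finset κ) (by
          have := Finset.card_insert_le i ({j, m, n} : Finset κ)
          have := Finset.card_le_three (a := j) (b := m) (c := n)
          omega)
        simp only [Finset.mem_insert, Finset.mem_singleton, not_or] at hr
        have hco : ∀ a, B.co (ap (rr Q r₁ * rr Q u) (B.b r)) a =
            (if r = a then 1 else 0) - 2 * B.co u r * B.co u a := fun a => by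
          rw [ap_mul, B.rr_apply_one (huu k), B.ip_b_right, map_sub, map_smul, hru,
            B.rr_fix (by rw [B.ip_root (Ne.symm hnm) hε]; exact B.two) (by
              rw [B.ip_b_right, B.co_sub, B.co_smul, B.co_b, B.co_b, if_neg (Ne.symm hr.2.2.1),
                if_neg (Ne.symm hr.2.2.2)]; ring), B.co_sub, B.co_smul, B.co_b]
        have nz : ∀ b, b ≠ r → b ≠ i → b ≠ j → B.co (ap (rr Q r₁ * rr Q u) (B.b r)) b ≠ 0 := fun b h1 h2 h3 => by
          rw [hco, if_neg (Ne.symm h1), zero_sub, neg_ne_zero]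
          exact mul_ne_zero (mul_ne_zero B.two (hf r hr.1 hr.2.1)) (hf b h2 h3)
        exact hnm (Finset.card_le_one.mp (hpm r) n (B.mem_supp.mpr (nz n (Ne.symm hr.2.2.2) hni hnj))
          m (B.mem_supp.mpr (nz m (Ne.symm hr.2.2.1) hm.1 hm.2)))
      set mm := rr Q (B.b i - (1 : F) • B.b j) * rr Q (B.b m - (-σ) • B.b n) with hmm
      have hk'K : z⁻¹ * mm * z ∈ K :=
        K.mul_mem (K.mul_mem (K.inv_mem hz) (B.root_pair_in hM hij (Ne.symm hnm) (one_mul 1) hε)) hz
      have hk'm : B.Mono (z⁻¹ * mm * z) := B.line_mono hM hp hn hno hk'K (i := k) (j := k) (by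
        rw [ap_mul, ap_mul, ← hu', hmm, ap_mul, hru, B.rr_fix (by rw [B.ip_root hij (one_mul 1)]; exact B.two) (by
          rw [B.ip_sub_left, B.ip_smul_left, B.ip_b_left, B.ip_b_left, (hu k hk.1 hk.2).1, (hu k hk.1 hk.2).2]; ring),
          hu', ap_inv_ap, B.supp_b])
      obtain ⟨n', hn''⟩ := Finset.card_le_one_iff_subset_singleton.mp (hk'm i)
      obtain ⟨he', hσ'⟩ := B.ap_line hn''
      set τ := B.co (ap (z⁻¹ * mm * z) (B.b i)) n'
      have hmv : ap mm v = τ • ap z (B.b n') := by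
        have := congrArg (ap z) he'
        rwa [map_smul, ap_mul, ap_mul, ap_ap_inv, ← hv] at this
      have hmco : ∀ a, B.co (ap mm v) a = B.co v (Equiv.swap i j a) := fun a => by
        rw [hmm, ap_mul, fixv]; exact B.co_sw hij v a
      have hτi : β = τ * B.co (ap z (B.b n')) i := by
        have := congrArg (fun x => B.co x i) hmv
        simp only [hmco, Equiv.swap_apply_left, B.co_smul] at this
        exact this
      have hτj : α = τ * B.co (ap z (B.b n')) j := by
        have := congrArg (fun x => B.co x j) hmv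
        simp only [hmco, Equiv.swap_apply_right, B.co_smul] at this
        exact this
      by_cases h1 : n' = i
      · subst h1
        rw [← hv, ← hα] at hτi
        rw [← hv, ← hβ] at hτj
        exact noroot (by linear_combination β * hτi - α * hτj)
      by_cases h2 : n' = j
      · subst h2
        have h5 := B.ip_ap z (B.b i) (B.b n')
        rw [B.ip_b_ne hij, ← hv, B.ip_supp hi, Finset.sum_pair hij, ← hα, ← hβ] at h5
        exact mul_ne_zero B.two (mul_ne_zero hα0 hβ0)
          (by linear_combination α * hτi + β * hτj + τ * h5)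
      rw [(hu n' h1 h2).1, mul_zero] at hτi
      exact hβ0 hτi

include hM hp hn hno in
/-- An element of `K` taking a frame pair into a frame pair is monomial. -/
theorem pair_pair {g : Cfsg.isometryGroup F (⇑Q)} (hg : g ∈ K) {i j p q : κ} (hij : i ≠ j) (hpq : p ≠ q)
    (hi : B.supp (ap g (B.b i)) ⊆ {p, q}) (hj : B.supp (ap g (B.b j)) ⊆ {p, q}) : B.Mono g := by
  obtain ⟨m, hm, hmm, hmp, hmq⟩ := B.exists_move hM hn (i := i) (j := j) hpq hij
  have key : ∀ x, B.supp x ⊆ {p, q} → B.supp (ap m x) ⊆ {i, j} := fun x hx => by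
    rw [show x = B.co x p • B.b p + B.co x q • B.b q by
      conv_lhs => rw [B.eq_sum_supp hx, Finset.sum_pair hpq], map_add, map_smul, map_smul, hmp, hmq]
    exact (B.supp_add_subset _ _).trans (Finset.union_subset ((B.supp_smul_subset _ _).trans (by simp [B.supp_b]))
      ((B.supp_smul_subset _ _).trans (by simp [B.supp_b])))
  have h := B.pair_mono hM hp hn hno (K.mul_mem hm hg) hij (by rw [ap_mul]; exact key _ hi)
    (by rw [ap_mul]; exact key _ hj)
  have := B.mono_mul (B.mono_inv hmm) h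
  rwa [← mul_assoc, inv_mul_cancel, one_mul] at this

include hM hp hn hno in
/-- An element fixing a column permutes the other columns up to sign. -/
theorem perm_of_fix {k : Cfsg.isometryGroup F (⇑Q)} (hk : k ∈ K) {c : κ} :
    ∀ e : {e // e ∈ K ∧ ap e (ap k (B.b c)) = ap k (B.b c)}, ∃ (π : κ → κ), Function.Injective π ∧ π c = c ∧
      ∀ l, ∃ σ : F, σ * σ = 1 ∧ ap e.1 (ap k (B.b l)) = σ • ap k (B.b (π l)) := by
  rintro ⟨e, he, hfix⟩
  have hm : B.Mono (k⁻¹ * e * k) := B.line_mono hM hp hn hno (K.mul_mem (K.mul_mem (K.inv_mem hk) he) hk)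
    (i := c) (j := c) (by rw [ap_mul, ap_mul, hfix, ap_inv_ap, B.supp_b])
  obtain ⟨π, l, hl⟩ := B.mono_iff.mp hm
  have hsq : ∀ a, l a * l a = 1 := fun a => by
    have h := B.ip_ap (k⁻¹ * e * k) (B.b a) (B.b a)
    rwa [(hl a).1, B.ip_smul_left, B.ip_smul_right, B.ip_b_self, B.ip_b_self, mul_one] at h
  refine ⟨π, π.injective, ?_, fun a => ⟨l a, hsq a, ?_⟩⟩
  · have h := (hl c).1
    rw [ap_mul, ap_mul, hfix, ap_inv_ap] at h
    have := congrArg (fun x => B.co x c) h
    simp only [B.co_smul, B.co_b, ↓reduceIte] at this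
    by_contra hne
    rw [if_neg hne, mul_zero] at this
    exact one_ne_zero this
  · have h := congrArg (ap k) (hl a).1
    rwa [map_smul, ap_mul, ap_mul, ap_ap_inv] at h

theorem line_unique {k : Cfsg.isometryGroup F (⇑Q)} {a b : κ} {σ τ : F} (hσ : σ ≠ 0)
    (h : σ • ap k (B.b a) = τ • ap k (B.b b)) : a = b := by
  by_contra hne
  have := congrArg (fun x => B.ip x (ap k (B.b a))) h
  simp only [B.ip_smul_left, B.ip_ap, B.ip_b_self, B.ip_b_ne (Ne.symm hne), mul_zero, mul_one] at this
  exact hσ this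

theorem supp_neg_d {a c : κ} (hac : a ≠ c) {x : ι → F} (h : ap (B.d a c) x = -x) : B.supp x ⊆ {a, c} :=
  fun l hl => by
    by_contra hh
    simp only [Finset.mem_insert, Finset.mem_singleton] at hh
    have := congrArg (fun y => B.co y l) h
    simp only [B.co_d hac, B.co_neg, if_neg hh] at this
    exact B.mem_supp.mp hl ((mul_eq_zero.mp (show (2 : F) * B.co x l = 0 by linear_combination this)).resolve_left
      B.two)

theorem co_pos_d {a c : κ} (hac : a ≠ c) {x : ι → F} (h : ap (B.d a c) x = x) : B.co x a = 0 ∧ B.co x c = 0 := by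
  have key : ∀ l, (l = a ∨ l = c) → B.co x l = 0 := fun l hl => by
    have := congrArg (fun y => B.co y l) h
    simp only [B.co_d hac, if_pos hl] at this
    exact (mul_eq_zero.mp (show (2 : F) * B.co x l = 0 by linear_combination -this)).resolve_left B.two
  exact ⟨key a (Or.inl rfl), key c (Or.inr rfl)⟩

include hM hp hn hno in
/-- No column of an element of `K` is a root vector. -/
theorem root_false {k : Cfsg.isometryGroup F (⇑Q)} (hk : k ∈ K) {c p q : κ} (hpq : p ≠ q)
    (hs : B.supp (ap k (B.b c)) ⊆ {p, q})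
    (heq : B.co (ap k (B.b c)) p * B.co (ap k (B.b c)) p = B.co (ap k (B.b c)) q * B.co (ap k (B.b c)) q) :
    False := by
  classical
  set v := ap k (B.b c) with hv
  have h1 : B.co v p * B.co v p + B.co v q * B.co v q = 1 := by
    rw [← Finset.sum_pair (f := fun l => B.co v l * B.co v l) hpq, ← B.ip_supp hs, hv, B.ip_ap, B.ip_b_self]
  have hp0 : B.co v p ≠ 0 := fun h => by
    rw [h] at h1 heq
    exact zero_ne_one (show (0 : F) = 1 by linear_combination h1 + heq)
  have hq0 : B.co v q ≠ 0 := fun h => by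
    rw [h] at h1 heq
    exact zero_ne_one (show (0 : F) = 1 by linear_combination h1 - heq)
  have hkm : ¬ B.Mono k := fun h =>
    hpq (Finset.card_le_one.mp (h c) p (B.mem_supp.mpr hp0) q (B.mem_supp.mpr hq0))
  have axis : ∀ a b, ¬ B.supp (ap k (B.b a)) ⊆ {b} := fun a b h => hkm (B.line_mono hM hp hn hno hk h)
  obtain ⟨r, s, hrs, hr, hs'⟩ := exists_two_out (S := ({p, q} : Finset κ)) (by
    have := Finset.card_le_two (a := p) (b := q); omega)
  obtain ⟨t, x, htx, ht, hx⟩ := exists_two_out (S := ({p, q, r, s} : Finset κ)) (by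
    have := Finset.card_insert_le p ({q, r, s} : Finset κ)
    have := Finset.card_le_three (a := q) (b := r) (c := s)
    omega)
  simp only [Finset.mem_insert, Finset.mem_singleton, not_or] at hr hs' ht hx
  have huniv : ∀ a, a = p ∨ a = q ∨ a = r ∨ a = s ∨ a = t ∨ a = x := by
    have h6 : ({p, q, r, s, t, x} : Finset κ) = Finset.univ := by
      refine Finset.eq_univ_of_card _ ?_
      rw [hn, Finset.card_insert_of_notMem (by simp [hpq, Ne.symm hr.1, Ne.symm hs'.1, Ne.symm ht.1, Ne.symm hx.1]),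
        Finset.card_insert_of_notMem (by simp [Ne.symm hr.2, Ne.symm hs'.2, Ne.symm ht.2.1, Ne.symm hx.2.1]),
        Finset.card_insert_of_notMem (by simp [hrs, Ne.symm ht.2.2.1, Ne.symm hx.2.2.1]),
        Finset.card_insert_of_notMem (by simp [Ne.symm ht.2.2.2, Ne.symm hx.2.2.2]), Finset.card_pair htx]
    intro a
    have := Finset.mem_univ a
    rw [← h6] at this
    simpa using this
  have hz : ∀ a, a ≠ p → a ≠ q → B.co v a = 0 := fun a h1 h2 => B.co_eq_zero hs (by simp [h1, h2])
  have fixd : ∀ a b, a ≠ b → a ≠ p → a ≠ q → b ≠ p → b ≠ q → ap (B.d a b) v = v := fun a b hab h1 h2 h3 h4 =>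
    B.ext_co fun l => by
      rw [B.co_d hab]
      split_ifs with h
      · rcases h with rfl | rfl
        · rw [hz l h1 h2, neg_zero]
        · rw [hz l h3 h4, neg_zero]
      · rfl
  have perm : ∀ a b, a ≠ b → a ≠ p → a ≠ q → b ≠ p → b ≠ q → ∃ (π : κ → κ), Function.Injective π ∧ π c = c ∧
      ∀ l, ∃ σ : F, σ * σ = 1 ∧ ap (B.d a b) (ap k (B.b l)) = σ • ap k (B.b (π l)) := fun a b hab h1 h2 h3 h4 =>
    B.perm_of_fix hM hp hn hno hk ⟨B.d a b, B.d_in hM a b, fixd a b hab h1 h2 h3 h4⟩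
  obtain ⟨π₁, h1i, h1c, h1l⟩ := perm r s hrs hr.1 hr.2 hs'.1 hs'.2
  obtain ⟨π₂, h2i, h2c, h2l⟩ := perm r t (Ne.symm ht.2.2.1) hr.1 hr.2 ht.1 ht.2.1
  obtain ⟨π₃, h3i, h3c, h3l⟩ := perm r x (Ne.symm hx.2.2.1) hr.1 hr.2 hx.1 hx.2.1
  have dd : ∀ a b, a ≠ b → ∀ y, ap (B.d a b) (ap (B.d a b) y) = y := fun a b hab y => B.ext_co fun l => by
    rw [B.co_d hab, B.co_d hab]; split_ifs <;> ring
  have comm : ∀ a b a' b', a ≠ b → a' ≠ b' → ∀ y, ap (B.d a b) (ap (B.d a' b') y) = ap (B.d a' b') (ap (B.d a b) y) :=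
    fun a b a' b' h h' y => B.ext_co fun l => by
      simp only [B.co_d h, B.co_d h']; split_ifs <;> ring
  have inv : ∀ {a b : κ} {π : κ → κ}, a ≠ b →
      (∀ l, ∃ σ : F, σ * σ = 1 ∧ ap (B.d a b) (ap k (B.b l)) = σ • ap k (B.b (π l))) → ∀ l, π (π l) = l := by
    intro a b π hab h l
    obtain ⟨σ, hσ, h1⟩ := h l
    obtain ⟨τ, hτ, h2⟩ := h (π l)
    have e := dd a b hab (ap k (B.b l))
    rw [h1, map_smul, h2, smul_smul] at e
    exact (B.line_unique one_ne_zero (τ := σ * τ) (by rw [one_smul]; exact e.symm)).symm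
  have com : ∀ {a b a' b' : κ} {π π' : κ → κ}, a ≠ b → a' ≠ b' →
      (∀ l, ∃ σ : F, σ * σ = 1 ∧ ap (B.d a b) (ap k (B.b l)) = σ • ap k (B.b (π l))) →
      (∀ l, ∃ σ : F, σ * σ = 1 ∧ ap (B.d a' b') (ap k (B.b l)) = σ • ap k (B.b (π' l))) →
      ∀ l, π (π' l) = π' (π l) := by
    intro a b a' b' π π' hab hab' h h' l
    obtain ⟨σ', hσ', e1⟩ := h' l
    obtain ⟨σ, hσ, e2⟩ := h (π' l)
    obtain ⟨τ, hτ, e3⟩ := h l
    obtain ⟨τ', hτ', e4⟩ := h' (π l)
    have e := comm a b a' b' hab hab' (ap k (B.b l))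
    rw [e1, map_smul, e2, e3, map_smul, e4, smul_smul, smul_smul] at e
    exact B.line_unique (mul_ne_zero (fun h => zero_ne_one (by rw [← hσ', h, mul_zero]))
      (fun h => zero_ne_one (by rw [← hσ, h, mul_zero]))) e
  set S := (Finset.univ : Finset κ).erase c with hS
  have hmemS : ∀ {π : κ → κ}, Function.Injective π → π c = c → ∀ l ∈ S, π l ∈ S := fun hπ hc l hl =>
    Finset.mem_erase.mpr ⟨fun h => (Finset.mem_erase.mp hl).1 (hπ (h.trans hc.symm)), Finset.mem_univ _⟩
  have odd1 := odd_fixed (s := S) (by rw [hS, Finset.card_erase_of_mem (Finset.mem_univ c), Finset.card_univ, hn]; decide)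
    π₁ (hmemS h1i h1c) fun l _ => inv hrs h1l l
  have odd2 := odd_fixed odd1 π₂ (fun l hl => by
    rw [Finset.mem_filter] at hl ⊢
    exact ⟨hmemS h2i h2c l hl.1, by rw [com hrs (Ne.symm ht.2.2.1) h1l h2l, hl.2]⟩)
    fun l _ => inv (Ne.symm ht.2.2.1) h2l l
  have odd3 := odd_fixed odd2 π₃ (fun l hl => by
    simp only [Finset.mem_filter] at hl ⊢
    exact ⟨⟨hmemS h3i h3c l hl.1.1, by rw [com hrs (Ne.symm hx.2.2.1) h1l h3l, hl.1.2]⟩,
      by rw [com (Ne.symm ht.2.2.1) (Ne.symm hx.2.2.1) h2l h3l, hl.2]⟩)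
    fun l _ => inv (Ne.symm hx.2.2.1) h3l l
  obtain ⟨l, hl⟩ := Finset.card_pos.mp odd3.pos
  simp only [Finset.mem_filter, hS, Finset.mem_erase] at hl
  obtain ⟨σ₁, hσ₁, e1⟩ := h1l l
  obtain ⟨σ₂, hσ₂, e2⟩ := h2l l
  obtain ⟨σ₃, hσ₃, e3⟩ := h3l l
  rw [hl.1.1.2] at e1
  rw [hl.1.2] at e2
  rw [hl.2] at e3
  set u := ap k (B.b l) with hu
  have cls : ∀ {a b : κ} {σ : F}, a ≠ b → σ * σ = 1 → ap (B.d a b) u = σ • u →
      B.supp u ⊆ {a, b} ∨ (B.co u a = 0 ∧ B.co u b = 0) := fun hab hσ h => by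
    rcases sq_one_cases hσ with rfl | rfl
    · exact Or.inr (B.co_pos_d hab (by rw [h, one_smul]))
    · exact Or.inl (B.supp_neg_d hab (by rw [h, neg_one_smul]))
  obtain hc1 | hc1 := cls hrs hσ₁ e1
  · obtain hc2 | hc2 := cls (Ne.symm ht.2.2.1) hσ₂ e2
    · refine axis l r fun a ha => ?_
      have i1 := hc1 ha; have i2 := hc2 ha
      simp only [Finset.mem_insert, Finset.mem_singleton] at i1 i2 ⊢
      exact i1.resolve_right fun e => by rcases i2 with h | h <;> [exact hrs (h ▸ e); exact ht.2.2.2 (h ▸ e)]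
    · refine axis l s fun a ha => ?_
      have i1 := hc1 ha
      simp only [Finset.mem_insert, Finset.mem_singleton] at i1 ⊢
      exact i1.resolve_left fun e => B.mem_supp.mp ha (e ▸ hc2.1)
  obtain hc2 | hc2 := cls (Ne.symm ht.2.2.1) hσ₂ e2
  · refine axis l t fun a ha => ?_
    have i2 := hc2 ha
    simp only [Finset.mem_insert, Finset.mem_singleton] at i2 ⊢
    exact i2.resolve_left fun e => B.mem_supp.mp ha (e ▸ hc1.1)
  obtain hc3 | hc3 := cls (Ne.symm hx.2.2.1) hσ₃ e3
  · refine axis l x fun a ha => ?_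
    have i3 := hc3 ha
    simp only [Finset.mem_insert, Finset.mem_singleton] at i3 ⊢
    exact i3.resolve_left fun e => B.mem_supp.mp ha (e ▸ hc1.1)
  refine hkm (B.pair_pair hM hp hn hno hk (Ne.symm hl.1.1.1.1) hpq hs fun a ha => ?_)
  have ha' := B.mem_supp.mp ha
  simp only [Finset.mem_insert, Finset.mem_singleton]
  rcases huniv a with h | h | h | h | h | h
  · exact Or.inl h
  · exact Or.inr h
  all_goals exfalso; subst h
  · exact ha' hc1.1
  · exact ha' hc1.2
  · exact ha' hc2.2
  · exact ha' hc3.2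

include hM hp hn hno in
/-- No column of an element of `K` has four equal squares. -/
theorem halves_false {k : Cfsg.isometryGroup F (⇑Q)} (hk : k ∈ K) {o a b c d e f : κ} (hab : a ≠ b) (hbc : b ≠ c)
    (hac : a ≠ c) (hcd : c ≠ d) (had : a ≠ d) (hbd : b ≠ d) (hef : e ≠ f)
    (he : e ≠ a ∧ e ≠ b ∧ e ≠ c ∧ e ≠ d) (hf : f ≠ a ∧ f ≠ b ∧ f ≠ c ∧ f ≠ d)
    (h0 : B.co (ap k (B.b o)) e = 0 ∧ B.co (ap k (B.b o)) f = 0) {h : F} (hh : h ≠ 0)
    (hsq : ∀ l, l = a ∨ l = b ∨ l = c ∨ l = d → B.co (ap k (B.b o)) l * B.co (ap k (B.b o)) l = h) : False := by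
  classical
  set v := ap k (B.b o) with hv
  have hva : ∀ l, l = a ∨ l = b ∨ l = c ∨ l = d → B.co v l ≠ 0 := fun l hl hz =>
    hh (by rw [← hsq l hl, hz, mul_zero])
  have hkm : ¬ B.Mono k := fun hm => hab (Finset.card_le_one.mp (hm o) a (B.mem_supp.mpr (hva a (by simp)))
    b (B.mem_supp.mpr (hva b (by simp))))
  have axis : ∀ a b, ¬ B.supp (ap k (B.b a)) ⊆ {b} := fun a b h => hkm (B.line_mono hM hp hn hno hk h)
  have huniv : ∀ l, l = a ∨ l = b ∨ l = c ∨ l = d ∨ l = e ∨ l = f := by
    have h6 : ({a, b, c, d, e, f} : Finset κ) = Finset.univ := by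
      refine Finset.eq_univ_of_card _ ?_
      rw [hn, Finset.card_insert_of_notMem (by simp [hab, hac, had, Ne.symm he.1, Ne.symm hf.1]),
        Finset.card_insert_of_notMem (by simp [hbc, hbd, Ne.symm he.2.1, Ne.symm hf.2.1]),
        Finset.card_insert_of_notMem (by simp [hcd, Ne.symm he.2.2.1, Ne.symm hf.2.2.1]),
        Finset.card_insert_of_notMem (by simp [Ne.symm he.2.2.2, Ne.symm hf.2.2.2]), Finset.card_pair hef]
    intro l
    have := Finset.mem_univ l
    rw [← h6] at this
    simpa using this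
  -- sign matched roots fix the column
  have root : ∀ p q, p ≠ q → (p = a ∨ p = b ∨ p = c ∨ p = d) → (q = a ∨ q = b ∨ q = c ∨ q = d) →
      ∃ ε : F, ε * ε = 1 ∧ ap (rr Q (B.b p - ε • B.b q)) v = v ∧ ∀ (y : ι → F) l,
        B.co (ap (rr Q (B.b p - ε • B.b q)) y) l * B.co v l =
          B.co y (Equiv.swap p q l) * B.co v (Equiv.swap p q l) := by
    intro p q hpq hp' hq'
    have hε : B.co v p / B.co v q * (B.co v p / B.co v q) = 1 := by
      rw [div_mul_div_comm, hsq p hp', hsq q hq', div_self hh]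
    refine ⟨_, hε, B.rr_fix (by rw [B.ip_root hpq hε]; exact B.two) (by
      rw [B.ip_sub_left, B.ip_smul_left, B.ip_b_left, B.ip_b_left, div_mul_cancel₀ _ (hva q hq'), sub_self]),
      fun y l => ?_⟩
    set ε := B.co v p / B.co v q with hεdef
    have hvp : B.co v p = ε * B.co v q := (div_mul_cancel₀ _ (hva q hq')).symm
    rw [B.rr_apply (by rw [B.ip_root hpq hε]; exact B.two), B.ip_root hpq hε, mul_div_cancel_left₀ _ B.two,
      B.ip_sub_left, B.ip_smul_left, B.ip_b_left, B.ip_b_left, B.co_sub, B.co_smul, B.co_sub, B.co_smul, B.co_b,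
      B.co_b]
    by_cases h1 : l = p
    · subst h1
      rw [Equiv.swap_apply_left, if_pos rfl, if_neg (Ne.symm hpq), hvp]
      linear_combination (B.co y q * B.co v q) * hε
    by_cases h2 : l = q
    · subst h2
      rw [Equiv.swap_apply_right, if_pos rfl, if_neg hpq, hvp]
      linear_combination (B.co v l * B.co y l) * (1 - ε * ε) * 0 + (-(B.co y l * B.co v l)) * hε
    rw [Equiv.swap_apply_of_ne_of_ne h1 h2, if_neg (Ne.symm h1), if_neg (Ne.symm h2)]
    ring
  set D := B.d e f with hD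
  have hDv : ap D v = v := B.ext_co fun l => by
    rw [hD, B.co_d hef]
    split_ifs with hl
    · rcases hl with rfl | rfl
      · rw [h0.1, neg_zero]
      · rw [h0.2, neg_zero]
    · rfl
  obtain ⟨π, hπi, hπo, hπl⟩ := B.perm_of_fix hM hp hn hno hk ⟨D, B.d_in hM e f, hDv⟩
  have hπ2 : ∀ l, π (π l) = l := fun l => by
    obtain ⟨σ, hσ, h1⟩ := hπl l
    obtain ⟨τ, hτ, h2⟩ := hπl (π l)
    have e' : ap D (ap D (ap k (B.b l))) = ap k (B.b l) := B.ext_co fun m => by
      rw [hD, B.co_d hef, B.co_d hef]; split_ifs <;> ring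
    rw [h1, map_smul, h2, smul_smul] at e'
    exact (B.line_unique one_ne_zero (τ := σ * τ) (by rw [one_smul]; exact e'.symm)).symm
  set S := (Finset.univ.erase o).filter fun l => π l = l with hS
  have hSodd : Odd S.card := odd_fixed (by rw [Finset.card_erase_of_mem (Finset.mem_univ o), Finset.card_univ, hn]; decide)
    π (fun l hl => Finset.mem_erase.mpr ⟨fun h => (Finset.mem_erase.mp hl).1 (hπi (h.trans hπo.symm)),
      Finset.mem_univ _⟩) fun l _ => hπ2 l
  have hSo : ∀ l ∈ S, l ≠ o := fun l hl => (Finset.mem_erase.mp (Finset.mem_filter.mp hl).1).1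
  have hScls : ∀ l ∈ S, B.supp (ap k (B.b l)) ⊆ {e, f} ∨
      (B.co (ap k (B.b l)) e = 0 ∧ B.co (ap k (B.b l)) f = 0) := fun l hl => by
    obtain ⟨σ, hσ, h1⟩ := hπl l
    rw [(Finset.mem_filter.mp hl).2] at h1
    rcases sq_one_cases hσ with rfl | rfl
    · exact Or.inr (B.co_pos_d hef (by rw [← hD, h1, one_smul]))
    · exact Or.inl (B.supp_neg_d hef (by rw [← hD, h1, neg_one_smul]))
  by_cases hef' : ∃ l ∈ S, B.supp (ap k (B.b l)) ⊆ {e, f}
  · -- a column in the last plane
    obtain ⟨l, hl, hls⟩ := hef'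
    obtain ⟨ε, hε, hεv, -⟩ := root a b hab (by simp) (by simp)
    set τ := rr Q (B.b a - ε • B.b b) * B.sw e f with hτ
    have hτK : τ ∈ K := B.root_pair_in hM hab hef hε (one_mul 1)
    have hswv : ap (B.sw e f) v = v := B.sw_fix hef h0.1 h0.2
    obtain ⟨π', -, -, hπ'⟩ := B.perm_of_fix hM hp hn hno hk ⟨τ, hτK, by rw [hτ, ap_mul, hswv, hεv]⟩
    obtain ⟨σ, hσ, h1⟩ := hπ' l
    set u := ap k (B.b l) with hu
    have hco : ∀ m, B.co (ap τ u) m = B.co u (Equiv.swap e f m) := fun m => by
      rw [hτ, ap_mul, B.rr_fix (by rw [B.ip_root hab hε]; exact B.two) (by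
        rw [B.ip_sub_left, B.ip_smul_left, B.ip_b_left, B.ip_b_left, B.co_sw hef, B.co_sw hef,
          Equiv.swap_apply_of_ne_of_ne (Ne.symm he.1) (Ne.symm hf.1),
          Equiv.swap_apply_of_ne_of_ne (Ne.symm he.2.1) (Ne.symm hf.2.1),
          B.co_eq_zero hls (by simp [Ne.symm he.1, Ne.symm hf.1]),
          B.co_eq_zero hls (by simp [Ne.symm he.2.1, Ne.symm hf.2.1])]
        ring), B.co_sw hef]
    by_cases hll : π' l = l
    · rw [hll] at h1
      have g1 := congrArg (fun y => B.co y e) h1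
      simp only [hco, Equiv.swap_apply_left, B.co_smul, ← hu] at g1
      exact B.root_false hM hp hn hno hk hef hls (by
        rw [← hu]; linear_combination (-(σ * B.co u e + B.co u f)) * g1 - B.co u e * B.co u e * hσ)
    · have g1 := congrArg (fun y => B.ip u y) h1
      simp only [B.ip_smul_right] at g1
      rw [hu, B.ip_ap, B.ip_b_ne (Ne.symm hll), mul_zero, ← hu, B.ip_supp hls, Finset.sum_pair hef, hco, hco,
        Equiv.swap_apply_left, Equiv.swap_apply_right] at g1
      have : B.co u e * B.co u f = 0 :=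
        (mul_eq_zero.mp (show (2 : F) * (B.co u e * B.co u f) = 0 by linear_combination g1)).resolve_left B.two
      rcases mul_eq_zero.mp this with hz | hz
      · exact axis l f fun m hm => by
          have := hls hm
          simp only [Finset.mem_insert, Finset.mem_singleton] at this ⊢
          exact this.resolve_left fun h' => B.mem_supp.mp hm (h' ▸ hz)
      · exact axis l e fun m hm => by
          have := hls hm
          simp only [Finset.mem_insert, Finset.mem_singleton] at this ⊢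
          exact this.resolve_right fun h' => B.mem_supp.mp hm (h' ▸ hz)
  push Not at hef'
  have havoid : ∀ l ∈ S, B.co (ap k (B.b l)) e = 0 ∧ B.co (ap k (B.b l)) f = 0 := fun l hl =>
    (hScls l hl).resolve_left (hef' l hl)
  by_cases h3 : 3 ≤ S.card
  · -- the inverse takes the last plane into a pair
    have hT : ((Finset.univ.erase o) \ S).card ≤ 2 := by
      rw [Finset.card_sdiff_of_subset (Finset.filter_subset _ _),
        Finset.card_erase_of_mem (Finset.mem_univ o), Finset.card_univ, hn, ← hS]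
      omega
    obtain ⟨T, hTsub, -, hT2⟩ := Finset.exists_subsuperset_card_eq (Finset.subset_univ ((Finset.univ.erase o) \ S)) hT
      (by rw [Finset.card_univ, hn]; norm_num)
    obtain ⟨l₁, l₂, hl12, rfl⟩ := Finset.card_eq_two.mp hT2
    have key : ∀ x, B.co v x = 0 → (∀ l ∈ S, B.co (ap k (B.b l)) x = 0) →
        B.supp (ap k⁻¹ (B.b x)) ⊆ {l₁, l₂} := fun x hx hxS m hm => by
      have e1 : B.co (ap k⁻¹ (B.b x)) m = B.co (ap k (B.b m)) x := by
        rw [← B.ip_b_right, B.ip_ap_left, inv_inv, B.ip_b_left]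
      have hm' := B.mem_supp.mp hm
      rw [e1] at hm'
      refine hTsub (Finset.mem_sdiff.mpr ⟨Finset.mem_erase.mpr ⟨fun h' => hm' (h' ▸ hx), Finset.mem_univ _⟩,
        fun h' => hm' (hxS m h')⟩)
    have := B.pair_pair hM hp hn hno (K.inv_mem hk) hef hl12 (key e h0.1 fun l hl => (havoid l hl).1)
      (key f h0.2 fun l hl => (havoid l hl).2)
    exact hkm (B.mono_inv_iff.mp this)
  have hS1 : S.card = 1 := by obtain ⟨t, ht⟩ := hSodd; omega
  obtain ⟨l, hSl⟩ := Finset.card_eq_one.mp hS1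
  have hlS : l ∈ S := by rw [hSl]; simp
  set u := ap k (B.b l) with hu
  -- the column is invariant under the stabiliser
  have eigen : ∀ {p q r s : κ}, p ≠ q → r ≠ s → (p = a ∨ p = b ∨ p = c ∨ p = d) → (q = a ∨ q = b ∨ q = c ∨ q = d) →
      (r = a ∨ r = b ∨ r = c ∨ r = d) → (s = a ∨ s = b ∨ s = c ∨ s = d) → ∃ σ : F, σ * σ = 1 ∧
      ∀ m, B.co u (Equiv.swap r s (Equiv.swap p q m)) * B.co v (Equiv.swap r s (Equiv.swap p q m)) =
        σ * (B.co u m * B.co v m) := by
    intro p q r s hpq hrs hp' hq' hr' hs'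
    obtain ⟨ε, hε, hεv, hεc⟩ := root p q hpq hp' hq'
    obtain ⟨ε', hε', hεv', hεc'⟩ := root r s hrs hr' hs'
    set m' := rr Q (B.b p - ε • B.b q) * rr Q (B.b r - ε' • B.b s) with hm'
    have hm'v : ap m' v = v := by rw [hm', ap_mul, hεv', hεv]
    obtain ⟨π', hπ'i, hπ'o, hπ'⟩ := B.perm_of_fix hM hp hn hno hk ⟨m', B.root_pair_in hM hpq hrs hε hε', hm'v⟩
    obtain ⟨σ, hσ, h1⟩ := hπ' l
    have hfe : ∀ {g' : Cfsg.isometryGroup F (⇑Q)} {p q : κ} {ε : F}, p ≠ q → ε * ε = 1 → p ≠ e → p ≠ f → q ≠ e →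
        q ≠ f → g' = rr Q (B.b p - ε • B.b q) → ∀ y, ap D (ap g' y) = ap g' (ap D y) := by
      intro g' p q ε hpq hε h1 h2 h3 h4 hg y
      subst hg
      have hR : ap D (B.b p - ε • B.b q) = B.b p - ε • B.b q := B.ext_co fun m => by
        rw [hD, B.co_d hef, B.co_sub, B.co_smul, B.co_b, B.co_b]
        split_ifs <;> first | (rename_i h _ _; rcases h with rfl | rfl <;> contradiction) | ring | skip
        all_goals simp_all
      have hc := rr_conj D (B.b p - ε • B.b q)
      rw [hR] at hc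
      rw [← ap_mul, ← ap_mul]
      congr 2
      exact (mul_inv_eq_iff_eq_mul.mp hc)
    have ne : ∀ {x}, (x = a ∨ x = b ∨ x = c ∨ x = d) → x ≠ e ∧ x ≠ f := by
      rintro x (rfl | rfl | rfl | rfl)
      exacts [⟨Ne.symm he.1, Ne.symm hf.1⟩, ⟨Ne.symm he.2.1, Ne.symm hf.2.1⟩, ⟨Ne.symm he.2.2.1, Ne.symm hf.2.2.1⟩,
        ⟨Ne.symm he.2.2.2, Ne.symm hf.2.2.2⟩]
    have hDm : ∀ y, ap D (ap m' y) = ap m' (ap D y) := fun y => by
      rw [hm', ap_mul, ap_mul, hfe hpq hε (ne hp').1 (ne hp').2 (ne hq').1 (ne hq').2 rfl,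
        hfe hrs hε' (ne hr').1 (ne hr').2 (ne hs').1 (ne hs').2 rfl]
    have hll : π' l = l := by
      obtain ⟨τ, hτ, h2⟩ := hπl l
      rw [(Finset.mem_filter.mp hlS).2] at h2
      obtain ⟨τ', hτ', h3⟩ := hπl (π' l)
      have e' := hDm u
      rw [hu, h1, map_smul, h3, h2, map_smul, h1, smul_smul, smul_smul] at e'
      have hfix := B.line_unique (mul_ne_zero (fun h => zero_ne_one (by rw [← hσ, h, mul_zero]))
        (fun h => zero_ne_one (by rw [← hτ', h, mul_zero]))) e'
      have : π' l ∈ S := Finset.mem_filter.mpr ⟨Finset.mem_erase.mpr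
        ⟨fun h' => hSo l hlS (hπ'i (h'.trans hπ'o.symm)), Finset.mem_univ _⟩, hfix⟩
      rw [hSl, Finset.mem_singleton] at this
      exact this
    refine ⟨σ, hσ, fun m => ?_⟩
    have g1 := congrArg (fun y => B.co y m * B.co v m) h1
    simp only [hll, B.co_smul] at g1
    rw [hm', ap_mul, hεc, hεc', ← hu] at g1
    rw [g1]; ring
  obtain ⟨σ, hσ, hcyc⟩ := eigen hab hbc (by simp) (by simp) (by simp) (by simp)
  obtain ⟨σ', hσ', hpair⟩ := eigen hab hcd (by simp) (by simp) (by simp) (by simp)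
  set ya := B.co u a * B.co v a with hya
  set yb := B.co u b * B.co v b with hyb
  set yc := B.co u c * B.co v c with hyc
  set yd := B.co u d * B.co v d with hyd
  have c1 := hcyc a; have c2 := hcyc b; have c3 := hcyc c
  rw [Equiv.swap_apply_left, Equiv.swap_apply_left, ← hya, ← hyc] at c1
  rw [Equiv.swap_apply_right, Equiv.swap_apply_of_ne_of_ne hab hac, ← hya, ← hyb] at c2
  rw [Equiv.swap_apply_of_ne_of_ne hac.symm hbc.symm, Equiv.swap_apply_right, ← hyb, ← hyc] at c3
  have p1 := hpair a; have p2 := hpair c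
  rw [Equiv.swap_apply_left, Equiv.swap_apply_of_ne_of_ne hbc hbd, ← hya, ← hyb] at p1
  rw [Equiv.swap_apply_of_ne_of_ne hac.symm hbc.symm, Equiv.swap_apply_left, ← hyc, ← hyd] at p2
  have hsum : ya + yb + yc + yd = 0 := by
    have h1 : B.ip u v = 0 := by rw [hu, hv, B.ip_ap, B.ip_b_ne (hSo l hlS)]
    rw [B.ip_supp (T := {a, b, c, d}) (fun m hm => by
        rcases huniv m with h' | h' | h' | h' | h' | h'
        iterate 4 simp [h']
        · exact absurd (h' ▸ (havoid l hlS).1) (B.mem_supp.mp hm)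
        · exact absurd (h' ▸ (havoid l hlS).2) (B.mem_supp.mp hm)),
      Finset.sum_insert (by simp [hab, hac, had]), Finset.sum_insert (by simp [hbc, hbd]), Finset.sum_pair hcd] at h1
    linear_combination h1
  have hzero : ya = 0 ∧ yb = 0 ∧ yc = 0 ∧ yd = 0 := by
    rcases sq_one_cases hσ with rfl | rfl
    · rcases sq_one_cases hσ' with rfl | rfl
      · have : (2 : F) * ((2 : F) * ya) = 0 := by linear_combination hsum - p2 - p1 - 2 * c1
        have hy := (mul_eq_zero.mp ((mul_eq_zero.mp this).resolve_left B.two)).resolve_left B.two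
        exact ⟨hy, by linear_combination p1 + hy, by linear_combination c1 + hy, by linear_combination p2 + c1 + hy⟩
      · have : (2 : F) * ya = 0 := by linear_combination p1 + c2
        have hy := (mul_eq_zero.mp this).resolve_left B.two
        exact ⟨hy, by linear_combination p1 - hy, by linear_combination c1 + hy, by linear_combination p2 - c1 - hy⟩
    · have : (2 : F) * ya = 0 := by linear_combination c2 - c3 + c1
      have hy := (mul_eq_zero.mp this).resolve_left B.two
      exact ⟨hy, by linear_combination c2 - hy, by linear_combination c1 - hy,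
        by linear_combination hsum - c1 - c2 + hy⟩
  obtain ⟨m, hm⟩ := B.supp_ap_ne k l
  have hm' := B.mem_supp.mp hm
  rw [← hu] at hm'
  rcases huniv m with h' | h' | h' | h' | h' | h' <;> subst h'
  · exact mul_ne_zero hm' (hva m (by simp)) hzero.1
  · exact mul_ne_zero hm' (hva m (by simp)) hzero.2.1
  · exact mul_ne_zero hm' (hva m (by simp)) hzero.2.2.1
  · exact mul_ne_zero hm' (hva m (by simp)) hzero.2.2.2
  · exact hm' (havoid l hlS).1
  · exact hm' (havoid l hlS).2

end OFrame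

end Cfsg.Lib.Classical.OFr
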