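import Mathlib
import Cfsg.Agent.S0215
import Cfsg.Agent.Coprime.Generation

set_option autoImplicit false
set_option linter.unusedVariables false
set_option linter.unusedSimpArgs false
set_option linter.unusedSectionVars false
set_option linter.style.haveILetI false
set_option linter.flexible false

/-! A subgroup containing an isolated involution and the centralisers of a four group is everything. -/

namespace Cfsg.Lib.Classical.OFr

universe u

theorem isolated_eq_top {G : Type u} [Group G] [Finite G] (H : Subgroup G) {e u₁ u₂ : G} (he : e ∈ H)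
    (he1 : e ≠ 1) (he2 : e * e = 1) (hu₁ : u₁ ≠ 1) (hu₁2 : u₁ * u₁ = 1) (hu₂ : u₂ ≠ 1) (hu₂2 : u₂ * u₂ = 1)
    (hne : u₁ ≠ u₂) (hcomm : Commute u₁ u₂) (hcen : ∀ h ∈ H, h * e * h⁻¹ = e)
    (hfus : ∀ g, g * e * g⁻¹ ∈ H → g ∈ H)
    (hgen : ∀ g, Commute g u₁ ∨ Commute g u₂ ∨ Commute g (u₁ * u₂) → g ∈ H) : H = ⊤ := by
  classical
  haveI : Fact (Nat.Prime 2) := ⟨Nat.prime_two⟩
  -- a Sylow subgroup of `H` is one of `G`
  have hepH : IsPGroup 2 (Subgroup.zpowers (⟨e, he⟩ : H)) := by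
    refine IsPGroup.of_card (n := 1) ?_
    rw [Nat.card_zpowers, pow_one]
    exact orderOf_eq_prime (by rw [pow_two]; exact Subtype.ext he2) (fun h => he1 (congrArg Subtype.val h))
  obtain ⟨S₀, hS₀⟩ := hepH.exists_le_sylow
  have heS : e ∈ (S₀ : Subgroup H).map H.subtype :=
    ⟨⟨e, he⟩, hS₀ (Subgroup.mem_zpowers _), rfl⟩
  set S' := (S₀ : Subgroup H).map H.subtype with hS'
  have hS'H : S' ≤ H := Subgroup.map_subtype_le _
  obtain ⟨T, hT⟩ := (show IsPGroup 2 S' from S₀.isPGroup'.map _).exists_le_sylow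
  have hTS : (T : Subgroup G) ≤ S' := by
    by_contra hnot
    haveI : Group.IsNilpotent (T : Subgroup G) := T.isPGroup'.isNilpotent
    have hlt : S'.subgroupOf (T : Subgroup G) < ⊤ := lt_top_iff_ne_top.mpr fun h =>
      hnot (Subgroup.subgroupOf_eq_top.mp h)
    have hN := normalizerCondition_of_isNilpotent (G := (T : Subgroup G)) _ hlt
    obtain ⟨x, hxN, hxS⟩ := SetLike.exists_of_lt hN
    refine hxS ?_
    have hxe := (Subgroup.mem_normalizer_iff.mp hxN ⟨e, hT heS⟩).mp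
      (by rw [Subgroup.mem_subgroupOf]; exact heS)
    rw [Subgroup.mem_subgroupOf] at hxe
    have hxH : (x : G) ∈ H := hfus _ (hS'H hxe)
    have hsub : (S₀ : Subgroup H) ≤ (T : Subgroup G).comap H.subtype := fun y hy => hT ⟨y, hy, rfl⟩
    have hpg : IsPGroup 2 ((T : Subgroup G).comap H.subtype) :=
      T.isPGroup'.comap_of_injective _ H.subtype_injective
    have heq := S₀.is_maximal' hpg hsub
    rw [Subgroup.mem_subgroupOf]
    exact ⟨⟨x, hxH⟩, by rw [← heq]; exact x.2, rfl⟩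
  obtain ⟨N, hN, hNodd, hNc⟩ := Cfsg.Agent.S0215.result T e
    (orderOf_eq_prime (by rw [pow_two]; exact he2) he1) (hT heS) fun g hg => by
      have h1 : g * e * g⁻¹ ∈ H := hS'H (hTS hg)
      exact hcen g (hfus g h1)
  -- the odd normal subgroup lies in `H`
  let A : Subgroup G :=
    { carrier := {1, u₁, u₂, u₁ * u₂}
      mul_mem' := by
        have h21 : u₂ * u₁ = u₁ * u₂ := hcomm.eq.symm
        have a1 : u₁ * (u₁ * u₂) = u₂ := by rw [← mul_assoc, hu₁2, one_mul]
        have a2 : u₁ * u₂ * u₂ = u₁ := by rw [mul_assoc, hu₂2, mul_one]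
        have a3 : u₂ * (u₁ * u₂) = u₁ := by rw [← mul_assoc, h21, a2]
        have a4 : u₁ * u₂ * u₁ = u₂ := by rw [mul_assoc, h21, a1]
        have a5 : u₁ * u₂ * (u₁ * u₂) = 1 := by rw [mul_assoc, a3, hu₁2]
        rintro a b (rfl | rfl | rfl | rfl) (rfl | rfl | rfl | rfl) <;>
          simp [h21, a1, a2, a3, a4, a5, hu₁2, hu₂2]
      one_mem' := Or.inl rfl
      inv_mem' := by
        rintro a (rfl | rfl | rfl | rfl)
        · simp
        · simp [inv_eq_of_mul_eq_one_left hu₁2]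
        · simp [inv_eq_of_mul_eq_one_left hu₂2]
        · rw [mul_inv_rev, inv_eq_of_mul_eq_one_left hu₁2, inv_eq_of_mul_eq_one_left hu₂2, hcomm.eq.symm]
          simp }
  have hA : ∀ a ∈ A, a = 1 ∨ a = u₁ ∨ a = u₂ ∨ a = u₁ * u₂ := fun a ha => ha
  have hA2 : ∀ a : A, a * a = 1 := fun a => Subtype.ext (by
    rcases hA a a.2 with h | h | h | h <;> simp [h, hu₁2, hu₂2]
    calc u₁ * u₂ * (u₁ * u₂) = u₁ * (u₂ * u₁) * u₂ := by group
      _ = u₁ * (u₁ * u₂) * u₂ := by rw [hcomm.eq]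
      _ = 1 := by rw [← mul_assoc, hu₁2, one_mul, hu₂2])
  haveI : IsMulCommutative A := ⟨⟨fun a b => by
    have := hA2 (a * b)
    calc a * b = (a * b)⁻¹ := (inv_eq_of_mul_eq_one_left this).symm
      _ = b⁻¹ * a⁻¹ := mul_inv_rev a b
      _ = b * a := by rw [inv_eq_of_mul_eq_one_left (hA2 a), inv_eq_of_mul_eq_one_left (hA2 b)]⟩⟩
  have hncyc : ¬ IsCyclic A := fun hc => by
    obtain ⟨x, hx⟩ := hc.exists_generator
    have m1 : (⟨u₁, Or.inr (Or.inl rfl)⟩ : A) ∈ Subgroup.zpowers x := hx _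
    have m2 : (⟨u₂, Or.inr (Or.inr (Or.inl rfl))⟩ : A) ∈ Subgroup.zpowers x := hx _
    have hpow : ∀ y ∈ Subgroup.zpowers x, y = 1 ∨ y = x := fun y hy => by
      obtain ⟨n, rfl⟩ := hy
      rcases Int.even_or_odd n with ⟨k, rfl⟩ | ⟨k, rfl⟩
      · left; show x ^ (k + k) = 1; rw [← two_mul, zpow_mul, zpow_two, hA2, one_zpow]
      · right; show x ^ (2 * k + 1) = x; rw [zpow_add_one, zpow_mul, zpow_two, hA2, one_zpow, one_mul]
    rcases hpow _ m1 with h1 | h1
    · exact hu₁ (congrArg Subtype.val h1)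
    rcases hpow _ m2 with h2 | h2
    · exact hu₂ (congrArg Subtype.val h2)
    exact hne (congrArg Subtype.val (h1.trans h2.symm))
  have hA2g : IsPGroup 2 A := fun a => ⟨1, by rw [pow_one, pow_two]; exact hA2 a⟩
  obtain ⟨n, hn⟩ := hA2g.exists_card_eq
  have hcop : (Nat.card A).Coprime (Nat.card N) := by
    rw [hn]; exact Nat.Coprime.pow_left n hNodd.coprime_two_left
  have hNH : N ≤ H := by
    haveI := hN
    rw [← Cfsg.Lib.Coprime.centralizerJoin_eq hncyc (Subgroup.normalizer_eq_top (H := N) ▸ le_top) hcop]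
    refine iSup₂_le fun a ha g hg => hgen g ?_
    have hga : Commute g a := (Subgroup.mem_centralizer_iff.mp hg.2 a (by simp)).symm
    rcases hA a ha.1 with h | h | h | h
    · exact absurd h ha.2
    · exact Or.inl (h ▸ hga)
    · exact Or.inr (Or.inl (h ▸ hga))
    · exact Or.inr (Or.inr (h ▸ hga))
  refine eq_top_iff.mpr fun g _ => hfus g ?_
  have hd : e * g * e⁻¹ * g⁻¹ ∈ H := hNH (hNc g)
  have : g * e * g⁻¹ = e⁻¹⁻¹ * ((e * g * e⁻¹ * g⁻¹)) := by
    rw [inv_inv, inv_eq_of_mul_eq_one_left he2]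
    rw [show e * (e * g * e * g⁻¹) = e * e * g * e * g⁻¹ by group, he2, one_mul]
  rw [this]
  exact mul_mem (by simpa using he) hd

end Cfsg.Lib.Classical.OFr
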