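import Mathlib
import Cfsg.Agent.Classical.Orth.Frame.Six
import Cfsg.Agent.Classical.Orth.Frame.SixGroup

set_option autoImplicit false
set_option linter.unusedVariables false
set_option linter.unusedSimpArgs false
set_option linter.unusedSectionVars false
set_option linter.style.haveILetI false
set_option linter.flexible false

/-!
Six dimensions: in a proper overgroup of the monomial group no sign change of two coordinates is conjugate to a
monomial element outside the diagonal, and centralisers of monomial involutions are monomial.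
-/

namespace Cfsg.Lib.Classical.OFr

open Matrix Cfsg.Lib.Classical.Refl

universe u w

namespace OFrame

variable {F : Type u} [Field F] [Fintype F] [DecidableEq F] {ι : Type} [Fintype ι] [DecidableEq ι]
  {Q : QuadraticForm F (ι → F)} {κ : Type w} [Fintype κ] [DecidableEq κ] (B : OFrame Q κ)
  {K : Subgroup (Cfsg.isometryGroup F (⇑Q))}
  (hM : ∀ g ∈ Cfsg.Omega F (⇑Q), B.Mono g → g ∈ K) (hKO : K ≤ Cfsg.Omega F (⇑Q))
  (hp : (Fintype.card F).Prime) (hn : Fintype.card κ = 6) (hno : ¬ Cfsg.Omega F (⇑Q) ≤ K)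

theorem ext_basis {g h : Cfsg.isometryGroup F (⇑Q)} (e : ∀ l, ap g (B.b l) = ap h (B.b l)) : g = h := by
  have : ap g = ap h := B.b.ext e
  exact ap_ext fun x => by rw [this]

/-- The permutation and signs of a monomial involution. -/
theorem invol_data {w : Cfsg.isometryGroup F (⇑Q)} (hw : B.Mono w) (hw2 : w * w = 1) :
    ∃ (π : κ → κ) (σ : κ → F), (∀ a, π (π a) = a) ∧ (∀ a, σ a * σ a = 1) ∧ (∀ a, σ (π a) = σ a) ∧
      (∀ a, ap w (B.b a) = σ a • B.b (π a)) ∧ ∀ x a, B.co (ap w x) (π a) = σ a * B.co x a := by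
  obtain ⟨π, l, hl⟩ := B.mono_iff.mp hw
  have hsq : ∀ a, l a * l a = 1 := fun a => by
    have h := B.ip_ap w (B.b a) (B.b a)
    rwa [(hl a).1, B.ip_smul_left, B.ip_smul_right, B.ip_b_self, B.ip_b_self, mul_one] at h
  have h2 : ∀ a, π (π a) = a ∧ l a * l (π a) = 1 := fun a => by
    have h : ap w (ap w (B.b a)) = B.b a := by rw [← ap_mul, hw2, ap_one]
    rw [(hl a).1, map_smul, (hl (π a)).1, smul_smul] at h
    have hc := congrArg (fun x => B.co x a) h
    simp only [B.co_smul, B.co_b, ↓reduceIte] at hc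
    by_cases e : π (π a) = a
    · rw [if_pos e, mul_one] at hc
      exact ⟨e, hc⟩
    · rw [if_neg e, mul_zero] at hc
      exact absurd hc zero_ne_one
  refine ⟨π, l, fun a => (h2 a).1, hsq, fun a => ?_, fun a => (hl a).1, fun x a => ?_⟩
  · linear_combination l a * (h2 a).2 - l (π a) * hsq a
  · have h := B.ip_ap w x (B.b a)
    rw [(hl a).1, B.ip_smul_right, B.ip_b_right, B.ip_b_right] at h
    linear_combination l a * h - B.co (ap w x) (π a) * hsq a

/-- A sign change on an invariant pair commutes with a monomial involution. -/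
theorem d_comm {w : Cfsg.isometryGroup F (⇑Q)} {π : κ → κ} {σ : κ → F} (hπ : ∀ a, π (π a) = a)
    (hap : ∀ a, ap w (B.b a) = σ a • B.b (π a)) {p q : κ} (hpq : p ≠ q)
    (hp' : π p = p ∨ π p = q) (hq' : π q = p ∨ π q = q) : B.d p q * w = w * B.d p q := by
  refine B.ext_basis fun l => ?_
  rw [ap_mul, ap_mul, hap, map_smul]
  have hd : ∀ m, ap (B.d p q) (B.b m) = (if m = p ∨ m = q then (-1 : F) else 1) • B.b m := fun m =>
    B.ext_co fun n => by
      rw [B.co_d hpq, B.co_smul, B.co_b]
      by_cases hmn : m = n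
      · subst hmn; split_ifs <;> simp
      · simp [hmn]
  have hiff : (π l = p ∨ π l = q) ↔ (l = p ∨ l = q) := by
    constructor
    · rintro (h | h) <;> rw [← hπ l, h] <;> tauto
    · rintro (rfl | rfl) <;> tauto
  rw [hd, hd, map_smul, hap, smul_smul, smul_smul, mul_comm]
  by_cases h : l = p ∨ l = q
  · rw [if_pos h, if_pos (hiff.mpr h)]
  · rw [if_neg h, if_neg (fun h' => h (hiff.mp h'))]

/-- A conjugate of a sign change by a monomial element is diagonal. -/
theorem conj_d_diag {h : Cfsg.isometryGroup F (⇑Q)} (hh : B.Mono h) {i j : κ} (hij : i ≠ j) (l : κ) :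
    B.supp (ap (h * B.d i j * h⁻¹) (B.b l)) ⊆ {l} := by
  haveI : Nonempty κ := ⟨i⟩
  obtain ⟨n, hn'⟩ := Finset.card_le_one_iff_subset_singleton.mp (B.mono_inv hh l)
  obtain ⟨e, -⟩ := B.ap_line hn'
  set τ := B.co (ap h⁻¹ (B.b l)) n
  have hb : B.b l = τ • ap h (B.b n) := by rw [← map_smul, ← e, ap_ap_inv]
  obtain ⟨ε, hε⟩ : ∃ ε : F, ap (B.d i j) (B.b n) = ε • B.b n :=
    ⟨if n = i ∨ n = j then -1 else 1, B.ext_co fun m => by
      rw [B.co_d hij, B.co_smul, B.co_b]
      by_cases hmn : n = m
      · subst hmn; split_ifs <;> simp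
      · simp [hmn]⟩
  rw [ap_mul, ap_mul, e, map_smul, hε, map_smul, map_smul, smul_comm, ← hb]
  exact (B.supp_smul_subset _ _).trans (by rw [B.supp_b])

include hM hp hn hno in
/-- A conjugate of a sign change in the monomial group comes from the monomial group. -/
theorem fusion_mono {g : Cfsg.isometryGroup F (⇑Q)} (hg : g ∈ K) {i j : κ} (hij : i ≠ j)
    (hw : B.Mono (g * B.d i j * g⁻¹)) : B.Mono g := by
  classical
  by_contra hgm
  set wv := g * B.d i j * g⁻¹ with hwdef
  have hd2 : B.d i j * B.d i j = 1 := ap_ext fun x => B.ext_co fun l => by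
    rw [ap_mul, ap_one, B.co_d hij, B.co_d hij]; split_ifs <;> ring
  have hw2 : wv * wv = 1 := by
    rw [hwdef, show g * B.d i j * g⁻¹ * (g * B.d i j * g⁻¹) = g * (B.d i j * B.d i j) * g⁻¹ by group, hd2]; group
  obtain ⟨π, σ, hπ, hσ, hσπ, hap, hco⟩ := B.invol_data hw hw2
  have hu : ∀ l, l = i ∨ l = j → ap wv (ap g (B.b l)) = -ap g (B.b l) := fun l hl => by
    rw [hwdef, ap_mul, ap_mul, ap_inv_ap, show ap (B.d i j) (B.b l) = -B.b l from B.ext_co fun m => by
      rw [B.co_d hij, B.co_neg, B.co_b]
      by_cases h : l = m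
      · subst h; rw [if_pos hl]
      · simp [h], map_neg]
  have neg : ∀ x, ap wv x = -x → B.supp (ap g⁻¹ x) ⊆ {i, j} := fun x hx => B.supp_neg_d hij (by
    have := congrArg (ap g⁻¹) hx
    rwa [hwdef, ap_mul, ap_mul, ap_inv_ap, map_neg] at this)
  have three : ∀ y : Fin 3 → (ι → F), (∀ t, ap wv (y t) = -y t) → (∀ t, B.ip (y t) (y t) ≠ 0) →
      (∀ s t, s ≠ t → B.ip (y s) (y t) = 0) → False := fun y h1 h2 h3 => by
    have h := B.card_le_of_orth (α := Fin 3) (w := fun t => ap g⁻¹ (y t)) (fun t => by rw [B.ip_ap]; exact h2 t)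
      (fun s t hst => by rw [B.ip_ap]; exact h3 s t hst) (T := {i, j}) (fun t => neg _ (h1 t))
    rw [Fintype.card_fin, Finset.card_pair hij] at h
    omega
  have negco : ∀ x, ap wv x = -x → ∀ a, B.co x (π a) = -(σ a * B.co x a) := fun x hx a => by
    have := hco x a
    rw [hx, B.co_neg] at this
    linear_combination -this
  have axisneg : ∀ c, π c = c → σ c = -1 → ap wv (B.b c) = -B.b c := fun c h1 h2 => by
    rw [hap, h1, h2, neg_one_smul]
  have negzero : ∀ x, ap wv x = -x → ∀ c, π c = c → σ c = 1 → B.co x c = 0 := fun x hx c h1 h2 => by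
    have := negco x hx c
    rw [h1, h2] at this
    exact (mul_eq_zero.mp (show (2 : F) * B.co x c = 0 by linear_combination this)).resolve_left B.two
  by_cases hdiag : ∀ a, π a = a
  · -- a diagonal conjugate
    set N := Finset.univ.filter fun a => σ a = -1 with hN
    have hN2 : N.card ≤ 2 := by
      have h := B.card_le_of_orth (α := N) (w := fun a => ap g⁻¹ (B.b a.1)) (fun a => by
        rw [B.ip_ap, B.ip_b_self]; exact one_ne_zero)
        (fun a c hac => by rw [B.ip_ap, B.ip_b_ne fun e => hac (Subtype.ext e)]) (T := {i, j})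
        (fun a => neg _ (axisneg a.1 (hdiag _) (Finset.mem_filter.mp a.2).2))
      rwa [Fintype.card_coe, Finset.card_pair hij] at h
    obtain ⟨T, hT, -, hT2⟩ := Finset.exists_subsuperset_card_eq (Finset.subset_univ N) hN2
      (by rw [Finset.card_univ, hn]; norm_num)
    obtain ⟨p, q, hpq, rfl⟩ := Finset.card_eq_two.mp hT2
    have hs : ∀ l, l = i ∨ l = j → B.supp (ap g (B.b l)) ⊆ {p, q} := fun l hl a ha => hT (by
      rw [hN, Finset.mem_filter]
      refine ⟨Finset.mem_univ _, ?_⟩
      rcases sq_one_cases (hσ a) with h | h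
      · exact absurd (negzero _ (hu l hl) a (hdiag a) h) (B.mem_supp.mp ha)
      · exact h)
    exact hgm (B.pair_pair hM hp hn hno hg hij hpq (hs i (Or.inl rfl)) (hs j (Or.inr rfl)))
  push Not at hdiag
  obtain ⟨a, ha⟩ := hdiag
  set b := π a with hb
  have hab : a ≠ b := fun h => ha h.symm
  have hπb : π b = a := by rw [hb, hπ]
  -- the root of the moved pair
  have root : ∀ a, π a ≠ a → ap wv (B.b a - σ a • B.b (π a)) = -(B.b a - σ a • B.b (π a)) := fun a h => by
    rw [map_sub, map_smul, hap, hap, hπ, hσπ, smul_smul, hσ, one_smul]; abel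
  have rootnorm : ∀ a, π a ≠ a → B.ip (B.b a - σ a • B.b (π a)) (B.b a - σ a • B.b (π a)) ≠ 0 := fun a h => by
    rw [B.ip_root (Ne.symm h) (hσ a)]; exact B.two
  have rootip : ∀ {a c : κ}, c ≠ a → c ≠ π a → B.ip (B.b a - σ a • B.b (π a)) (B.b c) = 0 := fun h1 h2 => by
    rw [B.ip_sub_left, B.ip_smul_left, B.ip_b_ne h1.symm, B.ip_b_ne h2.symm]; ring
  have huu : B.ip (ap g (B.b i)) (ap g (B.b i)) = 1 := by rw [B.ip_ap, B.ip_b_self]
  set u := ap g (B.b i) with hudef
  have hui := hu i (Or.inl rfl)
  have hub : B.co u b = -(σ a * B.co u a) := negco u hui a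
  by_cases h4 : ∃ c, c ≠ a ∧ c ≠ b ∧ π c ≠ c
  · -- two moved pairs
    obtain ⟨c, hca, hcb, hc⟩ := h4
    set d := π c with hd
    have hcd : c ≠ d := fun h => hc h.symm
    have hπd : π d = c := by rw [hd, hπ]
    have hda : d ≠ a := fun h => hcb (by rw [← hπd, h])
    have hdb : d ≠ b := fun h => hca (by rw [← hπd, h, hπb])
    have hrest : ∀ e, e ≠ a → e ≠ b → e ≠ c → e ≠ d → π e = e ∧ σ e = 1 := fun e h1 h2 h3 h4 => by
      have hsame : π e = e := by
        by_contra he
        have e1 : π e ≠ a := fun h => h2 (by rw [← hπ e, h])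
        have e2 : π e ≠ b := fun h => h1 (by rw [← hπ e, h, hπb])
        have e3 : π e ≠ c := fun h => h4 (by rw [← hπ e, h])
        have e4 : π e ≠ d := fun h => h3 (by rw [← hπ e, h, hπd])
        refine three ![B.b a - σ a • B.b b, B.b c - σ c • B.b d, B.b e - σ e • B.b (π e)] ?_ ?_ ?_
        · intro t; fin_cases t
          exacts [root a ha, root c hc, root e he]
        · intro t; fin_cases t
          exacts [rootnorm a ha, rootnorm c hc, rootnorm e he]
        · intro s t hst
          fin_cases s <;> fin_cases t <;>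
            simp [B.ip_sub_left, B.ip_sub_right, B.ip_smul_left, B.ip_smul_right, B.ip_bb, hca, hcb, hda, hdb, h1,
              h2, h3, h4, e1, e2, e3, e4, Ne.symm hca, Ne.symm hcb, Ne.symm hda, Ne.symm hdb, Ne.symm h1, Ne.symm h2,
              Ne.symm h3, Ne.symm h4, Ne.symm e1, Ne.symm e2, Ne.symm e3, Ne.symm e4] at hst ⊢
      refine ⟨hsame, (sq_one_cases (hσ e)).resolve_right fun hm => ?_⟩
      refine three ![B.b a - σ a • B.b b, B.b c - σ c • B.b d, B.b e] ?_ ?_ ?_
      · intro t; fin_cases t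
        exacts [root a ha, root c hc, axisneg e hsame hm]
      · intro t; fin_cases t
        exacts [rootnorm a ha, rootnorm c hc, by simp [B.ip_b_self]]
      · intro s t hst
        fin_cases s <;> fin_cases t <;>
          simp [B.ip_sub_left, B.ip_sub_right, B.ip_smul_left, B.ip_smul_right, B.ip_bb, hca, hcb, hda, hdb, h1,
            h2, h3, h4, Ne.symm hca, Ne.symm hcb, Ne.symm hda, Ne.symm hdb, Ne.symm h1, Ne.symm h2, Ne.symm h3,
            Ne.symm h4] at hst ⊢
    have hsupp : B.supp u ⊆ {a, b, c, d} := fun m hm => by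
      by_contra hh
      simp only [Finset.mem_insert, Finset.mem_singleton, not_or] at hh
      obtain ⟨h1, h2⟩ := hrest m hh.1 hh.2.1 hh.2.2.1 hh.2.2.2
      exact B.mem_supp.mp hm (negzero u hui m h1 h2)
    have hud : B.co u d = -(σ c * B.co u c) := negco u hui c
    have hnorm : 2 * (B.co u a * B.co u a) + 2 * (B.co u c * B.co u c) = 1 := by
      rw [B.ip_supp hsupp, Finset.sum_insert (by simp [hab, Ne.symm hca, Ne.symm hda]),
        Finset.sum_insert (by simp [Ne.symm hcb, Ne.symm hdb]), Finset.sum_pair hcd, hub, hud] at huu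
      linear_combination huu - (B.co u a * B.co u a) * hσ a - (B.co u c * B.co u c) * hσ c
    -- the sign change on the first pair centralises
    have hdw := B.d_comm hπ hap hab (Or.inr rfl) (Or.inl hπb)
    set k := g⁻¹ * B.d a b * g with hk
    have hkK : k ∈ K := K.mul_mem (K.mul_mem (K.inv_mem hg) (B.d_in hM a b)) hg
    have hks : ∀ l, l = i ∨ l = j → B.supp (ap k (B.b l)) ⊆ {i, j} := fun l hl => by
      rw [hk, ap_mul, ap_mul]
      exact neg _ (by rw [← ap_mul, ← hdw, ap_mul, hu l hl, map_neg])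
    have hkm := B.pair_mono hM hp hn hno hkK hij (hks i (Or.inl rfl)) (hks j (Or.inr rfl))
    haveI : Nonempty κ := ⟨i⟩
    obtain ⟨n, hn'⟩ := Finset.card_le_one_iff_subset_singleton.mp (hkm i)
    obtain ⟨he, hτ⟩ := B.ap_line hn'
    set τ := B.co (ap k (B.b i)) n
    have hdu : ap (B.d a b) u = τ • ap g (B.b n) := by
      have := congrArg (ap g) he
      rwa [map_smul, hk, ap_mul, ap_mul, ap_ap_inv] at this
    by_cases hni : n = i
    · rw [hni, ← hudef] at hdu
      have ea := congrArg (fun x => B.co x a) hdu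
      have ec := congrArg (fun x => B.co x c) hdu
      simp only [B.co_d hab, B.co_smul, true_or, ↓reduceIte,
        if_neg (show ¬(c = a ∨ c = b) by simp [hca, hcb])] at ea ec
      rcases sq_one_cases hτ with h | h
      · have hs0 : B.co u a = 0 := (mul_eq_zero.mp (show (2 : F) * B.co u a = 0 by
          rw [h] at ea; linear_combination -ea)).resolve_left B.two
        refine B.root_false hM hp hn hno hg hcd (fun m hm => ?_) (by
          rw [← hudef, hud]; linear_combination (-(B.co u c * B.co u c)) * hσ c)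
        have h1 := hsupp hm
        simp only [Finset.mem_insert, Finset.mem_singleton] at h1 ⊢
        rcases h1 with rfl | rfl | h1 | h1
        · exact absurd hs0 (B.mem_supp.mp hm)
        · exact absurd (by rw [hub, hs0, mul_zero, neg_zero]) (B.mem_supp.mp hm)
        · exact Or.inl h1
        · exact Or.inr h1
      · have ht0 : B.co u c = 0 := (mul_eq_zero.mp (show (2 : F) * B.co u c = 0 by
          rw [h] at ec; linear_combination ec)).resolve_left B.two
        refine B.root_false hM hp hn hno hg hab (fun m hm => ?_) (by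
          rw [← hudef, hub]; linear_combination (-(B.co u a * B.co u a)) * hσ a)
        have h1 := hsupp hm
        simp only [Finset.mem_insert, Finset.mem_singleton] at h1 ⊢
        rcases h1 with h1 | h1 | rfl | rfl
        · exact Or.inl h1
        · exact Or.inr h1
        · exact absurd ht0 (B.mem_supp.mp hm)
        · exact absurd (by rw [hud, ht0, mul_zero, neg_zero]) (B.mem_supp.mp hm)
    · have hip : B.ip u (ap (B.d a b) u) = 0 := by
        rw [hdu, B.ip_smul_right, hudef, B.ip_ap, B.ip_b_ne (Ne.symm hni), mul_zero]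
      rw [B.ip_supp hsupp, Finset.sum_insert (by simp [hab, Ne.symm hca, Ne.symm hda]),
        Finset.sum_insert (by simp [Ne.symm hcb, Ne.symm hdb]), Finset.sum_pair hcd, B.co_d hab, B.co_d hab,
        B.co_d hab, B.co_d hab, if_pos (Or.inl rfl), if_pos (Or.inr rfl), if_neg (by simp [hca, hcb]),
        if_neg (by simp [hda, hdb]), hub, hud] at hip
      have hst : B.co u c * B.co u c = B.co u a * B.co u a := by
        have : (2 : F) * (B.co u c * B.co u c - B.co u a * B.co u a) = 0 := by
          linear_combination hip + (B.co u a * B.co u a) * hσ a - (B.co u c * B.co u c) * hσ c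
        exact sub_eq_zero.mp ((mul_eq_zero.mp this).resolve_left B.two)
      obtain ⟨e, f, hef, he', hf'⟩ := exists_two_out (S := ({a, b, c, d} : Finset κ)) (by
        have := Finset.card_insert_le a ({b, c, d} : Finset κ)
        have := Finset.card_le_three (a := b) (b := c) (c := d)
        omega)
      simp only [Finset.mem_insert, Finset.mem_singleton, not_or] at he' hf'
      refine B.halves_false hM hp hn hno hg hab (Ne.symm hcb) (Ne.symm hca) hcd (Ne.symm hda) (Ne.symm hdb) hef
        ⟨he'.1, he'.2.1, he'.2.2.1, he'.2.2.2⟩ ⟨hf'.1, hf'.2.1, hf'.2.2.1, hf'.2.2.2⟩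
        ⟨B.co_eq_zero hsupp (by simp [he'.1, he'.2.1, he'.2.2.1, he'.2.2.2]),
          B.co_eq_zero hsupp (by simp [hf'.1, hf'.2.1, hf'.2.2.1, hf'.2.2.2])⟩
        (h := B.co u a * B.co u a) (fun h0 => ?_) fun l hl => ?_
      · rw [h0] at hnorm hst
        exact zero_ne_one (show (0 : F) = 1 by linear_combination hnorm - 2 * hst)
      · rw [← hudef]
        rcases hl with rfl | rfl | rfl | rfl
        · rfl
        · rw [hub]; linear_combination (B.co u a * B.co u a) * hσ a
        · exact hst
        · rw [hud]; linear_combination (B.co u c * B.co u c) * hσ c + hst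
  -- one moved pair
  push Not at h4
  by_cases hneg : ∃ c, c ≠ a ∧ c ≠ b ∧ σ c = -1
  swap
  · push Not at hneg
    refine B.root_false hM hp hn hno hg hab (fun m hm => ?_) (by
      rw [← hudef, hub]; linear_combination (-(B.co u a * B.co u a)) * hσ a)
    by_contra hh
    simp only [Finset.mem_insert, Finset.mem_singleton, not_or] at hh
    exact B.mem_supp.mp hm (negzero u hui m (h4 m hh.1 hh.2)
      ((sq_one_cases (hσ m)).resolve_right (hneg m hh.1 hh.2)))
  obtain ⟨c, hca, hcb, hc⟩ := hneg
  have hπc := h4 c hca hcb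
  obtain ⟨m₀, hm₀⟩ := exists_out ({a, b, c} : Finset κ) (by
    have := Finset.card_le_three (a := a) (b := b) (c := c); omega)
  simp only [Finset.mem_insert, Finset.mem_singleton, not_or] at hm₀
  have hpos : ∀ m, m ≠ a → m ≠ b → m ≠ c → σ m = 1 := fun m h1 h2 h3 =>
    (sq_one_cases (hσ m)).resolve_right fun hm => three ![B.b a - σ a • B.b b, B.b c, B.b m]
      (fun t => by fin_cases t; exacts [root a ha, axisneg c hπc hc, axisneg m (h4 m h1 h2) hm])
      (fun t => by
        fin_cases t
        exacts [rootnorm a ha, by simp [B.ip_b_self], by simp [B.ip_b_self]])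
      (fun s t hst => by
        fin_cases s <;> fin_cases t <;>
          simp [B.ip_sub_left, B.ip_sub_right, B.ip_smul_left, B.ip_smul_right, B.ip_bb, hca, hcb, h1, h2, h3,
            Ne.symm hca, Ne.symm hcb, Ne.symm h1, Ne.symm h2, Ne.symm h3] at hst ⊢)
  have hsupp : B.supp u ⊆ {a, b, c} := fun m hm => by
    by_contra hh
    simp only [Finset.mem_insert, Finset.mem_singleton, not_or] at hh
    exact B.mem_supp.mp hm (negzero u hui m (h4 m hh.1 hh.2.1) (hpos m hh.1 hh.2.1 hh.2.2))
  have hdw := B.d_comm hπ hap (p := c) (q := m₀) (Ne.symm hm₀.2.2) (Or.inl hπc) (Or.inr (h4 m₀ hm₀.1 hm₀.2.1))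
  set k := g⁻¹ * B.d c m₀ * g with hk
  have hkK : k ∈ K := K.mul_mem (K.mul_mem (K.inv_mem hg) (B.d_in hM c m₀)) hg
  have hks : ∀ l, l = i ∨ l = j → B.supp (ap k (B.b l)) ⊆ {i, j} := fun l hl => by
    rw [hk, ap_mul, ap_mul]
    exact neg _ (by rw [← ap_mul, ← hdw, ap_mul, hu l hl, map_neg])
  have hkm := B.pair_mono hM hp hn hno hkK hij (hks i (Or.inl rfl)) (hks j (Or.inr rfl))
  haveI : Nonempty κ := ⟨i⟩
  obtain ⟨n, hn'⟩ := Finset.card_le_one_iff_subset_singleton.mp (hkm i)
  obtain ⟨he, hτ⟩ := B.ap_line hn'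
  set τ := B.co (ap k (B.b i)) n
  have hdu : ap (B.d c m₀) u = τ • ap g (B.b n) := by
    have := congrArg (ap g) he
    rwa [map_smul, hk, ap_mul, ap_mul, ap_ap_inv] at this
  have hnorm : 2 * (B.co u a * B.co u a) + B.co u c * B.co u c = 1 := by
    rw [B.ip_supp hsupp, Finset.sum_insert (by simp [hab, Ne.symm hca]), Finset.sum_pair (Ne.symm hcb), hub] at huu
    linear_combination huu - (B.co u a * B.co u a) * hσ a
  by_cases hni : n = i
  · rw [hni, ← hudef] at hdu
    have ea := congrArg (fun x => B.co x a) hdu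
    have ec := congrArg (fun x => B.co x c) hdu
    simp only [B.co_d (Ne.symm hm₀.2.2), B.co_smul, true_or, ↓reduceIte,
      if_neg (show ¬(a = c ∨ a = m₀) by simp [Ne.symm hca, Ne.symm hm₀.1])] at ea ec
    rcases sq_one_cases hτ with h | h
    · have ht0 : B.co u c = 0 := (mul_eq_zero.mp (show (2 : F) * B.co u c = 0 by
        rw [h] at ec; linear_combination -ec)).resolve_left B.two
      refine B.root_false hM hp hn hno hg hab (fun m hm => ?_) (by
        rw [← hudef, hub]; linear_combination (-(B.co u a * B.co u a)) * hσ a)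
      have h1 := hsupp hm
      simp only [Finset.mem_insert, Finset.mem_singleton] at h1 ⊢
      rcases h1 with h1 | h1 | rfl
      · exact Or.inl h1
      · exact Or.inr h1
      · exact absurd ht0 (B.mem_supp.mp hm)
    · have hs0 : B.co u a = 0 := (mul_eq_zero.mp (show (2 : F) * B.co u a = 0 by
        rw [h] at ea; linear_combination ea)).resolve_left B.two
      refine hgm (B.line_mono hM hp hn hno hg (i := i) (j := c) fun m hm => ?_)
      have h1 := hsupp hm
      simp only [Finset.mem_insert, Finset.mem_singleton] at h1 ⊢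
      rcases h1 with rfl | rfl | h1
      · exact absurd hs0 (B.mem_supp.mp hm)
      · exact absurd (by rw [hub, hs0, mul_zero, neg_zero]) (B.mem_supp.mp hm)
      · exact h1
  · have hip : B.ip u (ap (B.d c m₀) u) = 0 := by
      rw [hdu, B.ip_smul_right, hudef, B.ip_ap, B.ip_b_ne (Ne.symm hni), mul_zero]
    rw [B.ip_supp hsupp, Finset.sum_insert (by simp [hab, Ne.symm hca]), Finset.sum_pair (Ne.symm hcb),
      B.co_d (Ne.symm hm₀.2.2), B.co_d (Ne.symm hm₀.2.2), B.co_d (Ne.symm hm₀.2.2), if_pos (Or.inl rfl),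
      if_neg (by simp [Ne.symm hca, Ne.symm hm₀.1]), if_neg (by simp [Ne.symm hcb, Ne.symm hm₀.2.1]), hub] at hip
    have ht : 2 * (B.co u c * B.co u c) = 1 := by
      linear_combination hnorm - hip + (B.co u a * B.co u a) * hσ a
    have hr := neg (B.b c) (axisneg c hπc hc)
    have hri : B.co (ap g⁻¹ (B.b c)) i = B.co u c := by
      rw [← B.ip_b_right, B.ip_ap_left, inv_inv, B.ip_b_left]
    refine B.root_false hM hp hn hno (K.inv_mem hg) hij hr ?_
    have h1 : B.ip (ap g⁻¹ (B.b c)) (ap g⁻¹ (B.b c)) = 1 := by rw [B.ip_ap, B.ip_b_self]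
    rw [B.ip_supp hr, Finset.sum_pair hij, hri] at h1
    rw [hri]
    linear_combination ht - h1

include hKO in
theorem det_one {g : Cfsg.isometryGroup F (⇑Q)} (hg : g ∈ K) : detHom Q g = 1 :=
  hom_eq_one_of_omega Q _ (hKO hg)

theorem not_three_roots (B : OFrame Q κ) {a b c d e f : κ} {ε₁ ε₂ ε₃ : F} (hab : a ≠ b) (hcd : c ≠ d) (hef : e ≠ f)
    (h₁ : ε₁ * ε₁ = 1) (h₂ : ε₂ * ε₂ = 1) (h₃ : ε₃ * ε₃ = 1) :
    detHom Q (rr Q (B.b a - ε₁ • B.b b) * rr Q (B.b c - ε₂ • B.b d) * rr Q (B.b e - ε₃ • B.b f)) ≠ 1 := by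
  rw [map_mul, map_mul, detHom_rr _ (B.q_ne (by rw [B.ip_root hab h₁]; exact B.two)),
    detHom_rr _ (B.q_ne (by rw [B.ip_root hcd h₂]; exact B.two)),
    detHom_rr _ (B.q_ne (by rw [B.ip_root hef h₃]; exact B.two))]
  intro h
  refine B.two ?_
  have := congrArg Units.val h
  simp at this
  linear_combination -this

include hM hKO hp hn hno in
/-- The centraliser in `K` of a monomial involution outside the diagonal is monomial. -/
theorem commute_mono {w : Cfsg.isometryGroup F (⇑Q)} (hwK : w ∈ K) (hw : B.Mono w) (hw2 : w * w = 1) {a : κ}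
    (hwa : ¬ B.supp (ap w (B.b a)) ⊆ {a}) {g : Cfsg.isometryGroup F (⇑Q)} (hg : g ∈ K) (hgw : g * w = w * g) :
    B.Mono g := by
  classical
  haveI : Nonempty κ := ⟨a⟩
  haveI : Finite (Cfsg.isometryGroup F (⇑Q)) := inferInstance
  obtain ⟨π, σ, hπ, hσ, hσπ, hap, -⟩ := B.invol_data hw hw2
  have ha : π a ≠ a := fun h => hwa (by
    rw [hap, h]; exact (B.supp_smul_subset _ _).trans (by rw [B.supp_b]))
  -- two pairs, and a pair kept by the monomial centraliser
  obtain ⟨p, q, b, c, d, hpq, hp', hq', hab, hb', hcd, hc', hd', hdisj, hkeep⟩ :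
      ∃ p q b c d : κ, p ≠ q ∧ (π p = p ∨ π p = q) ∧ (π q = p ∨ π q = q) ∧ a ≠ b ∧ π a = b ∧ c ≠ d ∧
        (π c = c ∨ π c = d) ∧ (π d = c ∨ π d = d) ∧ (c ≠ a ∧ c ≠ b ∧ d ≠ a ∧ d ≠ b) ∧
        ∀ m : Cfsg.isometryGroup F (⇑Q), m * w = w * m → ∀ x n : κ, ∀ τ : F, τ ≠ 0 →
          (x = p ∨ x = q) → ap m (B.b x) = τ • B.b n → (n = p ∨ n = q) := by
    have hπb : π (π a) = a := hπ a
    have moved : ∀ m : Cfsg.isometryGroup F (⇑Q), m * w = w * m → ∀ x n : κ, ∀ τ : F, τ ≠ 0 →
        ap m (B.b x) = τ • B.b n → (π x = x ↔ π n = n) := by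
      intro m hm x n τ hτ hx
      have e := congrArg (fun y => ap y (B.b x)) hm
      simp only [ap_mul, hap, map_smul, hx, smul_smul] at e
      constructor
      · intro h
        rw [h, hx, smul_smul] at e
        have := congrArg (fun y => B.co y n) e
        simp only [B.co_smul, B.co_b, ↓reduceIte, mul_one] at this
        by_contra hne
        rw [if_neg hne, mul_zero] at this
        exact mul_ne_zero (fun h0 => zero_ne_one (by rw [← hσ x, h0, mul_zero])) hτ this
      · intro h
        rw [h] at e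
        refine (B.line_unique (k := m) (σ := σ x * τ) (a := π x) (b := x) (τ := σ n * τ) ?_ ?_)
        · exact mul_ne_zero (fun h0 => zero_ne_one (by rw [← hσ x, h0, mul_zero])) hτ
        · have hx' : ap m (B.b x) = τ • B.b n := hx
          have e2 : σ x • ap m (B.b (π x)) = (τ * σ n) • B.b n := e
          calc (σ x * τ) • ap m (B.b (π x)) = τ • (σ x • ap m (B.b (π x))) := by rw [smul_smul, mul_comm]
            _ = (σ n * τ) • (τ • B.b n) := by rw [e2, smul_smul, smul_smul]; ring_nf
            _ = _ := by rw [hx]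
    by_cases h4 : ∃ c, c ≠ a ∧ c ≠ π a ∧ π c ≠ c
    · obtain ⟨c, hca, hcb, hc⟩ := h4
      have hda : π c ≠ a := fun h => hcb (by rw [← hπ c, h])
      have hdb : π c ≠ π a := fun h => hca (by rw [← hπ c, h, hπ])
      obtain ⟨e, f, hef, he, hf⟩ := exists_two_out (S := ({a, π a, c, π c} : Finset κ)) (by
        have := Finset.card_insert_le a ({π a, c, π c} : Finset κ)
        have := Finset.card_le_three (a := π a) (b := c) (c := π c)
        omega)
      simp only [Finset.mem_insert, Finset.mem_singleton, not_or] at he hf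
      have huniv : ∀ l, l = a ∨ l = π a ∨ l = c ∨ l = π c ∨ l = e ∨ l = f := by
        have h6 : ({a, π a, c, π c, e, f} : Finset κ) = Finset.univ := by
          refine Finset.eq_univ_of_card _ ?_
          rw [hn, Finset.card_insert_of_notMem (by simp [Ne.symm ha, Ne.symm hca, Ne.symm hda, Ne.symm he.1, Ne.symm hf.1]),
            Finset.card_insert_of_notMem (by simp [Ne.symm hcb, Ne.symm hdb, Ne.symm he.2.1, Ne.symm hf.2.1]),
            Finset.card_insert_of_notMem (by simp [Ne.symm hc, Ne.symm he.2.2.1, Ne.symm hf.2.2.1]),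
            Finset.card_insert_of_notMem (by simp [Ne.symm he.2.2.2, Ne.symm hf.2.2.2]), Finset.card_pair hef]
        intro l
        have := Finset.mem_univ l
        rw [← h6] at this
        simpa using this
      have hπe : π e = e ∧ π f = f := by
        by_contra hno'
        have hx : π e = f := by
          rcases huniv (π e) with h | h | h | h | h | h
          · exact absurd (by rw [← hπ e, h]) he.2.1
          · exact absurd (by rw [← hπ e, h, hπ]) he.1
          · exact absurd (by rw [← hπ e, h]) he.2.2.2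
          · exact absurd (by rw [← hπ e, h, hπ]) he.2.2.1
          · exfalso
            refine hno' ⟨h, ?_⟩
            rcases huniv (π f) with h' | h' | h' | h' | h' | h'
            · exact absurd (by rw [← hπ f, h']) hf.2.1
            · exact absurd (by rw [← hπ f, h', hπ]) hf.1
            · exact absurd (by rw [← hπ f, h']) hf.2.2.2
            · exact absurd (by rw [← hπ f, h', hπ]) hf.2.2.1
            · exact absurd (by rw [← hπ f, h', h]) hef.symm
            · exact h'
          · exact h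
        have hwp : w = rr Q (B.b a - σ a • B.b (π a)) * rr Q (B.b c - σ c • B.b (π c)) *
            rr Q (B.b e - σ e • B.b f) := B.ext_basis fun l => by
          rw [hap, ap_mul, ap_mul, B.rr_root hef (hσ e)]
          have hf' : π f = e := by rw [← hx, hπ]
          rcases huniv l with rfl | rfl | rfl | rfl | rfl | rfl
          · simp [Ne.symm he.1, Ne.symm hf.1, B.rr_root (Ne.symm hc) (hσ c), Ne.symm hca, Ne.symm hda,
              B.rr_root (Ne.symm ha) (hσ _)]
          · simp [Ne.symm he.2.1, Ne.symm hf.2.1, B.rr_root (Ne.symm hc) (hσ c), Ne.symm hcb, Ne.symm hdb,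
              B.rr_root (Ne.symm ha) (hσ _), hπ, hσπ, ha]
          · simp [Ne.symm he.2.2.1, Ne.symm hf.2.2.1, B.rr_root (Ne.symm hc) (hσ _), map_smul,
              B.rr_root (Ne.symm ha) (hσ _), hda, hdb]
          · simp [Ne.symm he.2.2.2, Ne.symm hf.2.2.2, B.rr_root (Ne.symm hc) (hσ _), map_smul, hc, hπ, hσπ,
              B.rr_root (Ne.symm ha) (hσ _), hca, hcb]
          · simp [map_smul, B.rr_root (Ne.symm hc) (hσ _), hf.2.2.1, hf.2.2.2, B.rr_root (Ne.symm ha) (hσ _),
              hf.1, hf.2.1, hx]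
          · rw [← hσπ e, hx] at *
            simp [map_smul, B.rr_root (Ne.symm hc) (hσ _), he.2.2.1, he.2.2.2, B.rr_root (Ne.symm ha) (hσ _),
              he.1, he.2.1, hf', hef.symm]
        exact not_three_roots B (Ne.symm ha) (Ne.symm hc) hef (hσ a) (hσ c) (hσ e)
          (by rw [← hwp]; exact det_one hKO hwK)
      refine ⟨e, f, π a, c, π c, hef, Or.inl hπe.1, Or.inr hπe.2, Ne.symm ha, rfl, Ne.symm hc, Or.inr rfl,
        Or.inl (hπ c), ⟨hca, hcb, hda, hdb⟩, fun m hm x n τ hτ hx hxn => ?_⟩
      have hfix := (moved m hm x n τ hτ hxn).mp (by rcases hx with rfl | rfl <;> [exact hπe.1; exact hπe.2])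
      rcases huniv n with h | h | h | h | h | h
      · exact absurd (h ▸ hfix) ha
      · exact absurd (by rw [h, hπ] at hfix; exact hfix.symm) ha
      · exact absurd (h ▸ hfix) hc
      · exact absurd (by rw [h, hπ] at hfix; exact hfix.symm) hc
      · exact Or.inl h
      · exact Or.inr h
    · push Not at h4
      obtain ⟨c, d, hcd, hc, hd⟩ := exists_two_out (S := ({a, π a} : Finset κ)) (by
        have := Finset.card_le_two (a := a) (b := π a); omega)
      simp only [Finset.mem_insert, Finset.mem_singleton, not_or] at hc hd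
      refine ⟨a, π a, π a, c, d, Ne.symm ha, Or.inr rfl, Or.inl hπb, Ne.symm ha, rfl, hcd, Or.inl (h4 c hc.1 hc.2),
        Or.inr (h4 d hd.1 hd.2), ⟨hc.1, hc.2, hd.1, hd.2⟩, fun m hm x n τ hτ hx hxn => ?_⟩
      by_contra hn'
      push Not at hn'
      have := (moved m hm x n τ hτ hxn).mpr (h4 n hn'.1 hn'.2)
      rcases hx with rfl | rfl
      · exact ha this
      · rw [hπ] at this; exact ha this.symm
  -- the monomial centraliser is everything
  set C : Subgroup (Cfsg.isometryGroup F (⇑Q)) := K ⊓ Subgroup.centralizer {w} with hC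
  have memC : ∀ {x : Cfsg.isometryGroup F (⇑Q)}, x ∈ K → x * w = w * x → x ∈ C := fun h1 h2 =>
    Subgroup.mem_inf.mpr ⟨h1, Subgroup.mem_centralizer_iff.mpr (by simp [h2])⟩
  have ofC : ∀ x : C, (x : Cfsg.isometryGroup F (⇑Q)) ∈ K ∧ (x : Cfsg.isometryGroup F (⇑Q)) * w = w * x := fun x =>
    ⟨x.2.1, (Subgroup.mem_centralizer_iff.mp x.2.2 w (by simp)).symm⟩
  let H : Subgroup C :=
    { carrier := {x | B.Mono (x : Cfsg.isometryGroup F (⇑Q))}
      mul_mem' := fun hx hy => B.mono_mul hx hy
      one_mem' := B.mono_one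
      inv_mem' := fun hx => B.mono_inv hx }
  let e₀ : C := ⟨B.d p q, memC (B.d_in hM p q) (B.d_comm hπ hap hpq hp' hq')⟩
  let u₁ : C := ⟨B.d a b, memC (B.d_in hM a b) (B.d_comm hπ hap hab (Or.inr hb') (Or.inl (by rw [← hb', hπ])))⟩
  let u₂ : C := ⟨B.d c d, memC (B.d_in hM c d) (B.d_comm hπ hap hcd hc' hd')⟩
  have dsq : ∀ {x y : κ}, x ≠ y → B.d x y * B.d x y = 1 := fun hxy => ap_ext fun z => B.ext_co fun l => by
    rw [ap_mul, ap_one, B.co_d hxy, B.co_d hxy]; split_ifs <;> ring
  have dne : ∀ {x y : κ}, x ≠ y → B.d x y ≠ 1 := fun {x y} hxy h => by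
    have := congrArg (fun k => B.co (ap k (B.b x)) x) h
    simp [B.co_d hxy, ap_one, B.co_b] at this
    exact B.two (by linear_combination -this)
  have dneg : ∀ {x y z : κ}, x ≠ y → (z = x ∨ z = y) → ap (B.d x y) (B.b z) = -B.b z := fun {x y z} hxy hz =>
    B.ext_co fun m => by
      rw [B.co_d hxy, B.co_neg, B.co_b]
      by_cases h : z = m
      · subst h; rw [if_pos hz]
      · simp [h]
  have pairC : ∀ {x : Cfsg.isometryGroup F (⇑Q)}, x ∈ K → ∀ {y z : κ}, y ≠ z →
      x * B.d y z = B.d y z * x → B.Mono x := fun {x} hx {y z} hyz hcm => by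
    have key : ∀ l, (l = y ∨ l = z) → B.supp (ap x (B.b l)) ⊆ {y, z} := fun l hl => B.supp_neg_d hyz (by
      rw [← ap_mul, ← hcm, ap_mul, dneg hyz hl, map_neg])
    exact B.pair_mono hM hp hn hno hx hyz (key y (Or.inl rfl)) (key z (Or.inr rfl))
  have hcen : ∀ m : C, B.Mono (m : Cfsg.isometryGroup F (⇑Q)) →
      (m : Cfsg.isometryGroup F (⇑Q)) * B.d p q = B.d p q * (m : Cfsg.isometryGroup F (⇑Q)) := fun m hm => by
    obtain ⟨ρ, l, hl⟩ := B.mono_iff.mp hm
    have hpres : ∀ x, (x = p ∨ x = q) → (ρ x = p ∨ ρ x = q) := fun x hx =>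
      hkeep _ (ofC m).2 x (ρ x) (l x) (hl x).2 hx (hl x).1
    refine B.ext_basis fun x => ?_
    rw [ap_mul, ap_mul, (hl x).1, map_smul]
    by_cases hx : x = p ∨ x = q
    · rw [dneg hpq hx, map_neg, (hl x).1, dneg hpq (hpres x hx), smul_neg]
    · have hρx : ¬ (ρ x = p ∨ ρ x = q) := fun h => hx (by
        have h1 := hpres p (Or.inl rfl)
        have h2 := hpres q (Or.inr rfl)
        have hne : ρ p ≠ ρ q := ρ.injective.ne hpq
        rcases h with h | h <;> rcases h1 with h1 | h1 <;> rcases h2 with h2 | h2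
        all_goals first
          | exact absurd (h1.trans h2.symm) hne
          | exact Or.inl (ρ.injective (h.trans h1.symm))
          | exact Or.inr (ρ.injective (h.trans h2.symm)))
      have dpos : ∀ z, ¬ (z = p ∨ z = q) → ap (B.d p q) (B.b z) = B.b z := fun z hz => B.ext_co fun m => by
        rw [B.co_d hpq, B.co_b]
        by_cases h : z = m
        · subst h; rw [if_neg hz]
        · simp [h]
      rw [dpos x hx, dpos _ hρx, (hl x).1]
  have htop : H = ⊤ := by
    refine isolated_eq_top H (e := e₀) (u₁ := u₁) (u₂ := u₂) (B.mono_d p q)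
      (fun h => dne hpq (congrArg Subtype.val h)) (Subtype.ext (dsq hpq)) (fun h => dne hab (congrArg Subtype.val h))
      (Subtype.ext (dsq hab)) (fun h => dne hcd (congrArg Subtype.val h)) (Subtype.ext (dsq hcd)) ?_ ?_ ?_ ?_ ?_
    · intro h
      have := congrArg (fun k : C => B.co (ap (k : Cfsg.isometryGroup F (⇑Q)) (B.b a)) a) h
      simp [u₁, u₂, B.co_d hab, B.co_d hcd, Ne.symm hdisj.1, Ne.symm hdisj.2.2.1, B.co_b] at this
      exact B.two (by linear_combination -this)
    · refine Subtype.ext (ap_ext fun z => B.ext_co fun l => ?_)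
      show B.co (ap (B.d a b * B.d c d) z) l = B.co (ap (B.d c d * B.d a b) z) l
      rw [ap_mul, ap_mul, B.co_d hab, B.co_d hcd, B.co_d hcd, B.co_d hab]
      split_ifs <;> ring
    · intro m hm
      refine Subtype.ext ?_
      show (m : Cfsg.isometryGroup F (⇑Q)) * B.d p q * (m : Cfsg.isometryGroup F (⇑Q))⁻¹ = B.d p q
      rw [hcen m hm, mul_inv_cancel_right]
    · intro x hx
      exact B.fusion_mono hM hp hn hno (ofC x).1 hpq hx
    · rintro x (h | h | h)
      · exact pairC (ofC x).1 hab (congrArg Subtype.val h.eq)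
      · exact pairC (ofC x).1 hcd (congrArg Subtype.val h.eq)
      · have h' : (x : Cfsg.isometryGroup F (⇑Q)) * (B.d a b * B.d c d) = B.d a b * B.d c d * x :=
          congrArg Subtype.val h.eq
        obtain ⟨e, f, hef, he, hf⟩ := exists_two_out (S := ({a, b, c, d} : Finset κ)) (by
          have := Finset.card_insert_le a ({b, c, d} : Finset κ)
          have := Finset.card_le_three (a := b) (b := c) (c := d)
          omega)
        simp only [Finset.mem_insert, Finset.mem_singleton, not_or] at he hf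
        have huniv : ({a, b, c, d, e, f} : Finset κ) = Finset.univ := by
          refine Finset.eq_univ_of_card _ ?_
          rw [hn, Finset.card_insert_of_notMem (by simp [hab, Ne.symm hdisj.1, Ne.symm hdisj.2.2.1, Ne.symm he.1, Ne.symm hf.1]),
            Finset.card_insert_of_notMem (by simp [Ne.symm hdisj.2.1, Ne.symm hdisj.2.2.2, Ne.symm he.2.1, Ne.symm hf.2.1]),
            Finset.card_insert_of_notMem (by simp [hcd, Ne.symm he.2.2.1, Ne.symm hf.2.2.1]),
            Finset.card_insert_of_notMem (by simp [Ne.symm he.2.2.2, Ne.symm hf.2.2.2]), Finset.card_pair hef]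
        have key : ∀ l, (l = e ∨ l = f) → B.supp (ap (x : Cfsg.isometryGroup F (⇑Q)) (B.b l)) ⊆ {e, f} := by
          intro l hl m hm
          have hb : ap (B.d a b * B.d c d) (B.b l) = B.b l := B.ext_co fun n => by
            rw [ap_mul, B.co_d hab, B.co_d hcd, B.co_b]
            by_cases hln : l = n
            · subst hln
              rcases hl with rfl | rfl
              · simp [he.1, he.2.1, he.2.2.1, he.2.2.2]
              · simp [hf.1, hf.2.1, hf.2.2.1, hf.2.2.2]
            · simp [hln]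
          have hy : ap (B.d a b * B.d c d) (ap (x : Cfsg.isometryGroup F (⇑Q)) (B.b l)) =
              ap (x : Cfsg.isometryGroup F (⇑Q)) (B.b l) := by rw [← ap_mul, ← h', ap_mul, hb]
          have hm' := Finset.mem_univ m
          rw [← huniv] at hm'
          have hy' := congrArg (fun z => B.co z m) hy
          simp only [ap_mul, B.co_d hab, B.co_d hcd] at hy'
          have hm0 := B.mem_supp.mp hm
          simp only [Finset.mem_insert, Finset.mem_singleton] at hm' ⊢
          rcases hm' with h1 | h1 | h1 | h1 | h1 | h1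
          case inr.inr.inr.inr.inl => exact Or.inl h1
          case inr.inr.inr.inr.inr => exact Or.inr h1
          all_goals
            exfalso; subst h1
            simp [hdisj.1, hdisj.2.1, hdisj.2.2.1, hdisj.2.2.2, Ne.symm hdisj.1, Ne.symm hdisj.2.1,
              Ne.symm hdisj.2.2.1, Ne.symm hdisj.2.2.2] at hy'
            exact hm0 ((mul_eq_zero.mp (show (2 : F) * B.co (ap (x : Cfsg.isometryGroup F (⇑Q)) (B.b l)) m = 0 by
              linear_combination -hy')).resolve_left B.two)
        exact B.pair_mono hM hp hn hno (ofC x).1 hef (key e (Or.inl rfl)) (key f (Or.inr rfl))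
  have : (⟨g, memC hg hgw⟩ : C) ∈ H := htop ▸ Subgroup.mem_top _
  exact this

end OFrame

end Cfsg.Lib.Classical.OFr
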