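import Mathlib
import Cfsg.Agent.Classical.Orth.Frame.SixFusion

set_option autoImplicit false
set_option linter.unusedVariables false
set_option linter.unusedSimpArgs false
set_option linter.unusedSectionVars false
set_option linter.style.haveILetI false
set_option linter.flexible false

/-! The stabiliser of an orthogonal frame of six points is maximal in `Ω` over a prime field. -/

namespace Cfsg.Lib.Classical.OFr

open Matrix Cfsg.Lib.Classical.Refl

universe u w

namespace OFrame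

variable {F : Type u} [Field F] [Fintype F] [DecidableEq F] {ι : Type} [Fintype ι] [DecidableEq ι]
  {Q : QuadraticForm F (ι → F)} {κ : Type w} [Fintype κ] [DecidableEq κ] (B : OFrame Q κ)
  {K : Subgroup (Cfsg.isometryGroup F (⇑Q))}
  (hM : ∀ g ∈ Cfsg.Omega F (⇑Q), B.Mono g → g ∈ K) (hKO : K ≤ Cfsg.Omega F (⇑Q))
  (hp : (Fintype.card F).Prime) (hn : Fintype.card κ = 6)

theorem no_flip {a b c d e f : κ} (hab : a ≠ b) (hcd : c ≠ d)
    (huniv : ∀ l, l = a ∨ l = b ∨ l = c ∨ l = d ∨ l = e ∨ l = f) {x : Cfsg.isometryGroup F (⇑Q)}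
    (hxa : ap x (B.b a) = B.b b) (hxb : ap x (B.b b) = B.b a) (hxc : ap x (B.b c) = B.b d)
    (hxd : ap x (B.b d) = B.b c) (hfix : ∀ l, l = e ∨ l = f → ap x (B.b l) = B.b l) {y : Fin 3 → (ι → F)}
    (hy : ∀ t, ap x (y t) = -y t) (hy0 : ∀ t, B.ip (y t) (y t) ≠ 0)
    (hyo : ∀ i j, i ≠ j → B.ip (y i) (y j) = 0)
    (hdis : c ≠ a ∧ c ≠ b ∧ d ≠ a ∧ d ≠ b) : False := by
  classical
  have hplus : ∀ p, ap x p = p → ∀ t, B.ip (y t) p = 0 := fun p hp t => by
    have := B.ip_ap x (y t) p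
    rw [hp, hy, B.ip_neg_left] at this
    exact (mul_eq_zero.mp (show (2 : F) * B.ip (y t) p = 0 by linear_combination -this)).resolve_left B.two
  have hp₁ : ap x (B.b a + B.b b) = B.b a + B.b b := by rw [map_add, hxa, hxb, add_comm]
  have hp₂ : ap x (B.b c + B.b d) = B.b c + B.b d := by rw [map_add, hxc, hxd, add_comm]
  let w : Fin 3 ⊕ Fin 2 → (ι → F) := Sum.elim y ![B.b a + B.b b, B.b c + B.b d]
  have hpp : ∀ s, ap x (![B.b a + B.b b, B.b c + B.b d] s) = ![B.b a + B.b b, B.b c + B.b d] s := fun s => by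
    fin_cases s
    exacts [hp₁, hp₂]
  have h := B.card_le_of_orth (α := Fin 3 ⊕ Fin 2) (w := w) (fun t => ?_) (fun s t hst => ?_) (T := {a, b, c, d})
    (fun t => ?_)
  · rw [Fintype.card_sum, Fintype.card_fin, Fintype.card_fin] at h
    have := Finset.card_insert_le a ({b, c, d} : Finset κ)
    have := Finset.card_le_three (a := b) (b := c) (c := d)
    omega
  · rcases t with t | t
    · exact hy0 t
    · fin_cases t <;> simp [w, B.ip_add_left, B.ip_add_right, B.ip_bb, hab, hab.symm, hcd, hcd.symm,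
        one_add_one_eq_two, B.two]
  · rcases s with s | s <;> rcases t with t | t
    · exact hyo s t fun h => hst (by rw [h])
    · exact hplus _ (hpp t) s
    · rw [B.ip_comm]; exact hplus _ (hpp s) t
    · fin_cases s <;> fin_cases t <;> (try exact absurd rfl hst) <;>
        simp [w, B.ip_add_left, B.ip_add_right, B.ip_bb, hdis.1, hdis.2.1, hdis.2.2.1, hdis.2.2.2, Ne.symm hdis.1,
          Ne.symm hdis.2.1, Ne.symm hdis.2.2.1, Ne.symm hdis.2.2.2]
  · intro l hl
    by_contra hh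
    simp only [Finset.mem_insert, Finset.mem_singleton, not_or] at hh
    apply B.mem_supp.mp hl
    have hl' : l = e ∨ l = f := by
      rcases huniv l with h | h | h | h | h | h
      exacts [absurd h hh.1, absurd h hh.2.1, absurd h hh.2.2.1, absurd h hh.2.2.2, Or.inl h, Or.inr h]
    rcases t with t | t
    · rw [← B.ip_b_right]; exact hplus _ (hfix l hl') t
    · fin_cases t <;> simp [w, B.co_add, B.co_b, Ne.symm hh.1, Ne.symm hh.2.1, Ne.symm hh.2.2.1, Ne.symm hh.2.2.2]

include hM hKO hp hn in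
/-- In dimension six an overgroup with an element outside the monomial group is all of `Ω`. -/
theorem omega_le_six {g : Cfsg.isometryGroup F (⇑Q)} (hg : g ∈ K) (hgm : ¬ B.Mono g) :
    Cfsg.Omega F (⇑Q) ≤ K := by
  classical
  by_contra hno
  obtain ⟨a⟩ : Nonempty κ := Fintype.card_pos_iff.mp (by omega)
  haveI : Nonempty κ := ⟨a⟩
  obtain ⟨b, hba⟩ := exists_out ({a} : Finset κ) (by rw [Finset.card_singleton]; omega)
  rw [Finset.mem_singleton] at hba
  have hab : a ≠ b := Ne.symm hba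
  obtain ⟨c, d, hcd, hc, hd⟩ := exists_two_out (S := ({a, b} : Finset κ)) (by
    have := Finset.card_le_two (a := a) (b := b); omega)
  obtain ⟨e, f, hef, he, hf⟩ := exists_two_out (S := ({a, b, c, d} : Finset κ)) (by
    have := Finset.card_insert_le a ({b, c, d} : Finset κ)
    have := Finset.card_le_three (a := b) (b := c) (c := d)
    omega)
  simp only [Finset.mem_insert, Finset.mem_singleton, not_or] at hc hd he hf
  have huniv : ∀ l, l = a ∨ l = b ∨ l = c ∨ l = d ∨ l = e ∨ l = f := by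
    have h6 : ({a, b, c, d, e, f} : Finset κ) = Finset.univ := by
      refine Finset.eq_univ_of_card _ ?_
      rw [hn, Finset.card_insert_of_notMem (by simp [hab, Ne.symm hc.1, Ne.symm hd.1, Ne.symm he.1, Ne.symm hf.1]),
        Finset.card_insert_of_notMem (by simp [Ne.symm hc.2, Ne.symm hd.2, Ne.symm he.2.1, Ne.symm hf.2.1]),
        Finset.card_insert_of_notMem (by simp [hcd, Ne.symm he.2.2.1, Ne.symm hf.2.2.1]),
        Finset.card_insert_of_notMem (by simp [Ne.symm he.2.2.2, Ne.symm hf.2.2.2]), Finset.card_pair hef]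
    intro l
    have := Finset.mem_univ l
    rw [← h6] at this
    simpa using this
  -- a double transposition
  set x := B.sw a b * B.sw c d with hx
  have hxK : x ∈ K := B.sw_pair_in hM hab hcd
  have hxm : B.Mono x := B.mono_mul (B.mono_root hab (one_mul 1)) (B.mono_root hcd (one_mul 1))
  have hxa : ap x (B.b a) = B.b b := by
    rw [hx, ap_mul, B.sw_b hcd, if_neg (Ne.symm hc.1), if_neg (Ne.symm hd.1), B.sw_b hab, if_pos rfl]
  have hxco : ∀ y l, B.co (ap x y) l = B.co y (Equiv.swap c d (Equiv.swap a b l)) := fun y l => by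
    rw [hx, ap_mul, B.co_sw hab, B.co_sw hcd]
  have hx2 : x * x = 1 := ap_ext fun y => B.ext_co fun l => by
    rw [ap_mul, ap_one, hxco, hxco]
    rcases huniv l with rfl | rfl | rfl | rfl | rfl | rfl <;>
      simp [Equiv.swap_apply_def, hab, hab.symm, hcd, hcd.symm, hef, hc.1, hc.2, hd.1, hd.2, he.1, he.2.1, he.2.2.1,
        he.2.2.2, hf.1, hf.2.1, hf.2.2.1, hf.2.2.2, Ne.symm hc.1, Ne.symm hc.2, Ne.symm hd.1, Ne.symm hd.2]
  have hxa' : ¬ B.supp (ap x (B.b a)) ⊆ {a} := fun h => by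
    rw [hxa, B.supp_b, Finset.singleton_subset_singleton] at h
    exact hba h
  -- the conjugate sign change
  set d' := g * B.d a b * g⁻¹ with hd'
  have hd'K : d' ∈ K := K.mul_mem (K.mul_mem hg (B.d_in hM a b)) (K.inv_mem hg)
  have hdsq : B.d a b * B.d a b = 1 := ap_ext fun y => B.ext_co fun l => by
    rw [ap_mul, ap_one, B.co_d hab, B.co_d hab]; split_ifs <;> ring
  have hd'2 : d' * d' = 1 := by
    rw [hd', show g * B.d a b * g⁻¹ * (g * B.d a b * g⁻¹) = g * (B.d a b * B.d a b) * g⁻¹ by group, hdsq]; group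
  have hd'm : ¬ B.Mono d' := fun h => hgm (B.fusion_mono hM hp hn hno hg hab h)
  -- a monomial conjugate of the sign change does not swap
  have noswap : ∀ {h : Cfsg.isometryGroup F (⇑Q)}, B.Mono h → ∀ (s : F), s ≠ 0 →
      ap (h * B.d a b * h⁻¹) (B.b a) ≠ s • B.b b := fun {h} hh s hs e' => by
    have := B.conj_d_diag hh hab a
    rw [e', B.supp_smul hs, B.supp_b, Finset.singleton_subset_singleton] at this
    exact hba this
  set ρ := x * d' with hρ
  have hρK : ρ ∈ K := K.mul_mem hxK hd'K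
  have hxρ : x * ρ = ρ⁻¹ * x := by
    rw [hρ, _root_.mul_inv_rev, inv_eq_of_mul_eq_one_left hx2, inv_eq_of_mul_eq_one_left hd'2, ← mul_assoc, hx2,
      one_mul, mul_assoc, hx2, mul_one]
  have hxρn : ∀ n : ℕ, x * ρ ^ n = (ρ ^ n)⁻¹ * x := fun n => by
    induction n with
    | zero => simp
    | succ n ih =>
      rw [pow_succ, ← mul_assoc, ih, mul_assoc, hxρ, ← mul_assoc, _root_.mul_inv_rev]
      congr 1
      exact (((Commute.refl ρ).pow_left n).inv_inv).eq
  have hd'ρn : ∀ n : ℕ, d' * ρ ^ n = (ρ ^ n)⁻¹ * d' := fun n => by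
    have hd'x : d' = x * ρ := by rw [hρ, ← mul_assoc, hx2, one_mul]
    have hc : ρ * ρ ^ n = ρ ^ n * ρ := ((Commute.refl ρ).pow_right n).eq
    rw [hd'x, mul_assoc, hc, ← mul_assoc, hxρn, mul_assoc]
  haveI : Finite (Cfsg.isometryGroup F (⇑Q)) := inferInstance
  set N := orderOf ρ with hN
  have hNpos : 0 < N := orderOf_pos ρ
  -- a central element with value minus one
  have finishOdd : ∀ (neg : Cfsg.isometryGroup F (⇑Q)) (s : F), s ≠ 0 → neg ∈ K → B.Mono neg →
      (∀ y, ap neg y = s • y) → ∀ k ∈ K, k * x * k⁻¹ = neg * (x * d' * x) → False := by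
    intro neg s hs hnK hnm hnap k hk hconj
    set y := k⁻¹ * x * g with hy
    have hcent : ∀ t : Cfsg.isometryGroup F (⇑Q), t * neg = neg * t := fun t => ap_ext fun z => by
      rw [ap_mul, ap_mul, hnap, hnap, map_smul]
    have hyd : y * B.d a b * y⁻¹ = k⁻¹ * (x * d' * x) * k := by
      rw [hy, hd', _root_.mul_inv_rev, _root_.mul_inv_rev, inv_inv, inv_eq_of_mul_eq_one_left hx2]
      group
    have hnn : neg⁻¹ * x = y * B.d a b * y⁻¹ := by
      rw [hyd]
      calc neg⁻¹ * x = k⁻¹ * (neg⁻¹ * (k * x * k⁻¹)) * k := by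
            have hc' := hcent k⁻¹
            have : k⁻¹ * neg⁻¹ = neg⁻¹ * k⁻¹ := by
              rw [← _root_.mul_inv_rev, ← _root_.mul_inv_rev, hcent k]
            rw [← mul_assoc k⁻¹, this]
            group
        _ = _ := by rw [hconj, inv_mul_cancel_left]
    have hym : B.Mono y := B.fusion_mono hM hp hn hno (K.mul_mem (K.mul_mem (K.inv_mem hk) hxK) hg) hab
      (hnn ▸ B.mono_mul (B.mono_inv hnm) hxm)
    refine noswap hym s⁻¹ (inv_ne_zero hs) ?_
    rw [← hnn, ap_mul, hxa]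
    have : ap neg (ap neg⁻¹ (B.b b)) = B.b b := ap_ap_inv _ _
    rw [hnap] at this
    rw [← this, smul_smul, inv_mul_cancel₀ hs, one_smul, this]
  rcases Nat.even_or_odd N with ⟨m, hm⟩ | ⟨m, hm⟩
  swap
  · refine finishOdd 1 1 one_ne_zero K.one_mem B.mono_one (fun y => by rw [ap_one, one_smul])
      (ρ ^ (m + 1)) (K.pow_mem hρK _) ?_
    have hpow : ρ ^ (2 * m + 1) = 1 := hm ▸ pow_orderOf_eq_one ρ
    rw [mul_assoc, ← inv_pow, show x * (ρ⁻¹) ^ (m + 1) = ρ ^ (m + 1) * x by
      have := hxρn (m + 1)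
      rw [inv_pow]
      calc x * (ρ ^ (m + 1))⁻¹ = ρ ^ (m + 1) * ((ρ ^ (m + 1))⁻¹ * x) * (ρ ^ (m + 1))⁻¹ := by group
        _ = ρ ^ (m + 1) * (x * ρ ^ (m + 1)) * (ρ ^ (m + 1))⁻¹ := by rw [this]
        _ = _ := by group, ← mul_assoc, ← pow_add, show m + 1 + (m + 1) = (2 * m + 1) + 1 by omega, pow_succ, hpow,
      one_mul, one_mul, hρ]
  set z := ρ ^ m with hz
  have hz1 : z ≠ 1 := pow_ne_one_of_lt_orderOf (by omega) (by omega)
  have hz2 : z * z = 1 := by rw [hz, ← pow_add, ← hm, pow_orderOf_eq_one]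
  have hzK : z ∈ K := K.pow_mem hρK _
  have hzinv : z⁻¹ = z := inv_eq_of_mul_eq_one_left hz2
  have hzx : z * x = x * z := by rw [hxρn m, ← hz, hzinv]
  have hzd : d' * z = z * d' := by rw [hd'ρn m, ← hz, hzinv]
  have hzm : B.Mono z := B.commute_mono hM hKO hp hn hno hxK hxm hx2 hxa' hzK hzx
  by_cases hzdiag : ∃ l, ¬ B.supp (ap z (B.b l)) ⊆ {l}
  · obtain ⟨l, hl⟩ := hzdiag
    exact hd'm (B.commute_mono hM hKO hp hn hno hzK hzm hz2 hl hd'K hzd)
  push Not at hzdiag
  obtain ⟨π, σ, hπ, hσ, -, hap, hco⟩ := B.invol_data hzm hz2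
  have hσ0 : ∀ l, σ l ≠ 0 := fun l h => zero_ne_one (by rw [← hσ l, h, mul_zero])
  have hπ1 : ∀ l, π l = l := fun l => by
    have := hzdiag l
    rw [hap, B.supp_smul (hσ0 l), B.supp_b, Finset.singleton_subset_singleton] at this
    exact this
  have hzco : ∀ y l, B.co (ap z y) l = σ l * B.co y l := fun y l => by
    have := hco y l
    rwa [hπ1] at this
  set S := Finset.univ.filter fun l => σ l = -1 with hS
  have hzS : ∀ y l, B.co (ap z y) l = if l ∈ S then -B.co y l else B.co y l := fun y l => by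
    rw [hzco, hS]
    simp only [Finset.mem_filter, Finset.mem_univ, true_and]
    split_ifs with h
    · rw [h]; ring
    · rw [(sq_one_cases (hσ l)).resolve_right h, one_mul]
  have hS0 : 0 < S.card := by
    rw [Finset.card_pos, Finset.nonempty_iff_ne_empty]
    intro h
    exact hz1 (ap_ext fun y => B.ext_co fun l => by rw [ap_one, hzS, h, if_neg (Finset.notMem_empty l)])
  have hS6 : S.card ≤ 6 := hn ▸ Finset.card_le_univ S
  rcases Nat.even_or_odd S.card with ⟨k, hk⟩ | ⟨k, hk⟩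
  swap
  · -- an odd number of signs has the wrong determinant
    obtain ⟨i, hi⟩ := Finset.card_pos.mp hS0
    obtain ⟨t, ht, htco⟩ := B.neg_set_in hM k (S.erase i) (by rw [Finset.card_erase_of_mem hi, hk]; omega)
    have hzt : z = rr Q (B.b i) * t := ap_ext fun y => B.ext_co fun l => by
      rw [ap_mul, B.co_rr_b, htco, hzS]
      by_cases hli : l = i
      · subst hli; simp [hi]
      · simp [hli]
    have h := det_one hKO hzK
    rw [hzt, map_mul, det_one hKO ht, mul_one, detHom_rr _ (B.q_ne (by rw [B.ip_b_self]; exact one_ne_zero))] at h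
    exact B.two (by
      have := congrArg Units.val h
      simp at this
      linear_combination -this)
  by_cases hall : S.card = 6
  · -- the central involution
    have hSu : S = Finset.univ := Finset.eq_univ_of_card _ (by rw [hall, hn])
    have hzneg : ∀ y, ap z y = (-1 : F) • y := fun y => B.ext_co fun l => by
      rw [hzS, hSu, if_pos (Finset.mem_univ l), B.co_smul]; ring
    rcases Nat.even_or_odd m with ⟨r, hr⟩ | ⟨r, hr⟩
    · set z' := ρ ^ r with hz'
      have hz'2 : z' * z' = z := by rw [hz', ← pow_add, ← hr]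
      have hflip : ∀ y, ap x y = y → ap x (ap z' y) = -ap z' y := fun y hy => by
        rw [← ap_mul, hz', hxρn r, ← hz', ap_mul, hy]
        have e' : z'⁻¹ = z' * z := by
          refine inv_eq_of_mul_eq_one_right ?_
          rw [← mul_assoc, hz'2, hz2]
        rw [e', ap_mul, hzneg, map_smul, neg_one_smul]
      have fe : ∀ l, l = e ∨ l = f → ap x (B.b l) = B.b l := fun l hl => by
        rcases hl with rfl | rfl
        · rw [hx, ap_mul, B.sw_b hcd, if_neg he.2.2.1, if_neg he.2.2.2, B.sw_b hab, if_neg he.1, if_neg he.2.1]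
        · rw [hx, ap_mul, B.sw_b hcd, if_neg hf.2.2.1, if_neg hf.2.2.2, B.sw_b hab, if_neg hf.1, if_neg hf.2.1]
      have hxb : ap x (B.b b) = B.b a := by
        rw [hx, ap_mul, B.sw_b hcd, if_neg (Ne.symm hc.2), if_neg (Ne.symm hd.2), B.sw_b hab, if_neg hba, if_pos rfl]
      have hxc : ap x (B.b c) = B.b d := by
        rw [hx, ap_mul, B.sw_b hcd, if_pos rfl, B.sw_b hab, if_neg hd.1, if_neg hd.2]
      have hxd : ap x (B.b d) = B.b c := by
        rw [hx, ap_mul, B.sw_b hcd, if_neg hcd.symm, if_pos rfl, B.sw_b hab, if_neg hc.1, if_neg hc.2]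
      have hp₁ : ap x (B.b a + B.b b) = B.b a + B.b b := by rw [map_add, hxa, hxb, add_comm]
      refine B.no_flip hab hcd huniv hxa hxb hxc hxd fe (y := ![ap z' (B.b e), ap z' (B.b f),
        ap z' (B.b a + B.b b)]) ?_ ?_ ?_ ⟨hc.1, hc.2, hd.1, hd.2⟩
      · intro t; fin_cases t
        exacts [hflip _ (fe e (Or.inl rfl)), hflip _ (fe f (Or.inr rfl)), hflip _ hp₁]
      · intro t; fin_cases t
        · simp [B.ip_ap, B.ip_b_self]
        · simp [B.ip_ap, B.ip_b_self]
        · show B.ip (ap z' (B.b a + B.b b)) (ap z' (B.b a + B.b b)) ≠ 0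
          rw [B.ip_ap]
          simp [B.ip_add_left, B.ip_add_right, B.ip_bb, hab, hba]
          rw [one_add_one_eq_two]; exact B.two
      · intro i j hij
        fin_cases i <;> fin_cases j <;> (try exact absurd rfl hij) <;>
          simp only [Matrix.cons_val_zero, Matrix.cons_val_one, Fin.isValue, Fin.mk_zero, Fin.mk_one,
            Fin.reduceFinMk, Matrix.cons_val] <;>
          rw [B.ip_ap] <;>
          simp [B.ip_add_left, B.ip_add_right, B.ip_bb, hef, hef.symm, he.1, he.2.1, hf.1, hf.2.1, Ne.symm he.1,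
            Ne.symm he.2.1, Ne.symm hf.1, Ne.symm hf.2.1]
    · refine finishOdd z (-1) (neg_ne_zero.mpr one_ne_zero) hzK hzm hzneg (ρ ^ (r + 1)) (K.pow_mem hρK _) ?_
      rw [mul_assoc, show x * (ρ ^ (r + 1))⁻¹ = ρ ^ (r + 1) * x by
        have := hxρn (r + 1)
        calc x * (ρ ^ (r + 1))⁻¹ = ρ ^ (r + 1) * ((ρ ^ (r + 1))⁻¹ * x) * (ρ ^ (r + 1))⁻¹ := by group
          _ = ρ ^ (r + 1) * (x * ρ ^ (r + 1)) * (ρ ^ (r + 1))⁻¹ := by rw [this]
          _ = _ := by group, ← mul_assoc, ← pow_add, show r + 1 + (r + 1) = m + 1 by omega, pow_succ, hz, hρ,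
        mul_assoc]
  -- a preserved pair
  obtain ⟨T, hT2, ε, hTε⟩ : ∃ T : Finset κ, T.card = 2 ∧ ∃ ε : F, ∀ l, l ∈ T ↔ σ l = ε := by
    by_cases h2 : S.card = 2
    · exact ⟨S, h2, -1, fun l => by simp [hS]⟩
    · refine ⟨Sᶜ, by rw [Finset.card_compl, hn]; omega, 1, fun l => ?_⟩
      rw [Finset.mem_compl, hS, Finset.mem_filter]
      simp only [Finset.mem_univ, true_and]
      refine ⟨fun h => (sq_one_cases (hσ l)).resolve_right h, fun h h' => B.two ?_⟩
      rw [h] at h'
      linear_combination h'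
  obtain ⟨p, q, hpq, rfl⟩ := Finset.card_eq_two.mp hT2
  have key : ∀ l, l ∈ ({p, q} : Finset κ) → B.supp (ap d' (B.b l)) ⊆ {p, q} := fun l hl m hm => by
    rw [hTε] at hl ⊢
    have h := congrArg (fun k => B.co (ap k (B.b l)) m) hzd
    simp only [ap_mul] at h
    rw [hap, hπ1, map_smul, B.co_smul, hzco, hl] at h
    exact (mul_right_cancel₀ (B.mem_supp.mp hm) h).symm
  exact hd'm (B.pair_mono hM hp hn hno hd'K hpq (key p (by simp)) (key q (by simp)))

end OFrame

variable {F : Type u} [Field F] [Fintype F] [DecidableEq F] {ι : Type} [Fintype ι] [DecidableEq ι]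

/-- The stabiliser of an orthogonal frame of six points is maximal in `Ω` over a prime field. -/
theorem frame_maximal_six {Q : QuadraticForm F (ι → F)} (h2 : (2 : F) ≠ 0)
    (hp : (Fintype.card F).Prime) (hn : Fintype.card ι = 6) {t : ℕ} {D : Fin t → Submodule F (ι → F)}
    (hD : Cfsg.Geo.IsOrthogonalMDecomposition (⇑Q) 1 D) :
    Cfsg.Geo.IsMaximalIn (Cfsg.Geo.omegaGL (⇑Q)) (Cfsg.Geo.decompositionStabilizer D ⊓ Cfsg.Geo.omegaGL (⇑Q)) := by
  classical
  obtain ⟨B, hB⟩ := exists_frame h2 hD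
  have ht : Fintype.card (Fin t) = 6 := by
    rw [← Module.finrank_eq_card_basis B.b, Module.finrank_fintype_fun_eq_card, hn]
  have hiff : ∀ g : Cfsg.isometryGroup F (⇑Q),
      (g : GL ι F) ∈ Cfsg.Geo.decompositionStabilizer D ↔ B.Mono g := by
    intro g
    constructor
    · rintro ⟨σ, hσ⟩ i
      have h : ap g (B.b i) ∈ D (σ i) := by
        rw [← hσ i]; exact Submodule.mem_map_of_mem (by rw [hB]; exact Submodule.mem_span_singleton_self _)
      rw [hB, Submodule.mem_span_singleton] at h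
      obtain ⟨s, hs⟩ := h
      rw [← hs]
      exact le_trans (Finset.card_le_card (B.supp_smul_subset _ _)) (by rw [B.supp_b, Finset.card_singleton])
    · intro h
      obtain ⟨π, l, hl⟩ := B.mono_iff.mp h
      refine ⟨π, fun i => ?_⟩
      rw [hB, hB, Submodule.map_span, Set.image_singleton,
        show Matrix.toLin' ((g : GL ι F) : Matrix ι ι F) (B.b i) = l i • B.b (π i) from (hl i).1]
      exact Submodule.span_singleton_smul_eq (hl i).2.isUnit _
  refine ⟨lt_of_le_of_ne inf_le_right fun heq => ?_, fun M hHM hMO => ?_⟩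
  · obtain ⟨x, y, hxy⟩ := binary_universal h2 (one_ne_zero (α := F)) (one_ne_zero (α := F)) (-1)
    obtain ⟨p, q, r, s, hpq, hpr, hps, hqr, hqs, hrs⟩ : ∃ p q r s : Fin t, p ≠ q ∧ p ≠ r ∧ p ≠ s ∧ q ≠ r ∧ q ≠ s ∧
        r ≠ s := by
      rw [Fintype.card_fin] at ht
      exact ⟨⟨0, by omega⟩, ⟨1, by omega⟩, ⟨2, by omega⟩, ⟨3, by omega⟩, by simp, by simp, by simp, by simp,
        by simp, by simp⟩
    set v := x • B.b p + y • B.b q + B.b r with hv
    have hQv : Q v = 0 := by
      rw [B.q_ip, hv]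
      simp only [OFrame.ip_add_left, OFrame.ip_add_right, OFrame.ip_smul_left, OFrame.ip_smul_right, OFrame.ip_bb,
        hpq, hpr, hqr, hpq.symm, hpr.symm, hqr.symm, if_false, if_true, ↓reduceIte]
      linear_combination B.c * hxy
    have hvs : B.co v s = 0 := by
      simp [hv, OFrame.co_add, OFrame.co_smul, OFrame.co_b, hps, hqs, hrs]
    have hvz : QuadraticMap.polar (⇑Q) v (B.b s) = 0 := by rw [B.polar_ip, B.ip_b_right, hvs, mul_zero]
    have hS : (siegelG Q hQv hvz : GL ι F) ∈ Cfsg.Geo.decompositionStabilizer D ⊓ Cfsg.Geo.omegaGL (⇑Q) :=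
      heq.symm ▸ (mem_omegaGL Q _).mpr ⟨_, siegelG_mem_omega Q B.nondeg (by omega) hQv hvz, rfl⟩
    have hm := (hiff _).mp hS.1 s
    rw [B.ap_siegelG, B.ip_b_right, hvs, B.ip_b_self] at hm
    have h2s : ({r, s} : Finset (Fin t)) ⊆ B.supp (B.b s + (2 * B.c * 0) • B.b s +
        (-(2 * B.c * 1) - B.c * 1 * (2 * B.c * 0)) • v) := by
      intro l hl
      simp only [Finset.mem_insert, Finset.mem_singleton] at hl
      rw [B.mem_supp]
      simp only [OFrame.co_add, OFrame.co_smul, OFrame.co_b]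
      rcases hl with rfl | rfl
      · simp [hv, OFrame.co_add, OFrame.co_smul, OFrame.co_b, hrs.symm, hpr, hqr, h2, B.hc]
      · simp [hvs]
    have := (Finset.card_le_card h2s).trans hm
    rw [Finset.card_pair hrs] at this
    omega
  · by_cases hM : M ≤ Cfsg.Geo.decompositionStabilizer D
    · exact Or.inl (le_antisymm (le_inf hM hMO) hHM)
    right
    obtain ⟨g, hgM, hgW⟩ := SetLike.not_le_iff_exists.mp hM
    obtain ⟨g₀, hg₀, rfl⟩ := (mem_omegaGL Q g).mp (hMO hgM)
    have h := B.omega_le_six (K := M.comap (Cfsg.isometryGroup F (⇑Q)).subtype ⊓ Cfsg.Omega F (⇑Q))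
      (fun x hx hxW => Subgroup.mem_inf.mpr ⟨hHM ⟨(hiff x).mpr hxW, (mem_omegaGL Q _).mpr ⟨x, hx, rfl⟩⟩, hx⟩)
      inf_le_right hp ht (g := g₀) (Subgroup.mem_inf.mpr ⟨hgM, hg₀⟩) (fun hb => hgW ((hiff g₀).mpr hb))
    refine le_antisymm hMO fun x hx => ?_
    obtain ⟨y, hy, rfl⟩ := (mem_omegaGL Q x).mp hx
    exact (h hy).1

end Cfsg.Lib.Classical.OFr
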