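import Mathlib
import Cfsg.Agent.Classical.Orth.Frame.SixMain
import Cfsg.Agent.Classical.Misc.TwoSix.Gamma

set_option autoImplicit false
set_option linter.unusedVariables false
set_option linter.unusedSimpArgs false
set_option linter.unusedSectionVars false
set_option linter.style.haveILetI false
set_option linter.flexible false

/-! An elementary abelian group of order 32 inside `Ω` in dimension six fixes a frame of six points. -/

namespace Cfsg.Lib.Classical.OFr

open Matrix Cfsg.Lib.Classical.Refl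
open Cfsg.Lib.Classical.TwoSix (eps eps_zero eps_one eps_add eps_inj zmod2_cases)

universe u

variable {F : Type u} [Field F] [Fintype F] [DecidableEq F] {ι : Type} [Fintype ι] [DecidableEq ι]
  {Q : QuadraticForm F (ι → F)}

/-- Common eigenvectors of signs. -/
def Eig (E : Subgroup (Cfsg.isometryGroup F (⇑Q))) (v : ι → F) : Prop :=
  ∀ e ∈ E, ∃ s : F, s * s = 1 ∧ ap e v = s • v

theorem eig_span (h2 : (2 : F) ≠ 0) {E : Subgroup (Cfsg.isometryGroup F (⇑Q))}
    (hcomm : ∀ x ∈ E, ∀ y ∈ E, x * y = y * x) (hinv : ∀ x ∈ E, x * x = 1) :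
    Submodule.span F {v | Eig E v} = ⊤ := by
  classical
  have key : ∀ S : Finset (Cfsg.isometryGroup F (⇑Q)), (∀ e ∈ S, e ∈ E) →
      Submodule.span F {v : ι → F | ∀ e ∈ S, ∃ s : F, s * s = 1 ∧ ap e v = s • v} = ⊤ := by
    intro S
    induction S using Finset.induction with
    | empty =>
      intro _
      rw [eq_top_iff]
      intro v _
      exact Submodule.subset_span (fun e he => absurd he (Finset.notMem_empty e))
    | insert a S ha ih =>
      intro hS
      have haE := hS a (Finset.mem_insert_self a S)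
      rw [eq_top_iff, ← ih (fun e he => hS e (Finset.mem_insert_of_mem he)), Submodule.span_le]
      intro v hv
      have hcm : ∀ e ∈ S, ∀ s : F, ap e v = s • v → ap e (ap a v) = s • ap a v := fun e he s hs => by
        rw [← ap_mul, hcomm e (hS e (Finset.mem_insert_of_mem he)) a haE, ap_mul, hs, map_smul]
      have haa : ap a (ap a v) = v := by rw [← ap_mul, hinv a haE, ap_one]
      have h1 : v + ap a v ∈ {w : ι → F | ∀ e ∈ insert a S, ∃ s : F, s * s = 1 ∧ ap e w = s • w} := fun e he => by
        rcases Finset.mem_insert.mp he with rfl | he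
        · exact ⟨1, one_mul 1, by rw [map_add, haa, one_smul, add_comm]⟩
        · obtain ⟨s, hs, hsv⟩ := hv e he
          exact ⟨s, hs, by rw [map_add, hsv, hcm e he s hsv, smul_add]⟩
      have h1' : v - ap a v ∈ {w : ι → F | ∀ e ∈ insert a S, ∃ s : F, s * s = 1 ∧ ap e w = s • w} := fun e he => by
        rcases Finset.mem_insert.mp he with rfl | he
        · exact ⟨-1, by ring, by rw [map_sub, haa, neg_one_smul, neg_sub]⟩
        · obtain ⟨s, hs, hsv⟩ := hv e he
          exact ⟨s, hs, by rw [map_sub, hsv, hcm e he s hsv, smul_sub]⟩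
      have hv2 : v = (2 : F)⁻¹ • ((v + ap a v) + (v - ap a v)) := by
        rw [show (v + ap a v) + (v - ap a v) = (2 : F) • v by rw [two_smul]; abel, smul_smul, inv_mul_cancel₀ h2,
          one_smul]
      rw [SetLike.mem_coe, hv2]
      exact Submodule.smul_mem _ _ (Submodule.add_mem _ (Submodule.subset_span h1) (Submodule.subset_span h1'))
  haveI : Finite (Cfsg.isometryGroup F (⇑Q)) := inferInstance
  refine eq_top_iff.mpr ((key (E : Set _).toFinite.toFinset (fun e he => by simpa using he)).ge.trans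
    (Submodule.span_mono fun v hv e he => hv e (by simpa using he)))

theorem eig_next (h2 : (2 : F) ≠ 0) (hQ : (QuadraticMap.polarBilin Q).Nondegenerate)
    {E : Subgroup (Cfsg.isometryGroup F (⇑Q))} (hsp : Submodule.span F {v | Eig E v} = ⊤) {k : ℕ}
    (hk : k < Fintype.card ι) {w : Fin k → ι → F} (hw : ∀ i, Eig E (w i)) (hw0 : ∀ i, Q (w i) ≠ 0)
    (hwo : ∀ i j, i ≠ j → QuadraticMap.polar (⇑Q) (w i) (w j) = 0) :
    ∃ u, Eig E u ∧ Q u ≠ 0 ∧ ∀ i, QuadraticMap.polar (⇑Q) u (w i) = 0 := by
  classical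
  have hww : ∀ i, QuadraticMap.polar (⇑Q) (w i) (w i) ≠ 0 := fun i => by
    rw [QuadraticMap.polar_self, nsmul_eq_mul, Nat.cast_ofNat]; exact mul_ne_zero h2 (hw0 i)
  obtain ⟨pr, hpr⟩ : ∃ pr : (ι → F) → (ι → F), ∀ v, pr v = v - ∑ i,
      (QuadraticMap.polar (⇑Q) v (w i) / QuadraticMap.polar (⇑Q) (w i) (w i)) • w i := ⟨_, fun _ => rfl⟩
  have hprE : ∀ v, Eig E v → Eig E (pr v) := fun v hv e he => by
    obtain ⟨s, hs, hsv⟩ := hv e he
    refine ⟨s, hs, ?_⟩
    rw [hpr, map_sub, map_sum, hsv, smul_sub, Finset.smul_sum]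
    congr 1
    refine Finset.sum_congr rfl fun i _ => ?_
    obtain ⟨t, ht, hti⟩ := hw i e he
    have h := polar_ap e v (w i)
    rw [hsv, hti, QuadraticMap.polar_smul_left, QuadraticMap.polar_smul_right, smul_eq_mul, smul_eq_mul] at h
    rw [map_smul, hti, smul_smul, smul_smul]
    congr 1
    rw [div_mul_eq_mul_div, mul_div_assoc']
    congr 1
    linear_combination (-t) * h + s * QuadraticMap.polar (⇑Q) v (w i) * ht
  have hpro : ∀ v j, QuadraticMap.polar (⇑Q) (pr v) (w j) = 0 := fun v j => by
    rw [hpr, ← QuadraticMap.polarBilin_apply_apply, map_sub, map_sum, LinearMap.sub_apply, LinearMap.sum_apply,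
      Finset.sum_eq_single j (fun i _ hi => by
        rw [map_smul, LinearMap.smul_apply, QuadraticMap.polarBilin_apply_apply, hwo i j hi, smul_zero])
        (fun h => absurd (Finset.mem_univ j) h), map_smul, LinearMap.smul_apply, QuadraticMap.polarBilin_apply_apply,
      QuadraticMap.polarBilin_apply_apply, smul_eq_mul, div_mul_cancel₀ _ (hww j), sub_self]
  obtain ⟨v₀, hv₀, hv₀0⟩ : ∃ v, Eig E v ∧ pr v ≠ 0 := by
    by_contra hno
    push Not at hno
    have hle : Submodule.span F {v | Eig E v} ≤ Submodule.span F (Set.range w) := Submodule.span_le.mpr fun v hv => by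
      have h := hno v hv
      rw [hpr, sub_eq_zero] at h
      rw [SetLike.mem_coe, h]
      exact Submodule.sum_mem _ fun i _ => Submodule.smul_mem _ _ (Submodule.subset_span ⟨i, rfl⟩)
    have h := Submodule.finrank_mono hle
    rw [hsp, finrank_top, Module.finrank_fintype_fun_eq_card] at h
    have := (finrank_range_le_card (R := F) w)
    rw [Set.finrank, Fintype.card_fin] at this
    omega
  by_contra hno
  push Not at hno
  have hiso : ∀ u, Eig E u → (∀ i, QuadraticMap.polar (⇑Q) u (w i) = 0) → Q u = 0 := fun u hu ho => by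
    by_contra h
    obtain ⟨i, hi⟩ := hno u hu h
    exact hi (ho i)
  set u₀ := pr v₀ with hu₀
  obtain ⟨y, hy, hyu⟩ : ∃ y, Eig E y ∧ QuadraticMap.polar (⇑Q) u₀ y ≠ 0 := by
    by_contra hno'
    push Not at hno'
    refine hv₀0 (hQ.1 u₀ fun z => ?_)
    have hle : Submodule.span F {v | Eig E v} ≤ LinearMap.ker (QuadraticMap.polarBilin Q u₀) :=
      Submodule.span_le.mpr fun v hv => LinearMap.mem_ker.mpr (hno' v hv)
    exact LinearMap.mem_ker.mp (hle (hsp ▸ Submodule.mem_top))
  have hyu' : QuadraticMap.polar (⇑Q) u₀ (pr y) ≠ 0 := by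
    rw [hpr y, ← QuadraticMap.polarBilin_apply_apply, map_sub, map_sum, Finset.sum_eq_zero (fun i _ => by
      rw [map_smul, QuadraticMap.polarBilin_apply_apply, hpro, smul_zero]), sub_zero]
    exact hyu
  refine hyu' ?_
  have hsum : Eig E (u₀ + pr y) := fun e he => by
    obtain ⟨s, hs, hsu⟩ := hprE v₀ hv₀ e he
    obtain ⟨t, ht, hty⟩ := hprE y hy e he
    have h := polar_ap e u₀ (pr y)
    rw [hsu, hty, QuadraticMap.polar_smul_left, QuadraticMap.polar_smul_right, smul_eq_mul, smul_eq_mul] at h
    have hst : s * t = 1 := mul_right_cancel₀ hyu' (by linear_combination h)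
    refine ⟨s, hs, ?_⟩
    rw [map_add, hsu, hty, smul_add, show t = s by linear_combination (-t) * hs + s * hst]
  have h1 := hiso _ hsum (fun i => by rw [QuadraticMap.polar_add_left, hpro, hpro, add_zero])
  rw [QuadraticMap.map_add (⇑Q), hiso _ (hprE v₀ hv₀) (hpro v₀), hiso _ (hprE y hy) (hpro y), zero_add, zero_add] at h1
  exact h1

theorem eps_sum {n : ℕ} (f : Fin n → ZMod 2) : ∏ i, eps (F := F) (f i) = eps (∑ i, f i) := by
  induction n with
  | zero => simp [eps_zero]
  | succ n ih => rw [Fin.prod_univ_succ, Fin.sum_univ_succ, ih, eps_add]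

set_option maxHeartbeats 800000 in
/-- The frame of an elementary abelian group of order 32, and its normaliser. -/
theorem exists_eigen_frame (h2 : (2 : F) ≠ 0) (hn : Fintype.card ι = 6)
    (hQ : (QuadraticMap.polarBilin Q).Nondegenerate) {E : Subgroup (Cfsg.isometryGroup F (⇑Q))}
    (hcomm : ∀ x ∈ E, ∀ y ∈ E, x * y = y * x) (hinv : ∀ x ∈ E, x * x = 1) (hcard : Nat.card E = 32)
    (hΩ : E ≤ Cfsg.Omega F (⇑Q)) :
    ∃ D : Fin 6 → Submodule F (ι → F), Cfsg.Geo.IsOrthogonalMDecomposition (⇑Q) 1 D ∧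
      ∀ g : Cfsg.isometryGroup F (⇑Q), (g : GL ι F) ∈ Cfsg.Geo.decompositionStabilizer D ↔
        ∀ e ∈ E, g * e * g⁻¹ ∈ E := by
  classical
  haveI : Finite (Cfsg.isometryGroup F (⇑Q)) := inferInstance
  have hdet : ∀ e ∈ E, detHom Q e = 1 := fun e he => hom_eq_one_of_omega Q _ (hΩ he)
  have hsp := eig_span h2 hcomm hinv
  have hall : ∀ k, k ≤ 6 → ∃ w : Fin k → ι → F, (∀ i, Eig E (w i)) ∧ (∀ i, Q (w i) ≠ 0) ∧
      ∀ i j, i ≠ j → QuadraticMap.polar (⇑Q) (w i) (w j) = 0 := by
    intro k
    induction k with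
    | zero => exact fun _ => ⟨fun i => i.elim0, fun i => i.elim0, fun i => i.elim0, fun i => i.elim0⟩
    | succ k ih =>
      intro hk
      obtain ⟨w, hw, hw0, hwo⟩ := ih (by omega)
      obtain ⟨u, hu, hu0, huo⟩ := eig_next h2 hQ hsp (by omega) hw hw0 hwo
      refine ⟨Fin.cons u w, fun i => ?_, fun i => ?_, fun i j hij => ?_⟩
      · induction i using Fin.cases with
        | zero => simpa using hu
        | succ i => simpa using hw i
      · induction i using Fin.cases with
        | zero => simpa using hu0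
        | succ i => simpa using hw0 i
      · induction i using Fin.cases with
        | zero =>
          induction j using Fin.cases with
          | zero => exact absurd rfl hij
          | succ j => simpa using huo j
        | succ i =>
          induction j using Fin.cases with
          | zero => rw [Fin.cons_succ, Fin.cons_zero, QuadraticMap.polar_comm]; exact huo i
          | succ j => simpa using hwo i j (fun h => hij (by rw [h]))
  obtain ⟨w, hw, hw0, hwo⟩ := hall 6 le_rfl
  have hww : ∀ i, QuadraticMap.polar (⇑Q) (w i) (w i) ≠ 0 := fun i => by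
    rw [QuadraticMap.polar_self, nsmul_eq_mul, Nat.cast_ofNat]; exact mul_ne_zero h2 (hw0 i)
  have hli : LinearIndependent F w := Fintype.linearIndependent_iff.mpr fun c hc k => by
    have h : QuadraticMap.polarBilin Q (∑ i, c i • w i) (w k) = 0 := by rw [hc]; simp
    simp only [map_sum, map_smul, LinearMap.sum_apply, LinearMap.smul_apply, QuadraticMap.polarBilin_apply_apply,
      smul_eq_mul] at h
    rw [Finset.sum_eq_single k (fun i _ hi => by rw [hwo i k hi, mul_zero]) (fun h => absurd (Finset.mem_univ k) h)] at h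
    exact (mul_eq_zero.mp h).resolve_right (hww k)
  let b : Module.Basis (Fin 6) F (ι → F) := basisOfLinearIndependentOfCardEqFinrank hli
    (by rw [Fintype.card_fin, Module.finrank_fintype_fun_eq_card, hn])
  have hb : ∀ i, b i = w i := fun i => congrFun (coe_basisOfLinearIndependentOfCardEqFinrank hli _) i
  have hbo : ∀ i j, i ≠ j → QuadraticMap.polar (⇑Q) (b i) (b j) = 0 := fun i j h => by rw [hb, hb]; exact hwo i j h
  have hb0 : ∀ i, Q (b i) ≠ 0 := fun i => by rw [hb]; exact hw0 i
  -- isometries diagonal on the basis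
  have hdiag : ∀ (x : Cfsg.isometryGroup F (⇑Q)) (s : Fin 6 → F), (∀ i, ap x (b i) = s i • b i) →
      (detHom Q x : F) = ∏ i, s i := fun x s hs => by
    show (mat Q x).det = _
    rw [← LinearMap.det_toLin', ← LinearMap.det_toMatrix b, ← Matrix.det_diagonal]
    congr 1
    ext i j
    rw [LinearMap.toMatrix_apply, show Matrix.toLin' (mat Q x) (b j) = ap x (b j) from rfl, hs j, map_smul,
      b.repr_self, Matrix.diagonal_apply]
    by_cases h : i = j
    · subst h; simp
    · simp [h, Ne.symm h]
  have hext : ∀ x y : Cfsg.isometryGroup F (⇑Q), (∀ i, ap x (b i) = ap y (b i)) → x = y := fun x y h =>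
    ap_ext fun v => LinearMap.congr_fun (b.ext h) v
  have hsign : ∀ e ∈ E, ∀ i, ∃ t : ZMod 2, ap e (b i) = eps (F := F) t • b i := fun e he i => by
    obtain ⟨s, hs, hse⟩ := hw i e he
    rcases mul_self_eq_one_iff.mp hs with rfl | rfl
    · exact ⟨0, by rw [eps_zero, hb, hse]⟩
    · exact ⟨1, by rw [eps_one, hb, hse]⟩
  choose τ hτ using hsign
  let Φ : E → {s : Fin 6 → ZMod 2 // ∑ i, s i = 0} := fun e => ⟨τ e.1 e.2, eps_inj h2 (by
    rw [← eps_sum, ← hdiag e.1 _ (hτ e.1 e.2), hdet e.1 e.2, Units.val_one, eps_zero])⟩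
  have hΦ : Function.Bijective Φ := by
    have hinj : Function.Injective Φ := fun e e' h => Subtype.ext (hext _ _ fun i => by
      rw [hτ e.1 e.2, hτ e'.1 e'.2]
      exact congrArg (fun s => eps (F := F) (s.1 i) • b i) h)
    refine ⟨hinj, ?_⟩
    haveI := Fintype.ofFinite E
    refine (Fintype.bijective_iff_injective_and_card Φ).mpr ⟨hinj, ?_⟩ |>.2
    rw [← Nat.card_eq_fintype_card, hcard]
    exact (show Fintype.card {s : Fin 6 → ZMod 2 // ∑ i, s i = 0} = 32 by decide +kernel).symm
  have hreal : ∀ s : Fin 6 → ZMod 2, ∑ i, s i = 0 → ∃ e ∈ E, ∀ i, ap e (b i) = eps (F := F) (s i) • b i := by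
    intro s hs
    obtain ⟨e, he⟩ := hΦ.2 ⟨s, hs⟩
    refine ⟨e.1, e.2, fun i => ?_⟩
    rw [hτ e.1 e.2]
    exact congrArg (fun t => eps (F := F) (t.1 i) • b i) he
  have hmemE : ∀ x : Cfsg.isometryGroup F (⇑Q), detHom Q x = 1 → (∀ i, ∃ s : F, ap x (b i) = s • b i) → x ∈ E := by
    intro x hx hxd
    choose s hs using hxd
    have hs1 : ∀ i, ∃ t : ZMod 2, s i = eps t := fun i => by
      have h := polar_ap x (b i) (b i)
      rw [hs, QuadraticMap.polar_smul_left, QuadraticMap.polar_smul_right, smul_eq_mul, smul_eq_mul] at h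
      have h' : s i * s i = 1 := mul_right_cancel₀ (b := QuadraticMap.polar (⇑Q) (b i) (b i))
        (by rw [hb]; exact hww i) (by linear_combination h)
      rcases mul_self_eq_one_iff.mp h' with e | e
      · exact ⟨0, by rw [e, eps_zero]⟩
      · exact ⟨1, by rw [e, eps_one]⟩
    choose t ht using hs1
    obtain ⟨e, he, het⟩ := hreal t (eps_inj h2 (by
      rw [← eps_sum, eps_zero, ← Units.val_one, ← hx, hdiag x s hs]
      exact Finset.prod_congr rfl fun i _ => (ht i).symm))
    rw [hext x e fun i => by rw [hs, het, ht]]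
    exact he
  -- equal norms up to squares
  have hsq : ∀ i j, i ≠ j → IsSquare (Q (b i) * Q (b j)) := fun i j hij => by
    have hr : ∀ k l, ap (rr Q (b k)) (b l) = if l = k then (-1 : F) • b l else (1 : F) • b l := fun k l => by
      rw [rr_of _ (hb0 k), ap_apply]
      change Cfsg.reflectionMatrix (⇑Q) (b k) *ᵥ b l = _
      rw [mulVec_eq]
      split_ifs with h
      · subst h
        rw [QuadraticMap.polar_self, nsmul_eq_mul, Nat.cast_ofNat, neg_one_smul]
        rw [show (Q (b l))⁻¹ * (2 * Q (b l)) = 2 by rw [mul_comm, mul_assoc, mul_inv_cancel₀ (hb0 l), mul_one], two_smul]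
        abel
      · rw [hbo k l (Ne.symm h), mul_zero, zero_smul, sub_zero, one_smul]
    have hin : rr Q (b i) * rr Q (b j) ∈ E := hmemE _
      (by rw [map_mul, detHom_rr _ (hb0 i), detHom_rr _ (hb0 j)]; exact neg_one_mul (-1 : Fˣ) |>.trans (neg_neg 1))
      (fun l => ⟨(if l = i then (-1 : F) else 1) * (if l = j then (-1 : F) else 1), by
        rw [ap_mul, hr]
        by_cases hlj : l = j
        · rw [if_pos hlj, if_pos hlj, map_smul, hr]
          split_ifs <;> rw [smul_smul, mul_comm]
        · rw [if_neg hlj, if_neg hlj, map_smul, hr, mul_one, one_smul]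
          split_ifs <;> rfl⟩)
    have h := hom_eq_one_of_omega Q (spin Q) (hΩ hin)
    rw [map_mul, rr_of _ (hb0 i), rr_of _ (hb0 j), mul_eq_one_iff_eq_inv, Int.units_inv_eq_self] at h
    exact (spin_eq_iff Q h2 hQ (by omega) (hb0 i) (hb0 j)).mp h
  have hscale : ∀ i, ∃ c : F, c ≠ 0 ∧ Q (c • b i) = Q (b 0) := fun i => by
    rcases eq_or_ne i 0 with rfl | hi
    · exact ⟨1, one_ne_zero, by rw [one_smul]⟩
    obtain ⟨r, hr⟩ := hsq i 0 hi
    refine ⟨r / Q (b i), div_ne_zero (fun h0 => mul_ne_zero (hb0 i) (hb0 0) (by rw [hr, h0, mul_zero])) (hb0 i), ?_⟩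
    rw [QuadraticMap.map_smul, smul_eq_mul, div_mul_div_comm, ← hr]
    have := hb0 i
    field_simp
  choose c hc0 hc using hscale
  let D : Fin 6 → Submodule F (ι → F) := fun i => Submodule.span F {b i}
  have hD : Cfsg.Geo.IsOrthogonalMDecomposition (⇑Q) 1 D := by
    refine ⟨⟨⟨by norm_num, one_pos, fun i => finrank_span_singleton (b.ne_zero i),
      b.linearIndependent.iSupIndep_span_singleton, ?_⟩, fun i v hv hv0 => ?_, fun i j hij u hu v hv => ?_⟩,
      fun i j => ?_⟩
    · rw [← b.span_eq, Submodule.span_range_eq_iSup]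
    · obtain ⟨s, rfl⟩ := Submodule.mem_span_singleton.mp hv
      have hs : s ≠ 0 := fun h => hv0 (by rw [h, zero_smul])
      refine ⟨⟨b i, Submodule.mem_span_singleton_self _, ?_⟩, b i, Submodule.mem_span_singleton_self _, ?_⟩
      · rw [QuadraticMap.polar_smul_right, hb]; exact mul_ne_zero hs (hww i)
      · rw [QuadraticMap.polar_smul_left, hb]; exact mul_ne_zero hs (hww i)
    · obtain ⟨s, rfl⟩ := Submodule.mem_span_singleton.mp hu
      obtain ⟨t, rfl⟩ := Submodule.mem_span_singleton.mp hv
      rw [QuadraticMap.polar_smul_left, QuadraticMap.polar_smul_right, hbo i j hij, smul_zero, smul_zero]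
    · have hne : ∀ k, c k • b k ≠ 0 := fun k => smul_ne_zero (hc0 k) (b.ne_zero k)
      have hs : ∀ k, Submodule.span F {c k • b k} = D k := fun k =>
        Submodule.span_singleton_smul_eq (hc0 k).isUnit _
      refine ⟨(LinearEquiv.ofEq _ _ (hs i).symm).trans (((LinearEquiv.toSpanNonzeroSingleton F _ _ (hne i)).symm.trans
        (LinearEquiv.toSpanNonzeroSingleton F _ _ (hne j))).trans (LinearEquiv.ofEq _ _ (hs j))), fun v => ?_⟩
      obtain ⟨v', rfl⟩ := (LinearEquiv.ofEq _ _ (hs i)).surjective v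
      obtain ⟨s, rfl⟩ := (LinearEquiv.toSpanNonzeroSingleton F _ _ (hne i)).surjective v'
      show Q (((LinearEquiv.toSpanNonzeroSingleton F _ _ (hne j))
        ((LinearEquiv.toSpanNonzeroSingleton F _ _ (hne i)).symm
          (LinearEquiv.toSpanNonzeroSingleton F _ _ (hne i) s)) : ι → F)) = Q (s • (c i • b i))
      rw [LinearEquiv.symm_apply_apply]
      show Q (s • (c j • b j)) = _
      rw [QuadraticMap.map_smul Q s, QuadraticMap.map_smul Q s (c i • b i), hc, hc]
  refine ⟨D, hD, fun g => ⟨?_, fun hg => ?_⟩⟩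
  · rintro ⟨σ, hσ⟩ e he
    have hgb : ∀ i, ∃ a : F, a ≠ 0 ∧ ap g (b i) = a • b (σ i) := fun i => by
      have h : ap g (b i) ∈ D (σ i) := by
        rw [← hσ i]; exact Submodule.mem_map_of_mem (Submodule.mem_span_singleton_self _)
      obtain ⟨a, ha⟩ := Submodule.mem_span_singleton.mp h
      exact ⟨a, fun h0 => b.ne_zero i (ap_injective g (by rw [← ha, h0, zero_smul, map_zero])), ha.symm⟩
    refine hmemE _ (by rw [map_mul, map_mul, hdet e he, mul_one, ← map_mul, mul_inv_cancel, map_one]) fun k => ?_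
    obtain ⟨i, rfl⟩ := σ.surjective k
    obtain ⟨a, ha0, ha⟩ := hgb i
    refine ⟨eps (F := F) (τ e he i), ?_⟩
    have hinvb : ap g⁻¹ (b (σ i)) = a⁻¹ • b i := by
      rw [← ap_inv_ap g (b i), ha, map_smul, smul_smul, inv_mul_cancel₀ ha0, one_smul]
    rw [ap_mul, ap_mul, hinvb, map_smul, hτ e he i, smul_smul, map_smul, ha, smul_smul]
    congr 1
    field_simp
  · have hsurj : ∀ e' ∈ E, ∃ e ∈ E, g * e * g⁻¹ = e' := by
      have hbij : Function.Bijective fun e : E => (⟨g * e.1 * g⁻¹, hg _ e.2⟩ : E) := by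
        refine Finite.injective_iff_bijective.mp fun x y hxy => Subtype.ext ?_
        simpa using congrArg Subtype.val hxy
      intro e' he'
      obtain ⟨e, he⟩ := hbij.2 ⟨e', he'⟩
      exact ⟨e.1, e.2, congrArg Subtype.val he⟩
    have hline : ∀ i, ∃ j, ∃ a : F, a ≠ 0 ∧ ap g (b i) = a • b j := by
      intro i
      set u := ap g (b i) with hu
      have hu0 : u ≠ 0 := fun h => b.ne_zero i (ap_injective g (h.trans (map_zero (ap g)).symm))
      have heu : ∀ e' ∈ E, ∃ s : F, ap e' u = s • u := fun e' he' => by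
        obtain ⟨e, he, rfl⟩ := hsurj e' he'
        exact ⟨eps (F := F) (τ e he i), by rw [hu, ap_mul, ap_inv_ap, ap_mul, hτ e he, map_smul]⟩
      obtain ⟨j, hj⟩ : ∃ j, b.repr u j ≠ 0 := by
        by_contra hno
        push Not at hno
        exact hu0 (b.repr.map_eq_zero_iff.mp (Finsupp.ext fun j => hno j))
      have hother : ∀ l, l ≠ j → b.repr u l = 0 := fun l hl => by
        by_contra hl0
        obtain ⟨k, hkl, hkj⟩ := (show ∀ x y : Fin 6, ∃ k, k ≠ x ∧ k ≠ y by decide) l j
        obtain ⟨e', he', het⟩ := hreal (fun m => if m = j ∨ m = k then 1 else 0)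
          ((show ∀ x y : Fin 6, x ≠ y → (∑ m, if m = x ∨ m = y then (1 : ZMod 2) else 0) = 0 by decide +kernel)
            j k (Ne.symm hkj))
        obtain ⟨s, hs⟩ := heu e' he'
        have hco : ∀ m, eps (F := F) (if m = j ∨ m = k then 1 else 0) * b.repr u m = s * b.repr u m := fun m => by
          have h := congrArg (fun v => b.repr v m) hs
          conv_lhs at h => rw [← b.sum_repr u, map_sum]
          simp only [map_smul, het, map_sum, Finsupp.coe_finset_sum, Finset.sum_apply, b.repr_self, Finsupp.smul_apply,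
            Finsupp.single_apply, smul_eq_mul, mul_ite, mul_one, mul_zero, Finset.sum_ite_eq', Finset.mem_univ,
            if_true] at h
          linear_combination h
        have h1 := mul_right_cancel₀ hj (hco j)
        have h2' := mul_right_cancel₀ hl0 (hco l)
        rw [← h2', if_pos (Or.inl rfl), if_neg (not_or.mpr ⟨hl, Ne.symm hkl⟩)] at h1
        exact absurd (eps_inj h2 h1) one_ne_zero
      refine ⟨j, b.repr u j, hj, ?_⟩
      conv_lhs => rw [← b.sum_repr u, Finset.sum_eq_single j (fun l _ hl => by rw [hother l hl, zero_smul])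
        (fun h => absurd (Finset.mem_univ j) h)]
    choose σ a ha0 hσ using hline
    have hσi : Function.Injective σ := fun i j hij => by
      by_contra hne
      have h := polar_ap g (b i) (b j)
      rw [hbo i j hne, hσ i, hσ j, hij, QuadraticMap.polar_smul_left, QuadraticMap.polar_smul_right, hb] at h
      exact mul_ne_zero (ha0 i) (mul_ne_zero (ha0 j) (hww _)) h
    refine ⟨Equiv.ofBijective σ (Finite.injective_iff_bijective.mp hσi), fun i => ?_⟩
    show (Submodule.span F {b i}).map _ = _
    rw [Submodule.map_span, Set.image_singleton,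
      show Matrix.toLin' ((g : GL ι F) : Matrix ι ι F) (b i) = a i • b (σ i) from hσ i]
    exact Submodule.span_singleton_smul_eq (ha0 i).isUnit _

end Cfsg.Lib.Classical.OFr
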